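import Mathlib
import Cfsg.Agent.Lib.SPC.M2a

set_option autoImplicit false
set_option maxRecDepth 100000

namespace H87.Spc

open H54

variable {V : Type*} [AddCommGroup V] [Module (ZMod 2) V]
  {ρ : Representation (ZMod 2) (alternatingGroup (Fin 9)) V}

def e1_rs : List Wd :=
    [[], [7], [8], [7, 7], [8, 7], [7, 8], [8, 8], [7, 7, 7], [8, 7, 7], [7, 8, 7], [8, 8, 7], [7, 7, 8], [8, 7, 8], [7, 8, 8], [7, 7, 7, 7], [8, 7,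
    7, 7], [7, 8, 7, 7], [8, 8, 7, 7], [7, 7, 8, 7], [8, 7, 8, 7], [7, 8, 8, 7], [7, 7, 7, 8], [8, 7, 7, 8], [7, 8, 7, 8], [8, 8, 7, 8], [7, 7, 8,
    8], [8, 7, 8, 8], [7, 7, 7, 7, 7], [8, 7, 7, 7, 7], [7, 8, 7, 7, 7], [8, 8, 7, 7, 7], [7, 7, 8, 7, 7], [7, 8, 8, 7, 7], [7, 7, 7, 8, 7], [8, 7,
    7, 8, 7], [8, 8, 7, 8, 7], [7, 7, 8, 8, 7], [8, 7, 8, 8, 7], [8, 7, 7, 7, 8], [7, 8, 7, 7, 8], [8, 8, 7, 7, 8], [7, 7, 8, 7, 8], [8, 7, 8, 7, 8],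
    [7, 8, 8, 7, 8], [7, 7, 7, 8, 8], [8, 7, 7, 8, 8], [7, 8, 7, 8, 8], [8, 8, 7, 8, 8], [7, 7, 7, 7, 7, 7], [8, 7, 7, 7, 7, 7], [7, 8, 7, 7, 7, 7],
    [8, 8, 7, 7, 7, 7], [8, 7, 8, 7, 7, 7], [7, 8, 8, 7, 7, 7], [7, 7, 7, 8, 7, 7], [8, 7, 7, 8, 7, 7], [7, 7, 8, 8, 7, 7], [8, 7, 8, 8, 7, 7], [7,
    7, 7, 7, 8, 7], [8, 7, 7, 7, 8, 7], [7, 8, 7, 7, 8, 7], [7, 8, 8, 7, 8, 7], [7, 7, 7, 8, 8, 7], [8, 7, 7, 8, 8, 7], [7, 8, 7, 8, 8, 7], [8, 8, 7,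
    8, 8, 7], [7, 8, 7, 7, 7, 8], [8, 8, 7, 7, 7, 8], [7, 7, 8, 7, 7, 8], [8, 7, 8, 7, 7, 8], [7, 8, 8, 7, 7, 8], [8, 7, 7, 8, 7, 8], [7, 8, 7, 8, 7,
    8], [8, 8, 7, 8, 7, 8], [7, 7, 8, 8, 7, 8], [8, 7, 8, 8, 7, 8], [8, 7, 7, 7, 8, 8], [7, 8, 7, 7, 8, 8], [8, 8, 7, 7, 8, 8], [8, 7, 8, 7, 8, 8],
    [7, 8, 8, 7, 8, 8], [7, 7, 7, 7, 7, 7, 7], [8, 7, 7, 7, 7, 7, 7], [7, 8, 7, 7, 7, 7, 7], [7, 7, 8, 7, 7, 7, 7], [7, 8, 7, 8, 7, 7, 7], [8, 8, 7,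
    8, 7, 7, 7], [7, 7, 8, 8, 7, 7, 7], [8, 7, 8, 8, 7, 7, 7], [7, 7, 7, 7, 8, 7, 7], [8, 7, 7, 7, 8, 7, 7], [7, 8, 7, 7, 8, 7, 7], [8, 8, 7, 7, 8,
    7, 7], [7, 7, 7, 8, 8, 7, 7], [8, 7, 7, 8, 8, 7, 7], [7, 8, 7, 8, 8, 7, 7], [8, 8, 7, 8, 8, 7, 7], [7, 7, 7, 7, 7, 8, 7], [8, 7, 7, 7, 7, 8, 7],
    [7, 8, 7, 7, 7, 8, 7], [8, 8, 7, 7, 7, 8, 7], [7, 7, 8, 7, 7, 8, 7], [7, 7, 8, 8, 7, 8, 7], [8, 7, 8, 8, 7, 8, 7], [7, 7, 7, 7, 8, 8, 7], [8, 7,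
    7, 7, 8, 8, 7], [7, 8, 7, 7, 8, 8, 7], [7, 7, 8, 7, 8, 8, 7], [7, 8, 8, 7, 8, 8, 7], [7, 8, 8, 7, 7, 7, 8], [7, 7, 7, 8, 7, 7, 8], [8, 7, 7, 8,
    7, 7, 8], [8, 8, 7, 8, 7, 7, 8], [7, 7, 8, 8, 7, 7, 8], [8, 7, 8, 8, 7, 7, 8], [7, 8, 8, 7, 8, 7, 8], [8, 7, 7, 8, 8, 7, 8], [7, 8, 7, 8, 8, 7,
    8], [8, 8, 7, 8, 8, 7, 8], [7, 8, 7, 7, 7, 8, 8], [7, 7, 8, 7, 7, 8, 8], [7, 8, 8, 7, 7, 8, 8], [8, 8, 7, 8, 7, 8, 8], [7, 7, 8, 8, 7, 8, 8], [8,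
    7, 8, 8, 7, 8, 8], [7, 7, 7, 7, 7, 7, 7, 7], [8, 7, 7, 7, 7, 7, 7, 7], [7, 8, 7, 7, 7, 7, 7, 7], [8, 8, 7, 7, 7, 7, 7, 7], [7, 7, 8, 7, 7, 7, 7,
    7], [8, 7, 8, 7, 7, 7, 7, 7], [7, 7, 7, 8, 7, 7, 7, 7], [7, 7, 8, 7, 8, 7, 7, 7], [7, 7, 7, 8, 8, 7, 7, 7], [8, 7, 7, 8, 8, 7, 7, 7], [7, 7, 7,
    7, 7, 8, 7, 7], [8, 7, 7, 7, 7, 8, 7, 7], [7, 8, 7, 7, 7, 8, 7, 7], [7, 7, 8, 7, 7, 8, 7, 7], [7, 8, 8, 7, 7, 8, 7, 7], [7, 7, 7, 7, 8, 8, 7, 7],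
    [8, 7, 7, 7, 8, 8, 7, 7], [7, 8, 7, 7, 8, 8, 7, 7], [8, 8, 7, 7, 8, 8, 7, 7], [7, 7, 8, 7, 8, 8, 7, 7], [8, 7, 8, 7, 8, 8, 7, 7], [7, 8, 8, 7, 8,
    8, 7, 7], [7, 7, 7, 7, 7, 7, 8, 7], [8, 7, 7, 7, 7, 7, 8, 7], [7, 8, 7, 7, 7, 7, 8, 7], [7, 7, 8, 7, 7, 7, 8, 7], [7, 7, 7, 8, 7, 7, 8, 7], [7,
    7, 7, 8, 8, 7, 8, 7], [8, 7, 7, 8, 8, 7, 8, 7], [7, 8, 7, 8, 8, 7, 8, 7], [8, 8, 7, 8, 8, 7, 8, 7], [7, 7, 7, 7, 7, 8, 8, 7], [8, 7, 7, 7, 7, 8,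
    8, 7], [7, 8, 7, 7, 7, 8, 8, 7], [8, 8, 7, 7, 7, 8, 8, 7], [7, 7, 8, 7, 7, 8, 8, 7], [8, 7, 8, 7, 7, 8, 8, 7], [7, 7, 7, 8, 7, 8, 8, 7], [8, 7,
    7, 8, 7, 8, 8, 7], [7, 7, 8, 8, 7, 8, 8, 7], [8, 7, 8, 8, 7, 8, 8, 7], [8, 7, 8, 8, 7, 7, 7, 8], [7, 7, 7, 7, 8, 7, 7, 8], [7, 8, 8, 7, 8, 7, 7,
    8], [7, 7, 7, 8, 8, 7, 7, 8], [8, 7, 7, 8, 8, 7, 7, 8], [7, 8, 7, 8, 8, 7, 7, 8], [8, 8, 7, 8, 8, 7, 7, 8], [8, 7, 8, 8, 7, 8, 7, 8], [7, 8, 7,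
    7, 8, 8, 7, 8], [8, 8, 7, 7, 8, 8, 7, 8], [7, 8, 8, 7, 8, 8, 7, 8], [8, 7, 7, 8, 7, 7, 8, 8], [7, 7, 8, 8, 7, 7, 8, 8], [8, 7, 8, 8, 7, 7, 8, 8],
    [7, 8, 8, 7, 8, 7, 8, 8], [8, 7, 7, 8, 8, 7, 8, 8], [8, 8, 7, 8, 8, 7, 8, 8], [8, 7, 7, 7, 7, 7, 7, 7, 7], [7, 8, 7, 7, 7, 7, 7, 7, 7], [7, 7, 8,
    7, 7, 7, 7, 7, 7], [7, 8, 8, 7, 7, 7, 7, 7, 7], [8, 7, 7, 8, 7, 7, 7, 7, 7], [7, 8, 7, 8, 7, 7, 7, 7, 7], [7, 7, 7, 7, 8, 7, 7, 7, 7], [8, 7, 7,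
    7, 8, 7, 7, 7, 7], [7, 7, 7, 8, 7, 8, 7, 7, 7], [8, 7, 7, 8, 7, 8, 7, 7, 7], [7, 7, 7, 7, 8, 8, 7, 7, 7], [8, 7, 7, 7, 8, 8, 7, 7, 7], [7, 8, 7,
    7, 8, 8, 7, 7, 7], [7, 7, 7, 7, 7, 7, 8, 7, 7], [8, 7, 7, 7, 7, 7, 8, 7, 7], [7, 8, 7, 7, 7, 7, 8, 7, 7], [8, 8, 7, 7, 7, 7, 8, 7, 7], [7, 7, 8,
    7, 7, 7, 8, 7, 7], [8, 7, 8, 7, 7, 7, 8, 7, 7], [7, 7, 7, 8, 7, 7, 8, 7, 7], [7, 7, 8, 8, 7, 7, 8, 7, 7], [7, 7, 7, 7, 7, 8, 8, 7, 7], [8, 7, 7,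
    7, 7, 8, 8, 7, 7], [7, 8, 7, 7, 7, 8, 8, 7, 7], [7, 7, 8, 7, 7, 8, 8, 7, 7], [8, 7, 8, 7, 7, 8, 8, 7, 7], [7, 8, 8, 7, 7, 8, 8, 7, 7], [7, 7, 7,
    8, 7, 8, 8, 7, 7], [7, 8, 7, 8, 7, 8, 8, 7, 7], [8, 8, 7, 8, 7, 8, 8, 7, 7], [7, 7, 8, 8, 7, 8, 8, 7, 7], [8, 7, 8, 8, 7, 8, 8, 7, 7], [7, 7, 7,
    7, 7, 7, 7, 8, 7], [8, 7, 7, 7, 7, 7, 7, 8, 7], [7, 8, 7, 7, 7, 7, 7, 8, 7], [8, 8, 7, 7, 7, 7, 7, 8, 7], [7, 7, 8, 7, 7, 7, 7, 8, 7], [8, 7, 8,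
    7, 7, 7, 7, 8, 7], [7, 7, 7, 8, 7, 7, 7, 8, 7], [8, 7, 7, 8, 7, 7, 7, 8, 7], [7, 7, 7, 7, 8, 7, 7, 8, 7], [8, 7, 7, 7, 8, 7, 7, 8, 7], [7, 7, 7,
    7, 8, 8, 7, 8, 7], [8, 7, 7, 7, 8, 8, 7, 8, 7], [7, 8, 7, 7, 8, 8, 7, 8, 7], [7, 8, 8, 7, 8, 8, 7, 8, 7], [7, 7, 7, 7, 7, 7, 8, 8, 7], [8, 7, 7,
    7, 7, 7, 8, 8, 7], [7, 8, 7, 7, 7, 7, 8, 8, 7], [7, 7, 8, 7, 7, 7, 8, 8, 7], [7, 7, 7, 8, 7, 7, 8, 8, 7], [7, 8, 7, 8, 7, 7, 8, 8, 7], [8, 8, 7,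
    8, 7, 7, 8, 8, 7], [7, 7, 7, 7, 8, 7, 8, 8, 7], [8, 7, 7, 7, 8, 7, 8, 8, 7], [7, 7, 7, 8, 8, 7, 8, 8, 7], [8, 7, 7, 8, 8, 7, 8, 8, 7], [7, 8, 7,
    8, 8, 7, 8, 8, 7], [8, 8, 7, 8, 8, 7, 8, 8, 7], [7, 7, 7, 7, 7, 8, 7, 7, 8], [8, 7, 7, 7, 7, 8, 7, 7, 8], [7, 7, 7, 7, 8, 8, 7, 7, 8], [7, 8, 7,
    7, 8, 8, 7, 7, 8], [7, 7, 8, 7, 8, 8, 7, 7, 8], [7, 8, 8, 7, 8, 8, 7, 7, 8], [8, 8, 7, 8, 8, 7, 8, 7, 8], [7, 8, 8, 7, 7, 8, 8, 7, 8], [7, 7, 8,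
    8, 7, 8, 8, 7, 8], [8, 7, 8, 8, 7, 8, 8, 7, 8], [8, 7, 7, 8, 8, 7, 7, 8, 8], [7, 8, 7, 8, 8, 7, 7, 8, 8], [8, 8, 7, 8, 8, 7, 7, 8, 8], [7, 7, 8,
    8, 7, 8, 7, 8, 8], [8, 7, 8, 8, 7, 8, 7, 8, 8], [7, 8, 7, 7, 8, 8, 7, 8, 8], [7, 8, 8, 7, 8, 8, 7, 8, 8], [7, 7, 8, 7, 7, 7, 7, 7, 7, 7], [8, 7,
    8, 7, 7, 7, 7, 7, 7, 7], [7, 7, 7, 8, 7, 7, 7, 7, 7, 7], [8, 7, 7, 8, 7, 7, 7, 7, 7, 7], [7, 7, 8, 8, 7, 7, 7, 7, 7, 7], [8, 7, 8, 8, 7, 7, 7, 7,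
    7, 7], [7, 8, 7, 7, 8, 7, 7, 7, 7, 7], [7, 8, 7, 7, 7, 8, 7, 7, 7, 7], [7, 7, 7, 7, 8, 7, 8, 7, 7, 7], [8, 7, 7, 7, 8, 7, 8, 7, 7, 7], [7, 8, 7,
    7, 8, 7, 8, 7, 7, 7], [8, 8, 7, 7, 8, 7, 8, 7, 7, 7], [7, 7, 7, 7, 7, 8, 8, 7, 7, 7], [8, 7, 7, 7, 7, 8, 8, 7, 7, 7], [7, 8, 7, 7, 7, 8, 8, 7, 7,
    7], [7, 7, 8, 7, 7, 8, 8, 7, 7, 7], [7, 7, 7, 7, 7, 7, 7, 8, 7, 7], [8, 7, 7, 7, 7, 7, 7, 8, 7, 7], [7, 8, 7, 7, 7, 7, 7, 8, 7, 7], [7, 7, 8, 7,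
    7, 7, 7, 8, 7, 7], [7, 8, 8, 7, 7, 7, 7, 8, 7, 7], [8, 7, 7, 8, 7, 7, 7, 8, 7, 7], [7, 8, 7, 8, 7, 7, 7, 8, 7, 7], [8, 8, 7, 8, 7, 7, 7, 8, 7,
    7], [7, 7, 7, 7, 8, 7, 7, 8, 7, 7], [8, 7, 7, 7, 8, 7, 7, 8, 7, 7], [7, 7, 7, 8, 8, 7, 7, 8, 7, 7], [8, 7, 7, 8, 8, 7, 7, 8, 7, 7], [7, 7, 7, 7,
    7, 7, 8, 8, 7, 7], [8, 7, 7, 7, 7, 7, 8, 8, 7, 7], [7, 8, 7, 7, 7, 7, 8, 8, 7, 7], [8, 8, 7, 7, 7, 7, 8, 8, 7, 7], [7, 7, 8, 7, 7, 7, 8, 8, 7,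
    7], [8, 7, 8, 7, 7, 7, 8, 8, 7, 7], [7, 7, 7, 8, 7, 7, 8, 8, 7, 7], [8, 7, 7, 8, 7, 7, 8, 8, 7, 7], [7, 8, 7, 8, 7, 7, 8, 8, 7, 7], [8, 8, 7, 8,
    7, 7, 8, 8, 7, 7], [7, 7, 8, 8, 7, 7, 8, 8, 7, 7], [8, 7, 8, 8, 7, 7, 8, 8, 7, 7], [7, 7, 7, 7, 8, 7, 8, 8, 7, 7], [8, 7, 7, 7, 8, 7, 8, 8, 7,
    7], [7, 7, 8, 7, 8, 7, 8, 8, 7, 7], [7, 7, 7, 8, 8, 7, 8, 8, 7, 7], [8, 7, 7, 8, 8, 7, 8, 8, 7, 7], [8, 8, 7, 8, 8, 7, 8, 8, 7, 7], [8, 7, 7, 7,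
    7, 7, 7, 7, 8, 7], [7, 8, 7, 7, 7, 7, 7, 7, 8, 7], [7, 7, 8, 7, 7, 7, 7, 7, 8, 7], [7, 8, 8, 7, 7, 7, 7, 7, 8, 7], [7, 7, 7, 8, 7, 7, 7, 7, 8,
    7], [8, 7, 7, 8, 7, 7, 7, 7, 8, 7], [7, 8, 7, 8, 7, 7, 7, 7, 8, 7], [8, 7, 7, 7, 8, 7, 7, 7, 8, 7], [7, 8, 7, 7, 8, 7, 7, 7, 8, 7], [8, 8, 7, 7,
    8, 7, 7, 7, 8, 7], [7, 7, 7, 7, 7, 8, 7, 7, 8, 7], [8, 7, 7, 7, 7, 8, 7, 7, 8, 7], [7, 8, 7, 7, 7, 8, 7, 7, 8, 7], [8, 8, 7, 7, 7, 8, 7, 7, 8,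
    7], [7, 7, 7, 7, 7, 8, 8, 7, 8, 7], [8, 7, 7, 7, 7, 8, 8, 7, 8, 7], [7, 8, 7, 7, 7, 8, 8, 7, 8, 7], [7, 7, 8, 7, 7, 8, 8, 7, 8, 7], [8, 7, 8, 8,
    7, 8, 8, 7, 8, 7], [8, 7, 7, 7, 7, 7, 7, 8, 8, 7], [7, 8, 7, 7, 7, 7, 7, 8, 8, 7], [8, 8, 7, 7, 7, 7, 7, 8, 8, 7], [7, 7, 8, 7, 7, 7, 7, 8, 8,
    7], [8, 7, 8, 7, 7, 7, 7, 8, 8, 7], [7, 7, 7, 8, 7, 7, 7, 8, 8, 7], [8, 7, 7, 8, 7, 7, 7, 8, 8, 7], [7, 7, 7, 7, 8, 7, 7, 8, 8, 7], [8, 7, 7, 7,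
    8, 7, 7, 8, 8, 7], [7, 7, 8, 7, 8, 7, 7, 8, 8, 7], [7, 7, 7, 7, 7, 8, 7, 8, 8, 7], [8, 7, 7, 7, 7, 8, 7, 8, 8, 7], [7, 8, 7, 7, 7, 8, 7, 8, 8,
    7], [7, 7, 7, 7, 8, 8, 7, 8, 8, 7], [8, 7, 7, 7, 8, 8, 7, 8, 8, 7], [8, 8, 7, 7, 8, 8, 7, 8, 8, 7], [7, 7, 8, 7, 8, 8, 7, 8, 8, 7], [7, 8, 8, 7,
    8, 8, 7, 8, 8, 7], [7, 7, 7, 7, 7, 7, 8, 7, 7, 8], [8, 7, 7, 7, 7, 7, 8, 7, 7, 8], [7, 8, 7, 7, 7, 7, 8, 7, 7, 8], [7, 7, 7, 7, 7, 8, 8, 7, 7,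
    8], [8, 7, 7, 7, 7, 8, 8, 7, 7, 8], [7, 7, 8, 7, 7, 8, 8, 7, 7, 8], [8, 7, 8, 7, 7, 8, 8, 7, 7, 8], [7, 7, 7, 8, 7, 8, 8, 7, 7, 8], [7, 7, 8, 8,
    7, 8, 8, 7, 7, 8], [8, 7, 8, 8, 7, 8, 8, 7, 7, 8], [7, 8, 8, 7, 8, 8, 7, 8, 7, 8], [8, 7, 8, 8, 7, 7, 8, 8, 7, 8], [7, 7, 7, 8, 8, 7, 8, 8, 7,
    8], [8, 7, 7, 8, 8, 7, 8, 8, 7, 8], [8, 8, 7, 8, 8, 7, 8, 8, 7, 8], [7, 8, 7, 7, 8, 8, 7, 7, 8, 8], [8, 8, 7, 7, 8, 8, 7, 7, 8, 8], [7, 8, 8, 7,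
    8, 8, 7, 7, 8, 8], [8, 7, 7, 8, 8, 7, 8, 7, 8, 8], [8, 8, 7, 8, 8, 7, 8, 7, 8, 8], [7, 7, 8, 8, 7, 8, 8, 7, 8, 8], [8, 7, 8, 8, 7, 8, 8, 7, 8,
    8], [8, 7, 7, 8, 7, 7, 7, 7, 7, 7, 7], [7, 8, 7, 8, 7, 7, 7, 7, 7, 7, 7], [8, 8, 7, 8, 7, 7, 7, 7, 7, 7, 7], [7, 8, 7, 7, 8, 7, 7, 7, 7, 7, 7],
    [7, 7, 7, 8, 8, 7, 7, 7, 7, 7, 7], [8, 7, 7, 8, 8, 7, 7, 7, 7, 7, 7], [7, 8, 7, 8, 8, 7, 7, 7, 7, 7, 7], [8, 8, 7, 8, 8, 7, 7, 7, 7, 7, 7], [7,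
    7, 8, 7, 7, 8, 7, 7, 7, 7, 7], [7, 7, 8, 7, 7, 7, 8, 7, 7, 7, 7], [7, 7, 7, 7, 7, 8, 7, 8, 7, 7, 7], [8, 7, 7, 7, 7, 8, 7, 8, 7, 7, 7], [7, 8, 7,
    7, 7, 8, 7, 8, 7, 7, 7], [7, 7, 8, 7, 7, 8, 7, 8, 7, 7, 7], [7, 8, 8, 7, 7, 8, 7, 8, 7, 7, 7], [7, 7, 7, 7, 7, 7, 8, 8, 7, 7, 7], [7, 8, 7, 7, 7,
    7, 8, 8, 7, 7, 7], [7, 7, 8, 7, 7, 7, 8, 8, 7, 7, 7], [8, 7, 7, 8, 7, 7, 8, 8, 7, 7, 7], [7, 7, 7, 7, 7, 7, 7, 7, 8, 7, 7], [8, 7, 7, 7, 7, 7, 7,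
    7, 8, 7, 7], [7, 8, 7, 7, 7, 7, 7, 7, 8, 7, 7], [7, 7, 8, 7, 7, 7, 7, 7, 8, 7, 7], [8, 7, 8, 7, 7, 7, 7, 7, 8, 7, 7], [7, 7, 7, 8, 7, 7, 7, 7, 8,
    7, 7], [8, 7, 7, 8, 7, 7, 7, 7, 8, 7, 7], [7, 7, 8, 8, 7, 7, 7, 7, 8, 7, 7], [8, 7, 8, 8, 7, 7, 7, 7, 8, 7, 7], [7, 8, 7, 7, 8, 7, 7, 7, 8, 7,
    7], [7, 8, 8, 7, 8, 7, 7, 7, 8, 7, 7], [7, 7, 7, 7, 7, 8, 7, 7, 8, 7, 7], [7, 8, 7, 7, 7, 8, 7, 7, 8, 7, 7], [7, 7, 7, 7, 8, 8, 7, 7, 8, 7, 7],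
    [8, 7, 7, 7, 8, 8, 7, 7, 8, 7, 7], [7, 8, 7, 7, 8, 8, 7, 7, 8, 7, 7], [8, 8, 7, 7, 8, 8, 7, 7, 8, 7, 7], [8, 7, 7, 7, 7, 7, 7, 8, 8, 7, 7], [7,
    8, 7, 7, 7, 7, 7, 8, 8, 7, 7], [7, 7, 8, 7, 7, 7, 7, 8, 8, 7, 7], [7, 8, 8, 7, 7, 7, 7, 8, 8, 7, 7], [8, 7, 7, 8, 7, 7, 7, 8, 8, 7, 7], [7, 8, 7,
    8, 7, 7, 7, 8, 8, 7, 7], [8, 8, 7, 8, 7, 7, 7, 8, 8, 7, 7], [7, 7, 7, 7, 8, 7, 7, 8, 8, 7, 7], [8, 7, 7, 7, 8, 7, 7, 8, 8, 7, 7], [7, 8, 7, 7, 8,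
    7, 7, 8, 8, 7, 7], [8, 8, 7, 7, 8, 7, 7, 8, 8, 7, 7], [7, 7, 8, 7, 8, 7, 7, 8, 8, 7, 7], [8, 7, 8, 7, 8, 7, 7, 8, 8, 7, 7], [7, 8, 8, 7, 8, 7, 7,
    8, 8, 7, 7], [7, 7, 7, 8, 8, 7, 7, 8, 8, 7, 7], [8, 7, 7, 8, 8, 7, 7, 8, 8, 7, 7], [7, 8, 7, 8, 8, 7, 7, 8, 8, 7, 7], [7, 7, 7, 7, 7, 8, 7, 8, 8,
    7, 7], [8, 7, 7, 7, 7, 8, 7, 8, 8, 7, 7], [7, 8, 7, 7, 7, 8, 7, 8, 8, 7, 7], [8, 8, 7, 7, 7, 8, 7, 8, 8, 7, 7], [7, 7, 7, 8, 7, 8, 7, 8, 8, 7,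
    7], [8, 7, 7, 8, 7, 8, 7, 8, 8, 7, 7], [7, 7, 7, 7, 8, 8, 7, 8, 8, 7, 7], [8, 7, 7, 7, 8, 8, 7, 8, 8, 7, 7], [7, 8, 7, 7, 8, 8, 7, 8, 8, 7, 7],
    [8, 8, 7, 7, 8, 8, 7, 8, 8, 7, 7], [8, 7, 8, 7, 7, 7, 7, 7, 7, 8, 7], [8, 7, 7, 8, 7, 7, 7, 7, 7, 8, 7], [7, 7, 8, 8, 7, 7, 7, 7, 7, 8, 7], [8,
    7, 8, 8, 7, 7, 7, 7, 7, 8, 7], [7, 8, 7, 7, 8, 7, 7, 7, 7, 8, 7], [7, 7, 8, 7, 8, 7, 7, 7, 7, 8, 7], [7, 8, 7, 7, 7, 8, 7, 7, 7, 8, 7], [7, 8, 8,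
    7, 7, 8, 7, 7, 7, 8, 7], [7, 7, 7, 7, 7, 7, 8, 7, 7, 8, 7], [7, 8, 7, 7, 7, 7, 8, 7, 7, 8, 7], [7, 7, 8, 7, 7, 7, 8, 7, 7, 8, 7], [7, 8, 8, 7, 7,
    7, 8, 7, 7, 8, 7], [7, 7, 7, 7, 7, 7, 8, 8, 7, 8, 7], [8, 7, 7, 7, 7, 7, 8, 8, 7, 8, 7], [7, 8, 7, 7, 7, 7, 8, 8, 7, 8, 7], [8, 8, 7, 7, 7, 7, 8,
    8, 7, 8, 7], [7, 7, 8, 7, 7, 7, 8, 8, 7, 8, 7], [8, 7, 8, 7, 7, 7, 8, 8, 7, 8, 7], [7, 7, 7, 8, 7, 7, 8, 8, 7, 8, 7], [8, 8, 7, 8, 8, 7, 8, 8, 7,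
    8, 7], [7, 8, 8, 7, 7, 7, 7, 7, 8, 8, 7], [8, 7, 7, 8, 7, 7, 7, 7, 8, 8, 7], [7, 8, 7, 8, 7, 7, 7, 7, 8, 8, 7], [8, 8, 7, 8, 7, 7, 7, 7, 8, 8,
    7], [8, 7, 7, 7, 8, 7, 7, 7, 8, 8, 7], [7, 8, 7, 7, 8, 7, 7, 7, 8, 8, 7], [8, 8, 7, 7, 8, 7, 7, 7, 8, 8, 7], [7, 7, 7, 7, 7, 8, 7, 7, 8, 8, 7],
    [8, 7, 7, 7, 7, 8, 7, 7, 8, 8, 7], [7, 8, 7, 7, 7, 8, 7, 7, 8, 8, 7], [8, 8, 7, 7, 7, 8, 7, 7, 8, 8, 7], [7, 7, 7, 8, 7, 8, 7, 7, 8, 8, 7], [8,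
    7, 7, 8, 7, 8, 7, 7, 8, 8, 7], [7, 7, 7, 7, 7, 7, 8, 7, 8, 8, 7], [8, 7, 7, 7, 7, 7, 8, 7, 8, 8, 7], [7, 8, 7, 7, 7, 7, 8, 7, 8, 8, 7], [8, 8, 7,
    7, 7, 7, 8, 7, 8, 8, 7], [7, 7, 8, 7, 7, 7, 8, 7, 8, 8, 7], [8, 7, 8, 7, 7, 7, 8, 7, 8, 8, 7], [7, 7, 7, 7, 7, 8, 8, 7, 8, 8, 7], [8, 7, 7, 7, 7,
    8, 8, 7, 8, 8, 7], [7, 8, 7, 7, 7, 8, 8, 7, 8, 8, 7], [7, 7, 7, 8, 7, 8, 8, 7, 8, 8, 7], [8, 7, 8, 8, 7, 8, 8, 7, 8, 8, 7], [7, 7, 7, 7, 7, 7, 7,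
    8, 7, 7, 8], [7, 8, 7, 7, 7, 7, 7, 8, 7, 7, 8], [7, 7, 8, 7, 7, 7, 7, 8, 7, 7, 8], [7, 7, 7, 7, 7, 7, 8, 8, 7, 7, 8], [8, 7, 7, 7, 7, 7, 8, 8, 7,
    7, 8], [7, 8, 7, 7, 7, 7, 8, 8, 7, 7, 8], [8, 8, 7, 7, 7, 7, 8, 8, 7, 7, 8], [7, 7, 7, 8, 7, 7, 8, 8, 7, 7, 8], [8, 7, 7, 8, 7, 7, 8, 8, 7, 7,
    8], [7, 8, 7, 8, 7, 7, 8, 8, 7, 7, 8], [7, 7, 7, 7, 8, 7, 8, 8, 7, 7, 8], [8, 7, 7, 7, 8, 7, 8, 8, 7, 7, 8], [7, 7, 7, 8, 8, 7, 8, 8, 7, 7, 8],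
    [8, 7, 7, 8, 8, 7, 8, 8, 7, 7, 8], [8, 8, 7, 8, 8, 7, 8, 8, 7, 7, 8], [8, 7, 8, 8, 7, 8, 8, 7, 8, 7, 8], [7, 7, 7, 7, 8, 8, 7, 8, 8, 7, 8], [7,
    8, 8, 7, 8, 8, 7, 8, 8, 7, 8], [7, 7, 8, 7, 7, 8, 8, 7, 7, 8, 8], [7, 7, 8, 8, 7, 8, 8, 7, 7, 8, 8], [8, 7, 8, 8, 7, 8, 8, 7, 7, 8, 8], [7, 8, 8,
    7, 8, 8, 7, 8, 7, 8, 8], [8, 7, 7, 8, 8, 7, 8, 8, 7, 8, 8], [7, 8, 7, 8, 8, 7, 8, 8, 7, 8, 8], [8, 8, 7, 8, 8, 7, 8, 8, 7, 8, 8], [7, 8, 8, 7, 8,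
    7, 7, 7, 7, 7, 7, 7], [7, 7, 7, 7, 8, 8, 7, 7, 7, 7, 7, 7], [7, 8, 7, 7, 8, 8, 7, 7, 7, 7, 7, 7], [7, 7, 8, 7, 8, 8, 7, 7, 7, 7, 7, 7], [7, 8, 8,
    7, 8, 8, 7, 7, 7, 7, 7, 7], [8, 7, 7, 8, 7, 7, 8, 7, 7, 7, 7, 7], [7, 7, 7, 8, 7, 7, 7, 8, 7, 7, 7, 7], [8, 7, 7, 8, 7, 7, 7, 8, 7, 7, 7, 7], [7,
    8, 7, 7, 7, 7, 8, 7, 8, 7, 7, 7], [7, 7, 7, 8, 7, 7, 8, 7, 8, 7, 7, 7], [8, 7, 7, 8, 7, 7, 8, 7, 8, 7, 7, 7], [7, 7, 8, 8, 7, 7, 8, 7, 8, 7, 7,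
    7], [8, 7, 8, 8, 7, 7, 8, 7, 8, 7, 7, 7], [7, 7, 7, 8, 7, 7, 7, 8, 8, 7, 7, 7], [8, 7, 7, 8, 7, 7, 7, 8, 8, 7, 7, 7], [7, 8, 7, 7, 8, 7, 7, 8, 8,
    7, 7, 7], [8, 8, 7, 7, 7, 7, 7, 7, 7, 8, 7, 7], [8, 7, 8, 7, 7, 7, 7, 7, 7, 8, 7, 7], [7, 7, 7, 8, 7, 7, 7, 7, 7, 8, 7, 7], [8, 7, 7, 8, 7, 7, 7,
    7, 7, 8, 7, 7], [7, 8, 7, 8, 7, 7, 7, 7, 7, 8, 7, 7], [8, 8, 7, 8, 7, 7, 7, 7, 7, 8, 7, 7], [7, 7, 7, 7, 8, 7, 7, 7, 7, 8, 7, 7], [8, 7, 7, 7, 8,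
    7, 7, 7, 7, 8, 7, 7], [7, 8, 7, 7, 8, 7, 7, 7, 7, 8, 7, 7], [7, 7, 7, 8, 8, 7, 7, 7, 7, 8, 7, 7], [8, 7, 7, 8, 8, 7, 7, 7, 7, 8, 7, 7], [7, 8, 7,
    8, 8, 7, 7, 7, 7, 8, 7, 7], [8, 8, 7, 8, 8, 7, 7, 7, 7, 8, 7, 7], [7, 7, 8, 7, 7, 8, 7, 7, 7, 8, 7, 7], [7, 7, 8, 8, 7, 8, 7, 7, 7, 8, 7, 7], [8,
    7, 8, 8, 7, 8, 7, 7, 7, 8, 7, 7], [7, 7, 7, 7, 7, 7, 8, 7, 7, 8, 7, 7], [7, 7, 7, 7, 7, 8, 8, 7, 7, 8, 7, 7], [7, 8, 7, 7, 7, 8, 8, 7, 7, 8, 7,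
    7], [7, 7, 8, 7, 7, 8, 8, 7, 7, 8, 7, 7], [7, 8, 8, 7, 7, 8, 8, 7, 7, 8, 7, 7], [7, 7, 8, 7, 7, 7, 7, 7, 8, 8, 7, 7], [8, 7, 8, 7, 7, 7, 7, 7, 8,
    8, 7, 7], [8, 7, 7, 8, 7, 7, 7, 7, 8, 8, 7, 7], [7, 7, 8, 8, 7, 7, 7, 7, 8, 8, 7, 7], [8, 7, 8, 8, 7, 7, 7, 7, 8, 8, 7, 7], [7, 8, 7, 7, 8, 7, 7,
    7, 8, 8, 7, 7], [7, 8, 8, 7, 8, 7, 7, 7, 8, 8, 7, 7], [8, 7, 7, 7, 7, 8, 7, 7, 8, 8, 7, 7], [7, 8, 7, 7, 7, 8, 7, 7, 8, 8, 7, 7], [8, 8, 7, 7, 7,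
    8, 7, 7, 8, 8, 7, 7], [8, 7, 8, 7, 7, 8, 7, 7, 8, 8, 7, 7], [7, 8, 8, 7, 7, 8, 7, 7, 8, 8, 7, 7], [7, 7, 7, 8, 7, 8, 7, 7, 8, 8, 7, 7], [8, 7, 7,
    8, 7, 8, 7, 7, 8, 8, 7, 7], [7, 8, 7, 8, 7, 8, 7, 7, 8, 8, 7, 7], [8, 8, 7, 8, 7, 8, 7, 7, 8, 8, 7, 7], [8, 7, 8, 8, 7, 8, 7, 7, 8, 8, 7, 7], [7,
    7, 7, 7, 8, 8, 7, 7, 8, 8, 7, 7], [8, 7, 7, 7, 8, 8, 7, 7, 8, 8, 7, 7], [7, 8, 7, 7, 8, 8, 7, 7, 8, 8, 7, 7], [8, 8, 7, 7, 8, 8, 7, 7, 8, 8, 7,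
    7], [7, 7, 8, 7, 8, 8, 7, 7, 8, 8, 7, 7], [8, 7, 8, 7, 8, 8, 7, 7, 8, 8, 7, 7], [7, 7, 7, 7, 7, 7, 8, 7, 8, 8, 7, 7], [8, 7, 7, 7, 7, 7, 8, 7, 8,
    8, 7, 7], [7, 7, 8, 7, 7, 7, 8, 7, 8, 8, 7, 7], [7, 8, 8, 7, 7, 7, 8, 7, 8, 8, 7, 7], [7, 7, 7, 7, 8, 7, 8, 7, 8, 8, 7, 7], [8, 7, 7, 7, 8, 7, 8,
    7, 8, 8, 7, 7], [7, 8, 7, 7, 8, 7, 8, 7, 8, 8, 7, 7], [8, 8, 7, 7, 8, 7, 8, 7, 8, 8, 7, 7], [7, 7, 7, 7, 7, 8, 8, 7, 8, 8, 7, 7], [8, 7, 7, 7, 7,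
    8, 8, 7, 8, 8, 7, 7], [7, 8, 7, 7, 7, 8, 8, 7, 8, 8, 7, 7], [8, 8, 7, 7, 7, 8, 8, 7, 8, 8, 7, 7], [7, 7, 8, 7, 7, 8, 8, 7, 8, 8, 7, 7], [8, 7, 8,
    7, 7, 8, 8, 7, 8, 8, 7, 7], [7, 8, 8, 7, 7, 8, 8, 7, 8, 8, 7, 7], [8, 8, 7, 8, 7, 7, 7, 7, 7, 7, 8, 7], [7, 7, 7, 8, 8, 7, 7, 7, 7, 7, 8, 7], [8,
    7, 7, 8, 8, 7, 7, 7, 7, 7, 8, 7], [7, 8, 7, 8, 8, 7, 7, 7, 7, 7, 8, 7], [8, 8, 7, 8, 8, 7, 7, 7, 7, 7, 8, 7], [7, 7, 8, 7, 7, 8, 7, 7, 7, 7, 8,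
    7], [8, 7, 7, 8, 7, 8, 7, 7, 7, 7, 8, 7], [7, 7, 8, 8, 7, 7, 8, 7, 7, 7, 8, 7], [8, 7, 8, 8, 7, 7, 8, 7, 7, 7, 8, 7], [7, 7, 7, 7, 7, 7, 7, 8, 7,
    7, 8, 7], [8, 7, 7, 7, 7, 7, 7, 8, 7, 7, 8, 7], [7, 7, 8, 7, 7, 7, 7, 8, 7, 7, 8, 7], [7, 7, 7, 8, 7, 7, 7, 8, 7, 7, 8, 7], [8, 7, 7, 8, 7, 7, 7,
    8, 7, 7, 8, 7], [7, 7, 8, 8, 7, 7, 7, 8, 7, 7, 8, 7], [7, 8, 7, 7, 7, 7, 7, 8, 8, 7, 8, 7], [7, 7, 8, 7, 7, 7, 7, 8, 8, 7, 8, 7], [7, 8, 8, 7, 7,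
    7, 7, 8, 8, 7, 8, 7], [7, 7, 7, 8, 7, 7, 7, 8, 8, 7, 8, 7], [8, 7, 7, 8, 7, 7, 7, 8, 8, 7, 8, 7], [7, 8, 7, 8, 7, 7, 7, 8, 8, 7, 8, 7], [8, 8, 7,
    8, 7, 7, 7, 8, 8, 7, 8, 7], [7, 7, 7, 7, 8, 7, 7, 8, 8, 7, 8, 7], [8, 7, 7, 7, 8, 7, 7, 8, 8, 7, 8, 7], [7, 7, 8, 8, 7, 7, 7, 7, 7, 8, 8, 7], [8,
    7, 8, 8, 7, 7, 7, 7, 7, 8, 8, 7], [7, 8, 8, 7, 8, 7, 7, 7, 7, 8, 8, 7], [7, 8, 8, 7, 7, 8, 7, 7, 7, 8, 8, 7], [7, 7, 7, 7, 7, 7, 8, 7, 7, 8, 8,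
    7], [8, 7, 7, 7, 7, 7, 8, 7, 7, 8, 8, 7], [7, 8, 7, 7, 7, 7, 8, 7, 7, 8, 8, 7], [7, 7, 8, 7, 7, 7, 8, 7, 7, 8, 8, 7], [7, 8, 8, 7, 7, 7, 8, 7, 7,
    8, 8, 7], [7, 7, 7, 7, 8, 7, 8, 7, 7, 8, 8, 7], [8, 7, 7, 7, 8, 7, 8, 7, 7, 8, 8, 7], [7, 8, 7, 7, 8, 7, 8, 7, 7, 8, 8, 7], [7, 8, 7, 7, 7, 7, 7,
    8, 7, 8, 8, 7], [7, 7, 8, 7, 7, 7, 7, 8, 7, 8, 8, 7], [7, 8, 8, 7, 7, 7, 7, 8, 7, 8, 8, 7], [7, 7, 7, 8, 7, 7, 7, 8, 7, 8, 8, 7], [8, 7, 7, 8, 7,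
    7, 7, 8, 7, 8, 8, 7], [7, 8, 7, 8, 7, 7, 7, 8, 7, 8, 8, 7], [8, 8, 7, 8, 7, 7, 7, 8, 7, 8, 8, 7], [7, 7, 7, 7, 7, 7, 8, 8, 7, 8, 8, 7], [7, 8, 7,
    7, 7, 7, 8, 8, 7, 8, 8, 7], [7, 7, 8, 7, 7, 7, 8, 8, 7, 8, 8, 7], [7, 7, 7, 7, 8, 7, 8, 8, 7, 8, 8, 7], [8, 7, 7, 7, 8, 7, 8, 8, 7, 8, 8, 7], [8,
    8, 7, 8, 8, 7, 8, 8, 7, 8, 8, 7], [7, 7, 7, 7, 7, 7, 7, 7, 8, 7, 7, 8], [8, 7, 7, 7, 7, 7, 7, 7, 8, 7, 7, 8], [7, 7, 8, 7, 7, 7, 7, 7, 8, 7, 7,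
    8], [7, 7, 7, 8, 7, 7, 7, 7, 8, 7, 7, 8], [7, 8, 7, 7, 7, 7, 7, 8, 8, 7, 7, 8], [7, 7, 8, 7, 7, 7, 7, 8, 8, 7, 7, 8], [7, 8, 8, 7, 7, 7, 7, 8, 8,
    7, 7, 8], [7, 7, 7, 7, 8, 7, 7, 8, 8, 7, 7, 8], [8, 7, 7, 7, 8, 7, 7, 8, 8, 7, 7, 8], [7, 8, 7, 7, 8, 7, 7, 8, 8, 7, 7, 8], [8, 8, 7, 7, 8, 7, 7,
    8, 8, 7, 7, 8], [7, 7, 8, 7, 8, 7, 7, 8, 8, 7, 7, 8], [8, 7, 8, 7, 8, 7, 7, 8, 8, 7, 7, 8], [7, 7, 7, 7, 7, 8, 7, 8, 8, 7, 7, 8], [8, 7, 7, 7, 7,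
    8, 7, 8, 8, 7, 7, 8], [7, 8, 7, 7, 7, 8, 7, 8, 8, 7, 7, 8], [8, 8, 7, 7, 7, 8, 7, 8, 8, 7, 7, 8], [7, 7, 7, 7, 8, 8, 7, 8, 8, 7, 7, 8], [8, 7, 7,
    7, 8, 8, 7, 8, 8, 7, 7, 8], [7, 8, 7, 7, 8, 8, 7, 8, 8, 7, 7, 8], [8, 8, 7, 7, 8, 8, 7, 8, 8, 7, 7, 8], [7, 8, 7, 8, 8, 7, 8, 8, 7, 8, 7, 8], [7,
    7, 7, 7, 7, 8, 8, 7, 8, 8, 7, 8], [8, 7, 7, 7, 7, 8, 8, 7, 8, 8, 7, 8], [8, 7, 8, 8, 7, 8, 8, 7, 8, 8, 7, 8], [7, 7, 7, 8, 7, 7, 8, 8, 7, 7, 8,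
    8], [8, 7, 7, 8, 7, 7, 8, 8, 7, 7, 8, 8], [7, 7, 7, 8, 8, 7, 8, 8, 7, 7, 8, 8], [8, 8, 7, 8, 8, 7, 8, 8, 7, 7, 8, 8], [7, 8, 8, 7, 8, 8, 7, 8, 8,
    7, 8, 8], [8, 7, 7, 7, 7, 8, 8, 7, 7, 7, 7, 7, 7], [7, 7, 8, 7, 7, 8, 8, 7, 7, 7, 7, 7, 7], [7, 7, 7, 8, 7, 8, 8, 7, 7, 7, 7, 7, 7], [8, 7, 7, 8,
    7, 8, 8, 7, 7, 7, 7, 7, 7], [7, 7, 8, 8, 7, 8, 8, 7, 7, 7, 7, 7, 7], [8, 7, 8, 8, 7, 8, 8, 7, 7, 7, 7, 7, 7], [7, 7, 7, 7, 8, 7, 7, 7, 8, 7, 7,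
    7, 7], [8, 7, 7, 8, 8, 7, 7, 8, 7, 8, 7, 7, 7], [7, 8, 7, 8, 8, 7, 7, 8, 7, 8, 7, 7, 7], [8, 8, 7, 8, 8, 7, 7, 8, 7, 8, 7, 7, 7], [8, 8, 7, 8, 7,
    7, 7, 7, 7, 7, 8, 7, 7], [8, 7, 7, 7, 8, 7, 7, 7, 7, 7, 8, 7, 7], [7, 8, 7, 7, 8, 7, 7, 7, 7, 7, 8, 7, 7], [8, 8, 7, 7, 8, 7, 7, 7, 7, 7, 8, 7,
    7], [7, 7, 8, 7, 8, 7, 7, 7, 7, 7, 8, 7, 7], [8, 7, 8, 7, 8, 7, 7, 7, 7, 7, 8, 7, 7], [7, 8, 8, 7, 8, 7, 7, 7, 7, 7, 8, 7, 7], [8, 7, 7, 7, 7, 8,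
    7, 7, 7, 7, 8, 7, 7], [7, 8, 7, 7, 7, 8, 7, 7, 7, 7, 8, 7, 7], [8, 8, 7, 7, 7, 8, 7, 7, 7, 7, 8, 7, 7], [7, 7, 8, 7, 7, 8, 7, 7, 7, 7, 8, 7, 7],
    [8, 7, 8, 7, 7, 8, 7, 7, 7, 7, 8, 7, 7], [7, 7, 7, 7, 8, 8, 7, 7, 7, 7, 8, 7, 7], [8, 7, 7, 7, 8, 8, 7, 7, 7, 7, 8, 7, 7], [7, 8, 7, 7, 8, 8, 7,
    7, 7, 7, 8, 7, 7], [8, 8, 7, 7, 8, 8, 7, 7, 7, 7, 8, 7, 7], [7, 7, 8, 7, 8, 8, 7, 7, 7, 7, 8, 7, 7], [7, 7, 7, 8, 7, 7, 8, 7, 7, 7, 8, 7, 7], [7,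
    7, 7, 8, 8, 7, 8, 7, 7, 7, 8, 7, 7], [8, 7, 7, 8, 8, 7, 8, 7, 7, 7, 8, 7, 7], [8, 8, 7, 8, 8, 7, 8, 7, 7, 7, 8, 7, 7], [7, 7, 7, 7, 7, 7, 7, 8,
    7, 7, 8, 7, 7], [8, 7, 7, 7, 7, 7, 7, 8, 7, 7, 8, 7, 7], [7, 7, 7, 7, 7, 7, 8, 8, 7, 7, 8, 7, 7], [7, 7, 8, 7, 7, 7, 8, 8, 7, 7, 8, 7, 7], [7, 7,
    7, 8, 7, 7, 8, 8, 7, 7, 8, 7, 7], [8, 7, 7, 8, 7, 7, 8, 8, 7, 7, 8, 7, 7], [7, 7, 8, 8, 7, 7, 8, 8, 7, 7, 8, 7, 7], [8, 7, 8, 8, 7, 7, 8, 8, 7,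
    7, 8, 7, 7], [7, 7, 7, 8, 7, 7, 7, 7, 7, 8, 8, 7, 7], [8, 7, 7, 8, 7, 7, 7, 7, 7, 8, 8, 7, 7], [8, 8, 7, 8, 7, 7, 7, 7, 7, 8, 8, 7, 7], [7, 8, 7,
    7, 8, 7, 7, 7, 7, 8, 8, 7, 7], [8, 7, 7, 8, 8, 7, 7, 7, 7, 8, 8, 7, 7], [7, 8, 7, 8, 8, 7, 7, 7, 7, 8, 8, 7, 7], [8, 8, 7, 8, 8, 7, 7, 7, 7, 8,
    8, 7, 7], [7, 7, 8, 8, 7, 8, 7, 7, 7, 8, 8, 7, 7], [8, 7, 8, 8, 7, 8, 7, 7, 7, 8, 8, 7, 7], [7, 7, 8, 7, 7, 7, 8, 7, 7, 8, 8, 7, 7], [8, 7, 8, 7,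
    7, 7, 8, 7, 7, 8, 8, 7, 7], [7, 8, 8, 7, 7, 7, 8, 7, 7, 8, 8, 7, 7], [7, 8, 7, 8, 7, 7, 8, 7, 7, 8, 8, 7, 7], [7, 7, 8, 8, 7, 7, 8, 7, 7, 8, 8,
    7, 7], [7, 8, 7, 7, 8, 7, 8, 7, 7, 8, 8, 7, 7], [7, 7, 8, 7, 8, 7, 8, 7, 7, 8, 8, 7, 7], [7, 8, 8, 7, 8, 7, 8, 7, 7, 8, 8, 7, 7], [8, 7, 7, 7, 7,
    8, 8, 7, 7, 8, 8, 7, 7], [7, 8, 7, 7, 7, 8, 8, 7, 7, 8, 8, 7, 7], [8, 8, 7, 7, 7, 8, 8, 7, 7, 8, 8, 7, 7], [7, 7, 8, 7, 7, 8, 8, 7, 7, 8, 8, 7,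
    7], [7, 8, 8, 7, 7, 8, 8, 7, 7, 8, 8, 7, 7], [7, 7, 7, 8, 7, 8, 8, 7, 7, 8, 8, 7, 7], [7, 8, 7, 8, 7, 8, 8, 7, 7, 8, 8, 7, 7], [7, 7, 7, 7, 7, 7,
    7, 8, 7, 8, 8, 7, 7], [8, 7, 8, 8, 7, 7, 7, 8, 7, 8, 8, 7, 7], [7, 7, 8, 7, 7, 8, 7, 8, 7, 8, 8, 7, 7], [7, 8, 8, 7, 7, 8, 7, 8, 7, 8, 8, 7, 7],
    [7, 7, 7, 7, 7, 7, 8, 8, 7, 8, 8, 7, 7], [8, 7, 7, 7, 7, 7, 8, 8, 7, 8, 8, 7, 7], [7, 8, 8, 7, 7, 7, 8, 8, 7, 8, 8, 7, 7], [7, 7, 7, 8, 7, 7, 8,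
    8, 7, 8, 8, 7, 7], [7, 8, 7, 8, 7, 7, 8, 8, 7, 8, 8, 7, 7], [8, 8, 7, 8, 7, 7, 8, 8, 7, 8, 8, 7, 7], [7, 7, 8, 8, 7, 7, 8, 8, 7, 8, 8, 7, 7], [8,
    7, 8, 8, 7, 7, 8, 8, 7, 8, 8, 7, 7], [8, 7, 7, 7, 8, 8, 7, 7, 7, 7, 7, 8, 7], [7, 8, 7, 7, 8, 8, 7, 7, 7, 7, 7, 8, 7], [8, 8, 7, 7, 8, 8, 7, 7,
    7, 7, 7, 8, 7], [7, 7, 8, 7, 8, 8, 7, 7, 7, 7, 7, 8, 7], [7, 8, 8, 7, 8, 8, 7, 7, 7, 7, 7, 8, 7], [7, 7, 7, 8, 8, 7, 7, 8, 7, 7, 7, 8, 7], [8, 7,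
    7, 8, 8, 7, 7, 8, 7, 7, 7, 8, 7], [8, 8, 7, 8, 8, 7, 7, 8, 7, 7, 7, 8, 7], [7, 7, 7, 7, 7, 7, 7, 7, 8, 7, 7, 8, 7], [8, 7, 7, 7, 7, 7, 7, 7, 8,
    7, 7, 8, 7], [7, 8, 7, 7, 7, 7, 7, 7, 8, 7, 7, 8, 7], [8, 8, 7, 7, 7, 7, 7, 7, 8, 7, 7, 8, 7], [7, 7, 7, 8, 7, 7, 7, 7, 8, 7, 7, 8, 7], [7, 7, 7,
    7, 8, 7, 7, 7, 8, 7, 7, 8, 7], [8, 7, 7, 7, 8, 7, 7, 7, 8, 7, 7, 8, 7], [7, 7, 7, 8, 8, 7, 7, 7, 8, 7, 7, 8, 7], [7, 7, 8, 7, 7, 7, 7, 7, 8, 8,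
    7, 8, 7], [8, 7, 8, 8, 7, 7, 7, 7, 8, 8, 7, 8, 7], [7, 7, 8, 7, 8, 7, 7, 7, 8, 8, 7, 8, 7], [7, 7, 7, 8, 8, 7, 7, 7, 7, 7, 8, 8, 7], [8, 7, 7, 8,
    8, 7, 7, 7, 7, 7, 8, 8, 7], [7, 8, 7, 8, 8, 7, 7, 7, 7, 7, 8, 8, 7], [7, 7, 8, 8, 7, 8, 7, 7, 7, 7, 8, 8, 7], [8, 7, 8, 8, 7, 8, 7, 7, 7, 7, 8,
    8, 7], [7, 7, 7, 7, 7, 7, 7, 8, 7, 7, 8, 8, 7], [8, 7, 7, 7, 7, 7, 7, 8, 7, 7, 8, 8, 7], [8, 7, 8, 7, 7, 7, 7, 8, 7, 7, 8, 8, 7], [7, 7, 7, 8, 7,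
    7, 7, 8, 7, 7, 8, 8, 7], [7, 7, 8, 8, 7, 7, 7, 8, 7, 7, 8, 8, 7], [7, 8, 7, 7, 7, 8, 7, 8, 7, 7, 8, 8, 7], [7, 7, 8, 7, 7, 8, 7, 8, 7, 7, 8, 8,
    7], [8, 7, 8, 7, 7, 7, 7, 7, 8, 7, 8, 8, 7], [7, 7, 8, 8, 7, 7, 7, 7, 8, 7, 8, 8, 7], [8, 7, 8, 8, 7, 7, 7, 7, 8, 7, 8, 8, 7], [8, 7, 7, 7, 8, 7,
    7, 7, 8, 7, 8, 8, 7], [7, 8, 7, 7, 8, 7, 7, 7, 8, 7, 8, 8, 7], [7, 7, 8, 7, 8, 7, 7, 7, 8, 7, 8, 8, 7], [8, 7, 7, 7, 7, 7, 7, 8, 8, 7, 8, 8, 7],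
    [7, 7, 8, 7, 7, 7, 7, 8, 8, 7, 8, 8, 7], [7, 7, 7, 8, 7, 7, 7, 8, 8, 7, 8, 8, 7], [7, 7, 7, 7, 7, 8, 7, 8, 8, 7, 8, 8, 7], [8, 8, 7, 7, 7, 8, 7,
    8, 8, 7, 8, 8, 7], [8, 8, 7, 7, 7, 7, 7, 7, 7, 8, 7, 7, 8], [7, 7, 7, 8, 7, 7, 7, 7, 7, 8, 7, 7, 8], [7, 7, 7, 7, 8, 7, 7, 7, 7, 8, 7, 7, 8], [8,
    7, 7, 7, 8, 7, 7, 7, 7, 8, 7, 7, 8], [7, 7, 8, 8, 7, 7, 7, 7, 8, 8, 7, 7, 8], [8, 7, 8, 8, 7, 7, 7, 7, 8, 8, 7, 7, 8], [7, 8, 7, 7, 7, 8, 7, 7,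
    8, 8, 7, 7, 8], [7, 8, 8, 7, 7, 8, 7, 7, 8, 8, 7, 7, 8], [8, 7, 7, 8, 7, 8, 7, 7, 8, 8, 7, 7, 8], [8, 8, 7, 8, 7, 8, 7, 7, 8, 8, 7, 7, 8], [7, 8,
    8, 7, 7, 7, 8, 7, 8, 8, 7, 7, 8], [7, 7, 7, 7, 7, 8, 8, 7, 8, 8, 7, 7, 8], [8, 7, 7, 7, 7, 8, 8, 7, 8, 8, 7, 7, 8], [7, 8, 7, 7, 7, 8, 8, 7, 8,
    8, 7, 7, 8], [8, 8, 7, 7, 7, 8, 8, 7, 8, 8, 7, 7, 8], [7, 7, 8, 7, 7, 8, 8, 7, 8, 8, 7, 7, 8], [8, 7, 8, 7, 7, 8, 8, 7, 8, 8, 7, 7, 8], [7, 8, 8,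
    7, 7, 8, 8, 7, 8, 8, 7, 7, 8], [7, 7, 8, 7, 8, 8, 7, 8, 8, 7, 8, 7, 8], [7, 7, 7, 7, 7, 7, 8, 8, 7, 8, 8, 7, 8], [8, 7, 7, 7, 7, 7, 8, 8, 7, 8,
    8, 7, 8], [7, 8, 7, 7, 7, 7, 8, 8, 7, 8, 8, 7, 8], [8, 8, 7, 8, 8, 7, 8, 8, 7, 8, 8, 7, 8], [8, 7, 7, 7, 8, 7, 7, 8, 8, 7, 7, 8, 8], [8, 8, 7, 7,
    8, 7, 7, 8, 8, 7, 7, 8, 8], [7, 7, 7, 7, 8, 8, 7, 8, 8, 7, 7, 8, 8], [8, 7, 7, 7, 8, 8, 7, 8, 8, 7, 7, 8, 8], [7, 8, 7, 7, 7, 7, 8, 8, 7, 7, 7,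
    7, 7, 7], [8, 8, 7, 7, 7, 7, 8, 8, 7, 7, 7, 7, 7, 7], [7, 7, 7, 8, 7, 7, 8, 8, 7, 7, 7, 7, 7, 7], [7, 7, 7, 7, 8, 7, 8, 8, 7, 7, 7, 7, 7, 7], [8,
    7, 7, 7, 8, 7, 8, 8, 7, 7, 7, 7, 7, 7], [7, 7, 7, 8, 8, 7, 8, 8, 7, 7, 7, 7, 7, 7], [8, 8, 7, 8, 8, 7, 8, 8, 7, 7, 7, 7, 7, 7], [7, 7, 7, 7, 7,
    8, 7, 7, 7, 8, 7, 7, 7, 7], [8, 7, 7, 7, 7, 8, 7, 7, 7, 8, 7, 7, 7, 7], [7, 8, 8, 7, 8, 8, 7, 7, 8, 7, 8, 7, 7, 7], [7, 8, 8, 7, 7, 8, 7, 7, 7,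
    7, 7, 8, 7, 7], [8, 7, 7, 8, 7, 8, 7, 7, 7, 7, 7, 8, 7, 7], [7, 8, 7, 8, 7, 8, 7, 7, 7, 7, 7, 8, 7, 7], [8, 8, 7, 8, 7, 8, 7, 7, 7, 7, 7, 8, 7,
    7], [8, 7, 8, 8, 7, 8, 7, 7, 7, 7, 7, 8, 7, 7], [8, 8, 7, 7, 7, 7, 8, 7, 7, 7, 7, 8, 7, 7], [7, 8, 8, 7, 7, 7, 8, 7, 7, 7, 7, 8, 7, 7], [8, 7, 7,
    8, 7, 7, 8, 7, 7, 7, 7, 8, 7, 7], [7, 8, 7, 8, 7, 7, 8, 7, 7, 7, 7, 8, 7, 7], [7, 8, 7, 7, 7, 8, 8, 7, 7, 7, 7, 8, 7, 7], [8, 8, 7, 7, 7, 8, 8,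
    7, 7, 7, 7, 8, 7, 7], [7, 7, 8, 7, 7, 8, 8, 7, 7, 7, 7, 8, 7, 7], [8, 7, 8, 7, 7, 8, 8, 7, 7, 7, 7, 8, 7, 7], [7, 8, 8, 7, 7, 8, 8, 7, 7, 7, 7,
    8, 7, 7], [7, 7, 7, 8, 7, 8, 8, 7, 7, 7, 7, 8, 7, 7], [8, 7, 7, 8, 7, 8, 8, 7, 7, 7, 7, 8, 7, 7], [8, 7, 7, 7, 8, 7, 7, 8, 7, 7, 7, 8, 7, 7], [7,
    7, 7, 7, 8, 8, 7, 8, 7, 7, 7, 8, 7, 7], [8, 7, 7, 7, 8, 8, 7, 8, 7, 7, 7, 8, 7, 7], [7, 8, 7, 7, 8, 8, 7, 8, 7, 7, 7, 8, 7, 7], [7, 7, 7, 7, 7,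
    7, 7, 7, 8, 7, 7, 8, 7, 7], [7, 8, 7, 7, 7, 7, 7, 7, 8, 7, 7, 8, 7, 7], [8, 7, 7, 7, 7, 7, 7, 8, 8, 7, 7, 8, 7, 7], [7, 7, 7, 8, 8, 7, 7, 8, 8,
    7, 7, 8, 7, 7], [8, 8, 7, 7, 8, 8, 7, 7, 7, 7, 8, 8, 7, 7], [8, 8, 7, 8, 8, 7, 8, 7, 7, 7, 8, 8, 7, 7], [8, 7, 7, 8, 7, 7, 7, 8, 7, 7, 8, 8, 7,
    7], [8, 8, 7, 8, 7, 7, 7, 8, 7, 7, 8, 8, 7, 7], [8, 7, 8, 8, 7, 7, 7, 8, 7, 7, 8, 8, 7, 7], [8, 7, 7, 8, 8, 7, 7, 8, 7, 7, 8, 8, 7, 7], [7, 7, 8,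
    7, 7, 8, 7, 8, 7, 7, 8, 8, 7, 7], [8, 7, 7, 8, 7, 8, 7, 8, 7, 7, 8, 8, 7, 7], [8, 7, 8, 8, 7, 8, 7, 8, 7, 7, 8, 8, 7, 7], [7, 8, 8, 7, 7, 7, 8,
    8, 7, 7, 8, 8, 7, 7], [8, 7, 7, 8, 7, 7, 8, 8, 7, 7, 8, 8, 7, 7], [7, 7, 8, 8, 7, 7, 8, 8, 7, 7, 8, 8, 7, 7], [8, 7, 8, 8, 7, 7, 8, 8, 7, 7, 8,
    8, 7, 7], [7, 7, 7, 7, 7, 7, 7, 7, 8, 7, 8, 8, 7, 7], [8, 7, 7, 7, 7, 7, 7, 7, 8, 7, 8, 8, 7, 7], [8, 8, 7, 8, 8, 7, 7, 7, 8, 7, 8, 8, 7, 7], [8,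
    7, 8, 8, 7, 7, 7, 8, 8, 7, 8, 8, 7, 7], [7, 7, 7, 7, 8, 7, 7, 8, 8, 7, 8, 8, 7, 7], [8, 7, 7, 7, 8, 7, 7, 8, 8, 7, 8, 8, 7, 7], [7, 7, 7, 8, 8,
    7, 7, 8, 8, 7, 8, 8, 7, 7], [8, 7, 7, 8, 8, 7, 7, 8, 8, 7, 8, 8, 7, 7], [8, 8, 7, 8, 8, 7, 7, 8, 8, 7, 8, 8, 7, 7], [8, 7, 8, 7, 7, 8, 8, 7, 7,
    7, 7, 7, 8, 7], [7, 7, 8, 8, 7, 8, 8, 7, 7, 7, 7, 7, 8, 7], [7, 8, 7, 7, 8, 8, 7, 7, 8, 7, 7, 7, 8, 7], [7, 8, 7, 7, 7, 7, 7, 7, 7, 8, 7, 7, 8,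
    7], [7, 7, 8, 7, 7, 7, 7, 7, 7, 8, 7, 7, 8, 7], [7, 8, 8, 7, 7, 7, 7, 7, 7, 8, 7, 7, 8, 7], [8, 7, 7, 7, 8, 7, 7, 7, 7, 8, 7, 7, 8, 7], [8, 7, 7,
    7, 7, 8, 7, 7, 7, 8, 7, 7, 8, 7], [7, 8, 7, 7, 7, 8, 7, 7, 7, 8, 7, 7, 8, 7], [8, 8, 7, 7, 7, 8, 7, 7, 7, 8, 7, 7, 8, 7], [7, 7, 7, 7, 8, 8, 7,
    7, 7, 8, 7, 7, 8, 7], [8, 7, 7, 7, 8, 8, 7, 7, 7, 8, 7, 7, 8, 7], [7, 7, 7, 8, 7, 7, 7, 7, 7, 8, 8, 7, 8, 7], [7, 8, 7, 7, 8, 8, 7, 7, 7, 7, 7,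
    8, 8, 7], [8, 7, 7, 8, 8, 7, 8, 7, 7, 7, 7, 8, 8, 7], [7, 8, 7, 8, 8, 7, 8, 7, 7, 7, 7, 8, 8, 7], [7, 7, 7, 7, 7, 7, 7, 7, 8, 7, 7, 8, 8, 7], [7,
    8, 7, 7, 7, 7, 7, 7, 8, 7, 7, 8, 8, 7], [7, 7, 7, 7, 8, 7, 7, 7, 8, 7, 7, 8, 8, 7], [8, 7, 7, 7, 8, 7, 7, 7, 8, 7, 7, 8, 8, 7], [7, 7, 7, 8, 8,
    7, 7, 7, 8, 7, 7, 8, 8, 7], [8, 7, 7, 8, 7, 7, 8, 7, 8, 7, 7, 8, 8, 7], [8, 7, 7, 8, 8, 7, 7, 7, 7, 8, 7, 8, 8, 7], [7, 8, 7, 8, 8, 7, 7, 7, 7,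
    8, 7, 8, 8, 7], [8, 7, 7, 8, 7, 7, 7, 7, 8, 8, 7, 8, 8, 7], [8, 7, 7, 7, 8, 7, 7, 7, 7, 7, 8, 7, 7, 8], [7, 8, 7, 7, 7, 8, 7, 7, 7, 7, 8, 7, 7,
    8], [8, 8, 7, 7, 7, 8, 7, 7, 7, 7, 8, 7, 7, 8], [8, 7, 8, 7, 7, 7, 8, 7, 7, 8, 8, 7, 7, 8], [7, 7, 8, 8, 7, 7, 8, 7, 7, 8, 8, 7, 7, 8], [7, 8, 7,
    7, 8, 7, 8, 7, 7, 8, 8, 7, 7, 8], [7, 8, 8, 7, 8, 7, 8, 7, 7, 8, 8, 7, 7, 8], [8, 7, 8, 8, 7, 7, 7, 8, 7, 8, 8, 7, 7, 8], [8, 8, 7, 7, 7, 7, 8,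
    8, 7, 8, 8, 7, 7, 8], [7, 8, 8, 7, 7, 7, 8, 8, 7, 8, 8, 7, 7, 8], [7, 7, 7, 8, 7, 7, 8, 8, 7, 8, 8, 7, 7, 8], [7, 8, 7, 8, 7, 7, 8, 8, 7, 8, 8,
    7, 7, 8], [7, 7, 8, 8, 7, 7, 8, 8, 7, 8, 8, 7, 7, 8], [7, 7, 7, 8, 7, 8, 8, 7, 8, 8, 7, 8, 7, 8], [7, 8, 7, 7, 7, 7, 7, 8, 8, 7, 8, 8, 7, 8], [7,
    7, 8, 7, 7, 7, 7, 8, 8, 7, 8, 8, 7, 8], [7, 8, 7, 7, 7, 8, 7, 7, 8, 8, 7, 7, 8, 8], [7, 8, 8, 7, 7, 8, 7, 7, 8, 8, 7, 7, 8, 8], [8, 7, 7, 7, 7,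
    8, 8, 7, 8, 8, 7, 7, 8, 8], [8, 8, 7, 7, 7, 8, 8, 7, 8, 8, 7, 7, 8, 8], [7, 7, 8, 7, 7, 7, 7, 8, 8, 7, 7, 7, 7, 7, 7], [8, 7, 7, 7, 8, 7, 7, 8,
    8, 7, 7, 7, 7, 7, 7], [7, 7, 7, 7, 7, 8, 7, 8, 8, 7, 7, 7, 7, 7, 7], [8, 7, 7, 7, 7, 8, 7, 8, 8, 7, 7, 7, 7, 7, 7], [7, 8, 7, 7, 7, 8, 7, 8, 8,
    7, 7, 7, 7, 7, 7], [8, 8, 7, 7, 7, 8, 7, 8, 8, 7, 7, 7, 7, 7, 7], [7, 7, 7, 7, 8, 8, 7, 8, 8, 7, 7, 7, 7, 7, 7], [8, 7, 7, 7, 8, 8, 7, 8, 8, 7,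
    7, 7, 7, 7, 7], [7, 8, 7, 7, 7, 7, 8, 7, 7, 7, 8, 7, 7, 7, 7], [7, 8, 7, 8, 8, 7, 8, 7, 7, 7, 7, 7, 8, 7, 7], [7, 7, 8, 7, 7, 7, 8, 8, 7, 7, 7,
    7, 8, 7, 7], [7, 8, 7, 7, 8, 7, 8, 8, 7, 7, 7, 7, 8, 7, 7], [8, 8, 7, 7, 8, 7, 8, 8, 7, 7, 7, 7, 8, 7, 7], [7, 8, 7, 7, 7, 7, 7, 7, 8, 8, 7, 7,
    8, 7, 7], [7, 8, 7, 7, 8, 8, 7, 7, 8, 7, 7, 8, 8, 7, 7], [8, 8, 7, 7, 8, 8, 7, 7, 8, 7, 7, 8, 8, 7, 7], [8, 7, 7, 8, 7, 7, 8, 7, 8, 7, 7, 8, 8,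
    7, 7], [8, 8, 7, 8, 8, 7, 8, 7, 8, 7, 7, 8, 8, 7, 7], [8, 7, 8, 8, 7, 7, 7, 8, 8, 7, 7, 8, 8, 7, 7], [7, 8, 7, 7, 8, 7, 7, 8, 8, 7, 7, 8, 8, 7,
    7], [8, 8, 7, 8, 8, 7, 7, 8, 8, 7, 7, 8, 8, 7, 7], [7, 8, 7, 7, 7, 7, 7, 7, 7, 8, 7, 8, 8, 7, 7], [8, 7, 7, 7, 8, 8, 7, 7, 8, 8, 7, 8, 8, 7, 7],
    [8, 7, 8, 7, 7, 8, 8, 7, 7, 8, 7, 7, 7, 8, 7], [8, 7, 7, 8, 7, 7, 7, 7, 7, 7, 8, 7, 7, 8, 7], [7, 7, 8, 8, 7, 7, 7, 7, 7, 7, 8, 7, 7, 8, 7], [7,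
    8, 7, 7, 7, 7, 8, 7, 7, 7, 8, 7, 7, 8, 7], [7, 7, 8, 7, 7, 7, 8, 7, 7, 7, 8, 7, 7, 8, 7], [7, 8, 8, 7, 7, 7, 8, 7, 7, 7, 8, 7, 7, 8, 7], [7, 7,
    7, 7, 7, 8, 8, 7, 7, 7, 8, 7, 7, 8, 7], [8, 8, 7, 7, 7, 8, 8, 7, 7, 7, 8, 7, 7, 8, 7], [8, 7, 7, 7, 7, 7, 7, 7, 7, 8, 7, 7, 8, 8, 7], [7, 7, 8,
    7, 7, 7, 7, 7, 7, 8, 7, 7, 8, 8, 7], [8, 7, 8, 7, 7, 7, 7, 7, 7, 8, 7, 7, 8, 8, 7], [7, 7, 7, 7, 7, 8, 7, 7, 7, 8, 7, 7, 8, 8, 7], [7, 8, 7, 7,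
    7, 8, 7, 7, 7, 8, 7, 7, 8, 8, 7], [7, 8, 8, 7, 7, 7, 8, 7, 7, 7, 7, 8, 7, 7, 8], [8, 7, 8, 8, 7, 8, 7, 8, 7, 7, 8, 8, 7, 7, 8], [8, 7, 8, 8, 7,
    7, 7, 8, 8, 7, 8, 8, 7, 7, 8], [7, 7, 7, 8, 8, 7, 7, 8, 8, 7, 8, 8, 7, 7, 8], [7, 7, 8, 8, 7, 7, 8, 7, 7, 8, 8, 7, 7, 8, 8], [7, 8, 8, 7, 7, 7,
    8, 8, 7, 8, 8, 7, 7, 8, 8], [8, 7, 7, 8, 7, 7, 7, 7, 8, 8, 7, 7, 7, 7, 7, 7], [7, 8, 7, 7, 7, 7, 8, 7, 8, 8, 7, 7, 7, 7, 7, 7], [7, 7, 8, 7, 7,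
    7, 8, 7, 8, 8, 7, 7, 7, 7, 7, 7], [7, 8, 8, 7, 7, 7, 8, 7, 8, 8, 7, 7, 7, 7, 7, 7], [7, 7, 7, 7, 7, 8, 8, 7, 8, 8, 7, 7, 7, 7, 7, 7], [7, 7, 7,
    8, 7, 7, 7, 8, 8, 7, 7, 7, 7, 8, 7, 7], [7, 8, 8, 7, 7, 8, 7, 8, 8, 7, 7, 7, 7, 8, 7, 7], [7, 7, 8, 8, 7, 7, 7, 8, 7, 7, 7, 8, 7, 7, 8, 7]]

def e1_e7 : List Wd :=
    [[], [], [], [], [], [], [], [], [], [], [], [], [], [], [], [], [], [], [], [2, 0, 1, 0, 2], [], [3, 2, 0, 2], [], [], [], [], [], [], [], [2],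
    [], [], [], [], [], [], [], [], [], [], [], [3, 2, 0, 2], [], [], [2, 0, 3, 3, 2], [], [2, 0, 1, 0, 2], [], [], [], [], [2, 0, 2], [], [], [],
    [], [], [], [], [], [], [], [], [], [], [], [3, 2], [], [], [1, 3], [], [1, 3], [1, 3], [], [3, 2, 0, 2], [], [], [], [], [2, 0, 1, 0, 2], [],
    [], [], [], [], [], [2], [], [0, 1, 0, 2, 1], [], [], [], [], [], [], [], [], [], [], [], [2, 0, 2], [], [], [], [], [], [], [], [], [2, 0, 3,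
    2], [], [0, 1, 0], [], [], [], [1, 3], [], [1, 3], [], [3, 3, 2], [3, 3], [], [], [2, 0, 3, 3, 2], [2, 0, 1, 0, 2], [], [], [], [], [3, 0], [],
    [], [], [], [], [], [], [], [], [], [], [], [], [], [], [], [], [], [], [], [], [], [], [], [1], [], [], [], [], [2, 0, 2], [], [], [], [1, 3,
    0], [], [], [0, 3, 0, 2], [], [0, 2, 0, 1, 0, 2, 0], [], [], [], [], [1, 3], [1, 0, 1, 0], [], [], [1, 3, 0], [3, 3], [], [], [], [], [1, 0, 1,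
    0], [], [], [], [], [1, 3], [2, 0, 3, 3, 2], [], [], [], [], [], [], [], [], [], [], [3, 0], [], [], [], [], [], [], [], [], [], [], [], [3, 0,
    1], [], [3, 2, 0, 1], [2, 1, 0, 1, 0], [], [], [], [], [], [2, 0, 3, 2, 0, 3], [], [], [], [], [], [], [3, 2, 0], [2], [], [], [], [], [], [3, 0,
    2, 0, 3, 2], [], [], [], [0, 1], [], [], [], [], [], [], [], [], [], [2, 0, 1, 3, 2], [], [1, 3], [], [1, 3, 0], [], [3, 3], [1, 3], [3, 2, 0, 2,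
    0], [], [2], [], [2, 1], [], [], [], [], [], [], [], [], [], [], [], [], [2, 0, 3, 0, 2, 0], [], [], [], [], [], [], [1, 3], [], [], [], [], [],
    [1, 0, 2, 0, 3, 3, 2], [], [], [], [3, 0], [], [], [], [], [], [], [], [], [], [], [], [], [3, 2, 0, 1], [2, 1, 0, 1, 0], [2, 1], [2, 1], [], [2,
    1, 0, 1, 0], [], [], [], [2, 0, 3, 0, 2, 1], [], [], [], [], [], [], [], [], [], [1], [2], [2], [], [2], [], [0, 1, 0, 2, 1], [], [], [], [], [],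
    [], [], [], [], [3, 0, 1], [], [0], [], [], [], [], [], [], [], [], [], [2, 0, 1, 0], [3, 2, 0, 3], [3, 0, 2, 0, 3, 3, 2], [], [0, 1, 0], [], [],
    [3], [], [3, 0, 2, 0, 3, 3, 2], [], [3, 3], [], [3, 2, 0, 2, 1], [2], [], [3, 2, 0, 2], [], [], [], [], [2], [], [2, 1, 0, 2, 1], [], [3, 0, 3,
    2], [], [], [], [0, 3, 2, 0], [], [], [], [0, 1, 3, 2], [0, 2, 0, 3, 3], [], [], [], [], [], [], [], [], [], [3, 2, 0, 2, 0, 1], [], [], [], [],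
    [0, 2, 0, 3, 3, 2], [], [1, 0, 2, 0, 3, 3, 2], [], [], [1, 3], [], [3, 0, 2, 0, 1, 3], [], [], [], [], [], [0, 1, 0], [], [], [], [], [3, 0, 2,
    0, 3], [], [], [], [], [], [], [], [], [3, 3, 2], [2, 1], [], [], [], [2, 1], [0, 1, 0, 2], [], [], [], [], [], [2, 0, 3, 0, 2, 1], [], [], [],
    [], [], [], [3, 2, 0], [], [2], [2], [], [0, 1, 0, 2, 1], [0, 1, 0, 2, 1], [], [], [], [], [], [], [], [1, 0, 1, 0], [], [], [], [], [], [], [],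
    [], [], [0, 1], [], [], [], [2, 0, 3, 0, 2, 1], [], [], [], [], [], [], [], [], [], [], [2, 0, 1, 0], [], [], [1, 0, 1, 0], [], [], [1, 3, 2, 0],
    [2, 1, 0, 1, 0], [1, 3, 0], [1, 0, 1, 0], [], [3, 2, 0, 2, 1], [1, 0, 2, 0, 3, 3, 2], [], [], [], [2, 0, 1, 0, 2], [], [2, 1, 0, 3, 2], [0, 3, 3,
    2, 0, 2], [2, 0, 2], [0, 1, 0, 2], [1, 0, 3], [], [0, 3, 3], [0, 3, 2, 0, 1], [2], [0, 1, 0, 2, 1], [3, 0, 2, 0, 1, 3], [2], [], [], [], [2, 1],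
    [], [], [], [], [], [1, 0, 2, 1, 0, 1], [], [], [1, 3], [], [], [], [], [], [], [2, 0, 3, 0, 2, 1, 0], [], [1, 0, 2, 0, 3, 3, 2], [], [2, 0, 2],
    [], [0, 2, 0, 3, 3], [], [], [], [], [2, 0, 1, 0, 2, 1], [], [], [], [0, 1, 0], [0, 3, 3, 2, 0, 2], [], [], [], [], [], [], [0, 2, 0, 3, 3, 2],
    [2, 0, 1, 0, 2, 1], [3, 0, 2, 0, 1], [2, 1, 0, 2], [3, 0, 2, 0, 3], [], [], [], [3, 0, 2, 0, 3], [3, 0, 2, 1, 0, 1], [], [], [], [], [3, 3, 2],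
    [], [], [], [], [2], [2, 1], [], [2, 0, 3, 0, 2, 1], [], [], [], [], [3, 0, 2, 0], [], [], [0, 2, 0, 3, 0, 2, 0], [0, 2, 0], [2, 0, 2], [0, 1, 3,
    2, 0], [], [1, 0, 2, 1, 0, 1], [2, 0, 1, 0, 2], [3, 0, 2, 1, 0], [], [], [], [1, 0, 2, 0, 3, 3, 2], [], [1, 0, 1, 0], [3, 0, 2, 0, 1], [], [],
    [1, 3], [], [], [1], [1], [], [3], [], [], [1, 0, 2, 1, 0, 1], [0, 1, 0, 2, 1], [], [], [], [1, 0, 2, 0, 1], [0], [], [0, 3, 0, 2, 1], [], [],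
    [2, 0, 1, 0, 2, 0], [2, 0, 3, 0, 2], [], [0, 3, 0, 2, 1], [], [], [], [3, 0, 3], [1, 3, 0], [2, 0, 3, 0, 2, 1], [3, 0, 2, 0, 3, 0], [3, 0, 3, 2,
    0, 1, 0], [], [], [], [], [], [], [], [], [3, 0, 3], [1, 0, 1, 0], [3, 0, 3], [], [1, 3, 2, 0], [1, 3, 0], [], [], [], [0, 2], [], [0, 2, 1], [],
    [3, 0, 3, 2], [0, 1, 0, 2, 1], [], [0, 2, 0, 3, 3], [2], [3, 3], [], [2], [], [3, 2, 0, 3], [2, 1], [1, 3, 2], [], [3, 2, 0, 2], [], [1, 0, 2, 0,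
    3, 3, 2], [], [], [], [], [2], [], [], [0, 2, 0, 3], [], [], [], [3, 0, 2, 0, 1], [2, 0, 2], [0, 3, 0, 2, 0, 1], [], [0, 2, 0, 3], [2], [3, 3,
    2], [2, 1, 0, 3, 2], [3, 0, 2, 0], [1, 0, 2, 0, 3, 3, 2], [1, 0, 2, 0, 3, 3, 2], [1, 0, 2, 1, 0, 1], [0, 2, 1, 0, 2, 0], [1, 3], [2, 1], [0, 1,
    3, 2], [3, 0, 2, 0, 1, 3], [3, 0, 2, 0, 1, 3], [1, 0, 2, 0, 3, 3, 2], [], [1, 0, 2, 0, 3, 3, 2], [0, 2, 0, 1], [0, 2, 0, 3, 3, 2], [2, 0, 3, 2,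
    0, 1, 0], [], [0, 2, 1, 0, 2, 0], [], [0, 2], [1, 3], [], [1, 0, 2, 1, 0], [2, 1, 0, 2], [3, 0, 2, 0, 1], [2, 0, 2], [0, 2, 0, 3, 3, 2], [3, 0,
    2, 0, 1], [], [3, 0, 2, 0, 1], [], [], [0, 1, 0], [1, 0, 1], [0, 2, 1], [3, 2, 0, 3, 2], [], [], [0, 2, 0, 3, 3, 2], [], [3, 2, 0], [], [], [],
    [], [0, 3, 2, 0], [3, 0, 2, 0], [], [], [], [1, 3, 0, 2, 0], [2, 1, 0, 2, 1], [], [], [1], [3], [], [], [], [1], [], [], [1, 3], [1, 3], [1], [3,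
    3], [], [0, 3], [2, 0, 1, 0, 2], [3], [3, 0, 2, 0, 1, 3], [2, 0, 1, 0, 2, 1], [0, 2], [2, 0, 1, 0, 2], [1, 0, 2, 1, 0, 1], [0, 3, 0, 2, 1], [3,
    2, 0, 2], [1, 0], [], [2, 0, 1, 0, 2, 0], [1, 0, 2, 0, 1, 0], [0, 3, 0, 2], [], [], [], [1, 0, 2, 1, 0, 1, 0], [2, 0, 3, 0, 2, 1], [3, 0, 2, 0,
    3, 0], [3, 0, 3, 2, 0, 1, 0], [], [], [], [], [], [0, 3, 0, 2], [], [], [0, 3, 2, 0, 2], [], [], [1, 0, 1, 0], [0, 1], [], [1, 0, 2, 0, 3, 3, 2],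
    [0, 2, 1], [], [], [], [0, 2], [2], [], [0, 3, 0, 2, 0], [3, 2, 0, 2, 1], [2], [2], [2, 0, 3, 3, 2, 0], [], [0, 2, 0, 1, 3, 2], [2, 1], [1, 3],
    [2, 1], [], [1, 0, 2, 0, 3, 3, 2], [], [1, 0, 2, 0], [2, 0, 3, 0, 2, 1, 0], [], [], [2], [3, 0, 1, 0], [1, 0, 2, 0, 3, 0], [3, 0, 2, 0, 1], [],
    [3, 2, 0, 1], [], [2, 0, 3, 2, 0, 1, 0], [2, 0, 3, 3, 2, 0], [0, 2, 0, 3], [3, 3, 2], [2, 1, 0, 3, 2], [3, 0, 2, 0, 1, 3], [], [2, 1], [1, 0, 2,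
    0, 3, 3, 2], [1, 0, 3, 2, 0, 1], [0, 2, 1, 0, 2, 0], [], [0, 3, 3, 2, 0, 2], [0, 2, 0, 3], [], [], [1, 0, 2, 1, 0, 1], [0, 2, 0, 1], [0, 2], [2,
    0, 3, 0, 2, 1, 0], [2, 0, 1, 0, 2, 1], [3, 0, 2, 1, 0, 1], [0, 3, 2, 0, 2], [1], [], [0, 2, 1], [], [], [], [0, 3, 2, 0], [], [], [], [], [1, 0,
    3, 2, 0, 1, 0], [2], [0, 2, 1], [2, 0, 1, 0, 2, 1], [2, 0, 1, 0, 2], [], [], [], [], [0, 2, 0], [2, 0, 1, 0, 2], [1], [1], [1, 0, 2, 1, 0], [3,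
    2], [2, 1], [], [0, 3, 0, 2, 1], [2, 0, 3, 0, 2, 1, 0], [2, 0, 1, 3, 2, 0], [0, 2, 0, 1, 0], [1, 0, 2, 0, 1, 0], [3, 0, 2, 0, 3, 0], [0, 2, 0, 1,
    0], [2, 0, 3, 0, 2, 1], [0, 2, 0, 1, 0], [], [0, 1, 0], [3, 0, 2, 1, 0, 1], [2, 0, 3, 0, 2], [0, 3, 3, 2], [], [3, 0, 2, 1, 0], [], [1, 0, 1, 0],
    [3, 0, 2, 0, 1], [3, 2, 0, 1, 0], [], [], [], [], [0, 2, 0], [3, 2, 0, 2, 0, 1], [3, 2], [], [0, 2], [], [1, 3], [3, 0, 2, 0, 1], [2, 0, 3, 3, 2,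
    0], [3, 2, 0], [0, 2, 0, 1], [2, 0, 2, 0, 1, 0], [0, 1, 0, 2, 1], [0, 3, 0, 2, 0, 1], [0, 1, 0, 2], [2, 0, 3, 0, 2, 1, 0], [1, 0, 2, 0, 3, 3, 2],
    [], [2, 1, 0, 1, 0], [2, 1], [2, 1], [], [], [3, 0, 2, 1, 0, 1, 0], [], [2], [0, 2, 1, 0, 2, 0], [2, 1], [3, 2, 0, 3, 2, 0], [1, 3, 2], [0, 2, 1,
    0, 1, 0], [0, 2, 1, 0, 1, 0], [2, 0, 3, 0, 2], [2, 0, 3, 0, 2, 0, 1], [0, 2, 0], [1, 0, 1, 0], [2, 0, 1, 0], [2, 0, 1, 3], [2, 1, 0, 2, 1, 0],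
    [0], [0, 3, 0, 2, 1, 0], [0, 2], [2, 1]]

def e1_e8 : List Wd :=
    [[], [], [], [], [], [], [], [], [], [], [], [], [], [], [], [], [2, 0, 1, 0, 2], [], [], [], [], [], [], [], [], [], [], [], [], [], [], [], [],
    [], [2, 0, 1, 0, 2], [], [], [], [], [], [], [], [], [], [], [], [], [], [], [2, 0, 1, 0, 2, 1], [2, 0, 1, 0, 2, 1], [], [], [], [], [], [], [],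
    [], [], [1, 3], [], [], [2, 0, 1, 0, 2], [2, 0, 1, 0, 2], [], [3, 2, 0, 2], [], [], [], [], [2, 0, 1, 0, 2], [2, 0, 1, 0, 2], [], [], [], [2, 0,
    1, 0, 2], [2, 0, 1, 0, 2], [], [], [], [], [], [], [1, 0, 2, 0, 3, 3, 2], [2, 0, 1, 0, 2, 1], [], [], [2, 0, 3, 3, 2], [], [3, 3], [1], [], [],
    [], [], [], [], [2, 0, 1, 0, 2, 1], [2, 0, 1, 0, 2, 1], [], [3, 2, 0, 2, 0], [], [], [], [], [], [], [], [], [3], [1, 3], [], [], [], [], [], [2,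
    0, 1, 0, 2], [], [3, 2, 0, 2], [], [], [], [], [], [], [0, 1, 0], [0, 1, 0], [], [], [3, 0, 1, 0], [], [], [], [2, 0, 1, 0, 2, 1], [], [], [],
    [3, 3], [3, 0, 1], [], [3, 3], [], [], [3, 2, 0, 2, 0, 1], [], [], [], [], [], [], [], [], [1, 3], [1, 3], [], [], [2, 0, 1, 0, 2, 1], [2, 0, 1,
    0, 2, 1], [], [3, 0, 3], [], [], [1, 3], [], [], [2, 0, 3, 3, 2], [], [2, 0, 3, 3, 2], [3], [1, 3], [1, 3], [], [], [1, 3], [], [], [3, 2, 0, 2],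
    [], [], [], [2, 0, 1, 0, 2], [], [3, 2, 0, 2, 0], [], [], [], [3], [0, 2, 0, 1, 0, 2, 0], [0, 2, 0, 3, 3, 2], [0, 2, 0, 1, 0, 2, 0], [], [], [],
    [0, 2, 0, 1, 0, 2, 0], [0, 2, 0, 3, 3, 2], [], [0, 1, 0], [0, 1, 0], [], [], [], [], [], [], [], [], [], [], [], [], [1], [], [], [], [], [0, 1,
    0], [0, 1, 0], [], [], [0, 3, 0], [], [], [], [], [], [1], [1], [], [], [], [], [], [], [1], [], [], [1], [], [], [1, 3], [], [], [0], [], [],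
    [0, 2, 0, 1, 0, 2, 0], [], [], [], [], [], [], [1, 3], [], [], [], [3, 2, 0, 2], [], [], [], [1, 0], [1, 3], [], [], [1, 3], [2, 0, 3, 3, 2, 0],
    [], [1, 3], [0, 2, 0, 1, 0, 2, 0], [], [0, 2, 0, 3, 3, 2], [0, 1, 0], [0, 1, 0], [], [], [0], [], [], [], [0, 1, 3], [0, 1, 3], [], [1, 0, 1],
    [0, 3, 2, 0, 2], [], [], [], [0, 1, 0], [0, 1, 0], [], [], [], [], [], [], [], [], [3], [], [], [], [], [], [], [3, 0, 3], [], [], [], [0, 3, 0],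
    [0, 2, 0, 1, 0, 2, 0], [0, 2, 0, 1, 0, 2, 0], [0, 2, 0, 1, 0, 2, 0], [0, 2, 0, 1, 0, 2, 0], [], [0, 1, 3], [0, 1, 0], [0, 1, 0], [], [], [], [],
    [1, 3], [], [0, 1, 0], [0, 1, 0], [], [], [], [], [], [], [], [], [], [], [], [], [3, 3], [], [0], [], [0], [1, 3, 0], [1, 3, 0], [], [], [], [0,
    3, 0, 2], [], [], [], [], [2, 0, 3, 3, 2], [3], [1, 3], [], [3, 3], [], [], [1, 3], [], [], [], [1], [1], [], [1], [0], [3, 3, 0], [3, 3, 0], [],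
    [], [], [3, 2, 0, 2], [3, 2, 0, 2, 0], [1, 3, 2, 0, 2], [], [], [2, 0, 3, 2, 0, 3], [2, 0, 1, 3, 2], [], [0, 2, 0, 1, 0, 2, 0], [0, 1, 0, 2, 1],
    [], [], [], [], [], [1, 3], [], [], [1, 3], [], [3, 2, 0, 3], [3, 0, 3], [1, 0, 3], [0, 3], [0, 3], [], [0], [], [], [], [0, 1, 3], [0, 1, 3],
    [], [], [], [], [], [], [], [], [], [], [], [], [0, 1, 0], [0, 1, 0], [], [], [], [], [], [], [], [], [3, 2, 0, 2, 1], [], [], [3, 1], [], [2, 0,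
    3, 0, 2, 1], [], [], [3, 3], [], [3, 2, 0, 2, 0], [0, 1, 3], [0, 1, 0], [0, 1, 0], [], [], [], [], [], [], [0, 2, 0, 1, 0, 2, 0], [0, 2, 0, 1, 0,
    2, 0], [], [0, 2, 0, 1, 0, 2, 0], [0, 2, 0, 1, 0, 2, 0], [], [], [0, 1, 0], [0, 1, 0], [], [], [1, 0, 3, 2, 0, 1, 0], [1, 0, 1, 0], [0, 1, 0],
    [0, 1, 0], [], [], [], [0, 2, 0], [0, 2, 0, 3, 3], [0, 3, 2, 0, 1, 0], [], [], [], [1], [3, 2, 0, 2], [0], [1, 3, 0], [1, 3, 0], [], [], [], [],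
    [], [], [], [], [], [3, 2, 0, 3], [], [], [], [2, 1, 0, 1, 0], [], [2, 1], [1, 3], [1, 3], [], [3, 2, 0, 2], [], [1], [], [], [0, 3, 0], [0, 1,
    0, 2], [2, 0, 3, 3, 2], [1, 0, 1, 0], [3, 2, 0, 2], [1, 3, 2, 0, 2], [], [], [2, 0, 1, 0, 2, 1, 0], [2, 0, 1, 3, 2], [2, 0, 3, 0, 2, 1, 0], [],
    [], [], [], [], [], [], [], [], [], [], [1, 3], [], [2, 0, 1, 0, 2], [], [], [], [1, 3], [3], [], [], [], [], [1, 3], [], [], [1, 3], [], [0],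
    [], [], [1, 0, 1, 0], [1], [0, 3, 3], [0, 1, 0], [0, 1, 0], [], [1, 0, 2, 0, 1, 3], [], [], [0, 1, 3], [], [], [0, 3, 2, 0, 1, 0], [2, 0, 3, 0,
    2, 1], [0], [3, 0, 2, 1, 0, 1], [], [3, 0, 1, 0], [1, 0, 1, 0], [1, 0, 1, 0], [], [], [0, 1, 0], [0, 1, 0], [], [], [], [], [], [], [], [3, 2, 0,
    2, 1], [], [2, 0, 1, 0, 2], [3, 1], [], [], [], [], [3, 0, 2, 1, 0], [], [3, 3], [0, 2, 0], [3, 3], [3, 0, 2, 0], [], [0, 3, 0], [1, 0, 1, 0],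
    [1, 0, 1, 0], [], [3, 3, 0], [3, 2, 0, 2, 1, 0], [], [2, 0], [], [1, 0, 2, 0, 3, 3], [], [], [], [0, 3, 2, 0, 2], [0, 2, 1, 0], [0, 1, 3], [1, 0,
    1, 0], [1, 0, 1, 0], [], [3, 2, 0, 2, 0], [], [], [1, 0, 1, 0], [1, 0, 1, 0], [], [], [0, 1, 0], [0, 2, 0], [1, 0, 2, 1, 0, 1], [], [], [0, 3, 0,
    2], [], [2, 0, 3, 2], [], [1], [3, 2, 0, 2], [], [0], [1, 3, 0], [1, 3, 0], [], [], [], [0], [0, 3, 3], [0, 3, 3], [], [], [], [], [], [1], [],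
    [0, 3, 3, 2, 0], [], [], [], [], [], [2, 1, 0, 1, 0], [], [3, 2, 0, 2, 0, 1, 0], [], [1], [0, 2], [], [], [3, 0], [3, 0], [], [], [1, 0, 2, 0, 3,
    3, 2], [3, 0, 2, 0, 1], [], [], [], [], [], [2, 0, 3, 0, 2], [], [], [3, 2, 0, 2], [1, 0, 2, 0, 3, 3, 2], [], [], [], [], [], [], [1, 3], [], [2,
    0, 1], [2, 0, 3, 0, 2, 0, 1], [], [3, 0, 2, 0, 3], [1, 3], [3], [0, 2, 0, 1, 3], [3, 2, 0, 2, 0, 1], [0, 2, 0, 3, 0, 2, 0], [0, 2, 0, 3, 3, 2],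
    [], [1, 0, 2, 0, 3, 3, 2], [], [1, 3], [], [0, 2, 0, 3], [], [], [], [], [1, 3], [], [1, 3], [], [], [3, 0], [1, 3], [], [], [], [1, 0, 3, 2, 0,
    1, 0], [0, 1, 3], [], [], [3, 0, 2, 1, 0, 3], [1, 0, 2, 0], [2, 0, 3, 0, 2, 1], [0], [], [], [0, 1, 0], [], [], [], [1, 0, 1, 0], [], [], [1, 3,
    2, 0, 2], [1, 0, 3, 2, 0], [2, 0, 3, 3, 2], [2, 0, 3, 0, 2, 1], [], [2, 0], [2, 0, 1, 0, 2], [2, 0, 3, 3, 2], [], [], [], [], [], [3, 2, 0], [3,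
    0, 2, 1, 0, 3], [0, 3, 2, 0], [2, 1, 0, 1], [0, 1, 0], [0, 1, 0], [], [0, 2, 0], [], [1, 3], [3, 2, 0, 2, 0, 1], [], [3, 2, 0, 2, 0, 1], [0, 3,
    2, 0, 1, 0], [], [3, 2, 0, 2, 1, 0], [], [1, 0, 2, 1, 0, 1], [1, 0, 2], [2, 0, 3, 0], [2, 0, 3, 2, 0], [1, 0, 2, 0, 3, 3], [], [1, 0, 2, 1, 0, 1,
    0], [0, 3, 0, 2, 1], [], [], [], [2, 0, 3, 0, 2], [], [1, 0, 2, 1, 0, 1, 0], [0, 3, 0, 2, 0, 1], [], [1, 3], [1, 3, 0], [], [], [0], [], [1, 0],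
    [], [1, 0, 1, 0], [0, 1, 0], [0, 1, 0], [3, 0, 3], [0, 3, 0, 2, 1], [0, 3, 3, 2], [1, 3, 0], [], [0, 3, 0, 2, 0, 1], [], [], [], [1, 0, 2, 0, 3,
    3, 2], [], [], [], [], [], [], [0, 3, 2, 0], [1, 0, 3, 2], [2, 0, 1, 0, 2, 1], [3, 0, 3], [2, 0, 3, 3, 2, 0], [1, 0, 2, 0, 3, 3, 2], [], [3, 2,
    0, 2, 0, 1], [], [2, 0, 3, 0, 2, 0], [3, 2, 0, 1], [1], [2, 0, 3, 0, 2, 1, 0], [], [3, 0, 1], [3, 0, 2, 0, 3, 2], [3, 0, 2, 0, 3, 2], [0, 2, 1,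
    0], [], [2, 1, 0, 2], [0, 2, 1, 0, 2, 0], [1, 0, 2, 0], [1, 0, 2, 0], [0, 3, 2, 0, 1], [0, 3, 0, 2, 0, 1], [3, 3, 2, 0, 2], [1, 3], [], [], [0,
    1, 0, 2, 1], [], [1, 0, 1, 0], [], [], [1, 3], [], [], [1, 3], [0, 3, 0, 2, 0, 1], [], [2, 0, 1, 0, 2], [], [], [3, 2, 0, 2, 0, 1], [2, 0, 3, 0,
    2, 1], [0], [], [0, 1, 0], [], [3, 2, 0, 3, 2], [2, 0, 2, 1], [], [2, 0, 1, 0, 2], [], [0], [3, 0, 2, 1, 0], [1, 3, 0, 2, 0], [1, 3, 0, 2, 0],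
    [], [0, 2, 1, 0, 1], [], [1, 0, 2, 1, 0, 1], [1], [0, 3, 0], [2, 1, 0, 3], [], [], [2, 0, 1, 0, 2, 1], [1, 3], [0, 3, 3, 2, 0], [3], [0, 2, 0, 1,
    3], [0, 2, 0, 1, 3], [1, 0, 2, 0, 3, 3], [0, 2, 0, 1, 0], [3, 3, 2, 0, 2], [], [3, 2, 0, 2, 1], [3, 2, 0, 2, 1], [3, 0, 3], [], [2, 0, 2, 0, 1,
    0], [], [], [0], [0], [0, 1, 3, 2, 0, 2], [3, 0, 2, 0, 3, 2], [0, 1, 0, 2, 0], [0, 3, 2, 0, 2], [1, 0, 1, 0], [3, 3], [0, 1], [], [], [3, 0, 3,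
    2], [2], [0, 2, 0, 3, 0, 2, 0], [0, 2, 0, 3, 0, 2, 0], [], [0, 2, 0], [2, 0], [1, 0, 2], [3, 0, 2, 0, 1], [2, 0, 3, 0, 2, 1, 0], [0, 2, 0, 1],
    [], [3, 2, 0, 2], [1, 0, 2, 0, 3, 3, 2], [], [2, 0, 1, 0, 2, 1], [], [0, 3, 0], [0, 2, 1, 0, 2, 0], [], [3, 2, 0, 3], [0], [2, 0, 3, 2], [2, 0,
    3, 3, 2], [2, 0, 2, 1, 0, 1, 0], [2, 0, 1, 0, 2], [0, 3, 2, 0, 1, 0], [1, 0, 2, 1, 0, 3], [3, 0, 2, 1, 0], [], [2, 0, 1, 0, 2], [2, 0, 2, 0], [2,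
    0, 3, 0, 2, 1], [0, 2, 1, 0], [0, 2, 1, 0], [1, 0, 2, 0, 1, 3], [2, 1, 0, 2, 0, 1, 0], [2, 0, 2, 1, 0, 1, 0], [0], [3, 2, 0, 2, 1], [2, 0, 2, 0,
    1, 0], [0, 3, 0], [2, 0, 1, 0, 2], [1, 3, 0, 2, 0], [1, 0, 2, 0, 1], [0, 2], [2, 0, 1, 0, 2, 0], [3], [2, 1, 0, 2, 0, 1, 0]]

def e1_fin : Cb :=
    [(1, [], 0), (1, [7], 0), (1, [8, 7], 0), (1, [7, 7, 7], 0), (1, [8, 8, 7], 0), (1, [7, 7, 7, 7], 0), (1, [8, 7, 7, 7], 0), (1, [7, 8, 7, 7], 0),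
    (1, [8, 8, 7, 7], 0), (1, [8, 7, 8, 7], 0), (1, [7, 8, 8, 7, 7], 0), (1, [7, 7, 7, 8, 7], 0), (1, [8, 7, 7, 8, 7], 0), (1, [8, 8, 7, 8, 7], 0),
    (1, [7, 7, 8, 8, 7, 7], 0), (1, [8, 7, 8, 8, 7, 7], 0), (1, [7, 8, 8, 7, 8, 7], 0), (1, [8, 7, 7, 8, 8, 7], 0), (1, [7, 8, 7, 8, 8, 7], 0), (1,
    [8, 8, 7, 8, 8, 7], 0), (1, [7, 8, 7, 8, 7, 7, 7], 0), (1, [8, 8, 7, 8, 7, 7, 7], 0), (1, [7, 7, 7, 7, 8, 7, 7], 0), (1, [8, 7, 7, 8, 8, 7, 7],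
    0), (1, [7, 8, 7, 8, 8, 7, 7], 0), (1, [8, 8, 7, 8, 8, 7, 7], 0), (1, [7, 7, 7, 7, 7, 8, 7], 0), (1, [7, 7, 8, 8, 7, 8, 7], 0), (1, [8, 7, 8, 8,
    7, 8, 7], 0), (1, [7, 7, 7, 7, 8, 8, 7], 0), (1, [7, 8, 7, 7, 8, 8, 7], 0), (1, [7, 7, 7, 7, 7, 7, 7, 7], 0), (1, [8, 7, 7, 7, 7, 7, 7, 7], 0),
    (1, [7, 8, 7, 7, 8, 8, 7, 7], 0), (1, [8, 8, 7, 7, 8, 8, 7, 7], 0), (1, [7, 7, 8, 7, 8, 8, 7, 7], 0), (1, [7, 7, 7, 8, 7, 7, 8, 7], 0), (1, [7,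
    7, 8, 7, 7, 8, 8, 7], 0), (1, [7, 7, 8, 8, 7, 8, 8, 7], 0), (1, [7, 8, 7, 7, 7, 7, 7, 7, 7], 0), (1, [7, 7, 7, 7, 7, 8, 8, 7, 7], 0), (1, [8, 7,
    8, 7, 7, 8, 8, 7, 7], 0), (1, [7, 7, 7, 8, 7, 8, 8, 7, 7], 0), (1, [7, 7, 8, 8, 7, 8, 8, 7, 7], 0), (1, [7, 7, 7, 7, 7, 7, 7, 8, 7], 0), (1, [7,
    8, 7, 7, 7, 7, 7, 8, 7], 0), (1, [7, 7, 7, 7, 8, 8, 7, 8, 7], 0), (1, [8, 7, 7, 7, 7, 7, 8, 8, 7], 0), (1, [7, 7, 7, 8, 7, 7, 8, 8, 7], 0), (1,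
    [7, 7, 7, 7, 8, 7, 8, 8, 7], 0), (1, [7, 7, 7, 8, 8, 7, 8, 8, 7], 0), (1, [7, 8, 7, 8, 8, 7, 8, 8, 7], 0), (1, [7, 7, 8, 7, 7, 7, 7, 7, 7, 7],
    0), (1, [7, 7, 7, 8, 7, 7, 7, 7, 7, 7], 0), (1, [8, 7, 7, 8, 7, 7, 7, 7, 7, 7], 0), (1, [7, 7, 7, 7, 8, 7, 8, 7, 7, 7], 0), (1, [7, 8, 7, 7, 8,
    7, 8, 7, 7, 7], 0), (1, [7, 7, 7, 7, 7, 7, 7, 8, 7, 7], 0), (1, [7, 8, 7, 7, 7, 7, 7, 8, 7, 7], 0), (1, [7, 8, 7, 7, 7, 7, 8, 8, 7, 7], 0), (1,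
    [8, 8, 7, 7, 7, 7, 8, 8, 7, 7], 0), (1, [7, 7, 7, 8, 7, 7, 8, 8, 7, 7], 0), (1, [7, 7, 7, 7, 8, 7, 8, 8, 7, 7], 0), (1, [7, 7, 7, 8, 8, 7, 8, 8,
    7, 7], 0), (1, [8, 8, 7, 8, 8, 7, 8, 8, 7, 7], 0), (1, [7, 8, 7, 7, 7, 7, 7, 7, 8, 7], 0), (1, [7, 7, 8, 7, 7, 7, 7, 7, 8, 7], 0), (1, [7, 8, 7,
    7, 7, 8, 7, 7, 8, 7], 0), (1, [8, 7, 7, 7, 7, 8, 8, 7, 8, 7], 0), (1, [7, 8, 7, 7, 7, 7, 7, 8, 8, 7], 0), (1, [7, 7, 7, 7, 8, 7, 7, 8, 8, 7], 0),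
    (1, [8, 7, 7, 7, 7, 8, 7, 8, 8, 7], 0), (1, [7, 7, 7, 7, 8, 8, 7, 8, 8, 7], 0), (1, [7, 8, 8, 7, 8, 8, 7, 8, 8, 7], 0), (1, [7, 8, 7, 7, 8, 7, 7,
    7, 7, 7, 7], 0), (1, [7, 8, 7, 7, 7, 8, 7, 8, 7, 7, 7], 0), (1, [8, 7, 7, 7, 7, 7, 7, 7, 8, 7, 7], 0), (1, [7, 7, 7, 8, 7, 7, 7, 7, 8, 7, 7], 0),
    (1, [8, 7, 7, 8, 7, 7, 7, 7, 8, 7, 7], 0), (1, [7, 7, 8, 8, 7, 7, 7, 7, 8, 7, 7], 0), (1, [8, 7, 8, 8, 7, 7, 7, 7, 8, 7, 7], 0), (1, [7, 7, 8, 7,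
    7, 7, 7, 8, 8, 7, 7], 0), (1, [7, 8, 8, 7, 7, 7, 7, 8, 8, 7, 7], 0), (1, [8, 7, 7, 7, 8, 7, 7, 8, 8, 7, 7], 0), (1, [8, 8, 7, 7, 8, 7, 7, 8, 8,
    7, 7], 0), (1, [8, 7, 8, 7, 8, 7, 7, 8, 8, 7, 7], 0), (1, [7, 8, 8, 7, 8, 7, 7, 8, 8, 7, 7], 0), (1, [7, 7, 7, 7, 7, 8, 7, 8, 8, 7, 7], 0), (1,
    [8, 8, 7, 7, 7, 8, 7, 8, 8, 7, 7], 0), (1, [8, 7, 7, 7, 8, 8, 7, 8, 8, 7, 7], 0), (1, [8, 8, 7, 7, 8, 8, 7, 8, 8, 7, 7], 0), (1, [7, 7, 7, 7, 7,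
    7, 8, 8, 7, 8, 7], 0), (1, [7, 7, 7, 7, 7, 8, 7, 7, 8, 8, 7], 0), (1, [7, 7, 7, 7, 7, 7, 8, 7, 8, 8, 7], 0), (1, [7, 8, 7, 7, 7, 7, 8, 7, 8, 8,
    7], 0), (1, [8, 8, 7, 7, 7, 7, 8, 7, 8, 8, 7], 0), (1, [7, 7, 7, 7, 7, 8, 8, 7, 8, 8, 7], 0), (1, [8, 7, 8, 8, 7, 8, 8, 7, 8, 8, 7], 0), (1, [8,
    7, 7, 8, 7, 7, 8, 7, 8, 7, 7, 7], 0), (1, [8, 8, 7, 7, 7, 7, 7, 7, 7, 8, 7, 7], 0), (1, [7, 7, 7, 8, 7, 7, 7, 7, 7, 8, 7, 7], 0), (1, [8, 7, 7,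
    8, 7, 7, 7, 7, 7, 8, 7, 7], 0), (1, [7, 7, 7, 7, 8, 7, 7, 7, 7, 8, 7, 7], 0), (1, [8, 7, 7, 7, 8, 7, 7, 7, 7, 8, 7, 7], 0), (1, [7, 8, 7, 8, 8,
    7, 7, 7, 7, 8, 7, 7], 0), (1, [8, 8, 7, 8, 8, 7, 7, 7, 7, 8, 7, 7], 0), (1, [8, 8, 7, 7, 7, 8, 7, 7, 8, 8, 7, 7], 0), (1, [8, 7, 7, 8, 7, 8, 7,
    7, 8, 8, 7, 7], 0), (1, [8, 7, 8, 8, 7, 8, 7, 7, 8, 8, 7, 7], 0), (1, [7, 8, 7, 7, 7, 8, 8, 7, 8, 8, 7, 7], 0), (1, [8, 8, 7, 7, 7, 8, 8, 7, 8,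
    8, 7, 7], 0), (1, [8, 7, 7, 7, 7, 7, 7, 8, 7, 7, 8, 7], 0), (1, [7, 7, 7, 8, 7, 7, 7, 8, 7, 7, 8, 7], 0), (1, [7, 7, 8, 8, 7, 7, 7, 8, 7, 7, 8,
    7], 0), (1, [7, 8, 8, 7, 7, 7, 7, 8, 8, 7, 8, 7], 0), (1, [8, 7, 8, 8, 7, 7, 7, 7, 7, 8, 8, 7], 0), (1, [7, 7, 8, 7, 7, 7, 8, 7, 7, 8, 8, 7], 0),
    (1, [7, 8, 8, 7, 7, 7, 8, 7, 7, 8, 8, 7], 0), (1, [7, 8, 7, 7, 7, 7, 8, 8, 7, 8, 8, 7], 0), (1, [7, 8, 7, 7, 8, 7, 7, 7, 7, 7, 8, 7, 7], 0), (1,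
    [8, 8, 7, 7, 8, 7, 7, 7, 7, 7, 8, 7, 7], 0), (1, [7, 8, 7, 7, 7, 8, 7, 7, 7, 7, 8, 7, 7], 0), (1, [7, 7, 8, 7, 7, 8, 7, 7, 7, 7, 8, 7, 7], 0),
    (1, [8, 7, 8, 7, 7, 8, 7, 7, 7, 7, 8, 7, 7], 0), (1, [7, 7, 7, 7, 8, 8, 7, 7, 7, 7, 8, 7, 7], 0), (1, [8, 7, 7, 7, 8, 8, 7, 7, 7, 7, 8, 7, 7],
    0), (1, [7, 8, 7, 7, 8, 8, 7, 7, 7, 7, 8, 7, 7], 0), (1, [7, 7, 8, 7, 8, 8, 7, 7, 7, 7, 8, 7, 7], 0), (1, [8, 8, 7, 8, 8, 7, 7, 7, 7, 8, 8, 7,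
    7], 0), (1, [7, 7, 8, 8, 7, 7, 8, 7, 7, 8, 8, 7, 7], 0), (1, [7, 8, 7, 7, 8, 7, 8, 7, 7, 8, 8, 7, 7], 0), (1, [7, 7, 8, 7, 8, 7, 8, 7, 7, 8, 8,
    7, 7], 0), (1, [7, 8, 8, 7, 8, 7, 8, 7, 7, 8, 8, 7, 7], 0), (1, [8, 7, 8, 8, 7, 7, 7, 8, 7, 8, 8, 7, 7], 0), (1, [7, 8, 8, 7, 7, 7, 8, 8, 7, 8,
    8, 7, 7], 0), (1, [7, 7, 7, 8, 7, 7, 8, 8, 7, 8, 8, 7, 7], 0), (1, [7, 8, 7, 8, 7, 7, 8, 8, 7, 8, 8, 7, 7], 0), (1, [7, 7, 8, 8, 7, 7, 8, 8, 7,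
    8, 8, 7, 7], 0), (1, [8, 7, 7, 7, 8, 7, 7, 7, 8, 7, 7, 8, 7], 0), (1, [7, 7, 7, 8, 8, 7, 7, 7, 8, 7, 7, 8, 7], 0), (1, [8, 7, 7, 8, 8, 7, 7, 7,
    7, 7, 8, 8, 7], 0), (1, [7, 7, 8, 8, 7, 7, 7, 8, 7, 7, 8, 8, 7], 0), (1, [7, 7, 8, 7, 7, 7, 7, 8, 8, 7, 8, 8, 7], 0), (1, [7, 8, 8, 7, 7, 7, 8,
    7, 7, 7, 7, 8, 7, 7], 0), (1, [7, 8, 7, 8, 7, 7, 8, 7, 7, 7, 7, 8, 7, 7], 0), (1, [8, 7, 8, 7, 7, 8, 8, 7, 7, 7, 7, 8, 7, 7], 0), (1, [8, 8, 7,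
    8, 7, 7, 7, 8, 7, 7, 8, 8, 7, 7], 0), (1, [8, 7, 7, 8, 8, 7, 7, 8, 7, 7, 8, 8, 7, 7], 0), (1, [8, 7, 7, 8, 7, 8, 7, 8, 7, 7, 8, 8, 7, 7], 0), (1,
    [8, 8, 7, 8, 8, 7, 7, 7, 8, 7, 8, 8, 7, 7], 0), (1, [8, 7, 8, 8, 7, 7, 7, 8, 8, 7, 8, 8, 7, 7], 0), (1, [7, 7, 7, 7, 8, 8, 7, 7, 7, 8, 7, 7, 8,
    7], 0), (1, [8, 7, 7, 7, 8, 8, 7, 7, 7, 8, 7, 7, 8, 7], 0), (1, [7, 8, 7, 7, 8, 8, 7, 7, 8, 7, 7, 8, 8, 7, 7], 0), (1, [8, 7, 7, 8, 7, 7, 7, 7,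
    7, 7, 8, 7, 7, 8, 7], 0), (1, [], 1), (1, [7, 7], 1), (1, [8, 8], 1), (1, [7, 7, 7], 1), (1, [7, 8, 7], 1), (1, [7, 7, 7, 7], 1), (1, [8, 7, 7,
    7], 1), (1, [7, 7, 8, 7], 1), (1, [8, 8, 7, 8], 1), (1, [7, 7, 8, 8], 1), (1, [8, 7, 8, 8], 1), (1, [8, 8, 7, 8, 7], 1), (1, [7, 7, 8, 8, 7], 1),
    (1, [8, 7, 8, 8, 7], 1), (1, [8, 7, 7, 7, 8], 1), (1, [8, 7, 8, 7, 8], 1), (1, [7, 7, 7, 8, 8], 1), (1, [7, 8, 7, 8, 8], 1), (1, [7, 7, 8, 7, 7,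
    7], 1), (1, [7, 7, 7, 7, 8, 7], 1), (1, [8, 7, 7, 7, 8, 7], 1), (1, [7, 7, 7, 8, 8, 7], 1), (1, [8, 7, 7, 8, 8, 7], 1), (1, [7, 8, 7, 7, 7, 8],
    1), (1, [8, 8, 7, 7, 7, 8], 1), (1, [7, 7, 8, 7, 7, 8], 1), (1, [7, 8, 8, 7, 7, 8], 1), (1, [7, 7, 7, 8, 7, 8], 1), (1, [8, 7, 7, 8, 7, 8], 1),
    (1, [7, 7, 8, 8, 7, 8], 1), (1, [7, 7, 8, 7, 8, 8], 1), (1, [8, 7, 7, 7, 7, 7, 7], 1), (1, [8, 7, 7, 8, 7, 7, 7], 1), (1, [7, 8, 7, 8, 7, 7, 7],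
    1), (1, [7, 7, 7, 7, 7, 8, 7], 1), (1, [7, 8, 7, 7, 7, 8, 7], 1), (1, [7, 7, 7, 7, 8, 8, 7], 1), (1, [7, 7, 8, 7, 8, 8, 7], 1), (1, [7, 7, 7, 7,
    7, 7, 8], 1), (1, [7, 8, 7, 7, 7, 7, 8], 1), (1, [7, 8, 8, 7, 7, 7, 8], 1), (1, [7, 7, 7, 8, 7, 7, 8], 1), (1, [8, 7, 7, 8, 7, 7, 8], 1), (1, [7,
    8, 7, 8, 7, 7, 8], 1), (1, [7, 7, 8, 8, 7, 7, 8], 1), (1, [7, 7, 7, 7, 8, 7, 8], 1), (1, [8, 7, 7, 7, 8, 7, 8], 1), (1, [7, 8, 7, 7, 8, 7, 8],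
    1), (1, [7, 7, 8, 7, 8, 7, 8], 1), (1, [8, 7, 8, 7, 8, 7, 8], 1), (1, [7, 7, 7, 8, 8, 7, 8], 1), (1, [8, 7, 7, 8, 8, 7, 8], 1), (1, [7, 8, 7, 7,
    7, 8, 8], 1), (1, [7, 7, 8, 7, 7, 8, 8], 1), (1, [8, 7, 7, 8, 7, 8, 8], 1), (1, [8, 8, 7, 8, 7, 8, 8], 1), (1, [7, 7, 7, 7, 7, 7, 7, 7], 1), (1,
    [8, 7, 7, 7, 7, 7, 7, 7], 1), (1, [7, 8, 7, 7, 7, 7, 7, 7], 1), (1, [7, 8, 8, 7, 7, 7, 7, 7], 1), (1, [7, 7, 7, 7, 8, 7, 7, 7], 1), (1, [7, 8, 7,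
    7, 8, 7, 7, 7], 1), (1, [8, 8, 7, 7, 8, 7, 7, 7], 1), (1, [7, 8, 7, 7, 7, 7, 8, 7], 1), (1, [8, 7, 8, 7, 7, 7, 8, 7], 1), (1, [7, 8, 8, 7, 7, 7,
    8, 7], 1), (1, [7, 7, 7, 8, 7, 7, 8, 7], 1), (1, [8, 8, 7, 8, 7, 7, 8, 7], 1), (1, [7, 7, 7, 7, 8, 7, 8, 7], 1), (1, [7, 8, 7, 7, 8, 7, 8, 7],
    1), (1, [8, 8, 7, 7, 8, 7, 8, 7], 1), (1, [8, 7, 7, 7, 7, 8, 8, 7], 1), (1, [7, 8, 7, 7, 7, 8, 8, 7], 1), (1, [8, 8, 7, 7, 7, 8, 8, 7], 1), (1,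
    [7, 7, 8, 7, 7, 8, 8, 7], 1), (1, [8, 7, 8, 7, 7, 8, 8, 7], 1), (1, [8, 7, 7, 8, 7, 8, 8, 7], 1), (1, [7, 8, 7, 8, 7, 8, 8, 7], 1), (1, [8, 8, 7,
    8, 7, 8, 8, 7], 1), (1, [7, 7, 7, 7, 7, 7, 7, 8], 1), (1, [7, 8, 7, 7, 7, 7, 7, 8], 1), (1, [7, 7, 8, 7, 7, 7, 7, 8], 1), (1, [7, 7, 8, 8, 7, 7,
    7, 8], 1), (1, [8, 7, 8, 8, 7, 7, 7, 8], 1), (1, [8, 7, 7, 7, 8, 7, 7, 8], 1), (1, [7, 7, 8, 7, 8, 7, 7, 8], 1), (1, [8, 7, 8, 7, 8, 7, 7, 8],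
    1), (1, [7, 8, 8, 7, 8, 7, 7, 8], 1), (1, [7, 8, 7, 8, 8, 7, 7, 8], 1), (1, [7, 7, 8, 7, 7, 8, 7, 8], 1), (1, [8, 7, 8, 7, 7, 8, 7, 8], 1), (1,
    [8, 7, 7, 8, 7, 8, 7, 8], 1), (1, [8, 8, 7, 8, 7, 8, 7, 8], 1), (1, [7, 7, 7, 7, 8, 8, 7, 8], 1), (1, [7, 8, 7, 7, 8, 8, 7, 8], 1), (1, [8, 8, 7,
    7, 8, 8, 7, 8], 1), (1, [8, 7, 8, 7, 7, 7, 8, 8], 1), (1, [7, 8, 8, 7, 7, 7, 8, 8], 1), (1, [7, 7, 7, 8, 7, 7, 8, 8], 1), (1, [8, 8, 7, 8, 7, 7,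
    8, 8], 1), (1, [7, 7, 8, 8, 7, 7, 8, 8], 1), (1, [8, 7, 8, 8, 7, 7, 8, 8], 1), (1, [8, 7, 8, 7, 8, 7, 8, 8], 1), (1, [8, 7, 7, 8, 8, 7, 8, 8],
    1), (1, [8, 7, 7, 7, 7, 7, 7, 7, 7], 1), (1, [7, 8, 7, 7, 7, 7, 7, 7, 7], 1), (1, [8, 8, 7, 7, 7, 7, 7, 7, 7], 1), (1, [7, 7, 8, 8, 7, 7, 7, 7,
    7], 1), (1, [8, 7, 7, 7, 7, 8, 7, 7, 7], 1), (1, [8, 8, 7, 7, 7, 8, 7, 7, 7], 1), (1, [7, 7, 8, 7, 7, 8, 7, 7, 7], 1), (1, [8, 7, 8, 7, 7, 8, 7,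
    7, 7], 1), (1, [7, 7, 7, 8, 7, 8, 7, 7, 7], 1), (1, [8, 7, 7, 8, 7, 8, 7, 7, 7], 1), (1, [7, 7, 8, 8, 7, 8, 7, 7, 7], 1), (1, [8, 7, 7, 7, 7, 7,
    7, 8, 7], 1), (1, [7, 8, 7, 7, 7, 7, 7, 8, 7], 1), (1, [7, 7, 7, 8, 7, 7, 7, 8, 7], 1), (1, [7, 8, 7, 8, 7, 7, 7, 8, 7], 1), (1, [7, 7, 7, 7, 8,
    7, 7, 8, 7], 1), (1, [8, 7, 7, 7, 8, 7, 7, 8, 7], 1), (1, [8, 8, 7, 7, 8, 7, 7, 8, 7], 1), (1, [7, 7, 8, 7, 8, 7, 7, 8, 7], 1), (1, [7, 7, 7, 7,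
    7, 8, 7, 8, 7], 1), (1, [7, 8, 7, 7, 7, 8, 7, 8, 7], 1), (1, [8, 8, 7, 7, 7, 8, 7, 8, 7], 1), (1, [7, 7, 8, 7, 7, 8, 7, 8, 7], 1), (1, [8, 7, 8,
    7, 7, 8, 7, 8, 7], 1), (1, [8, 8, 7, 7, 8, 8, 7, 8, 7], 1), (1, [7, 7, 8, 7, 8, 8, 7, 8, 7], 1), (1, [8, 7, 8, 7, 8, 8, 7, 8, 7], 1), (1, [7, 7,
    7, 7, 7, 7, 8, 8, 7], 1), (1, [7, 7, 8, 7, 7, 7, 8, 8, 7], 1), (1, [7, 7, 7, 8, 7, 7, 8, 8, 7], 1), (1, [7, 7, 7, 7, 8, 7, 8, 8, 7], 1), (1, [7,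
    8, 7, 7, 8, 7, 8, 8, 7], 1), (1, [7, 8, 8, 7, 8, 7, 8, 8, 7], 1), (1, [7, 7, 7, 8, 7, 7, 7, 7, 8], 1), (1, [8, 7, 7, 7, 8, 7, 7, 7, 8], 1), (1,
    [7, 8, 7, 7, 8, 7, 7, 7, 8], 1), (1, [8, 7, 7, 8, 8, 7, 7, 7, 8], 1), (1, [8, 8, 7, 8, 8, 7, 7, 7, 8], 1), (1, [7, 7, 7, 7, 7, 8, 7, 7, 8], 1),
    (1, [7, 7, 8, 7, 7, 7, 8, 7, 8], 1), (1, [7, 7, 7, 8, 7, 7, 8, 7, 8], 1), (1, [7, 8, 7, 7, 8, 7, 8, 7, 8], 1), (1, [7, 8, 7, 7, 7, 8, 8, 7, 8],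
    1), (1, [7, 7, 8, 7, 7, 8, 8, 7, 8], 1), (1, [8, 8, 7, 8, 7, 7, 7, 8, 8], 1), (1, [8, 8, 7, 8, 8, 7, 7, 8, 8], 1), (1, [7, 7, 7, 8, 7, 8, 7, 8,
    8], 1), (1, [8, 8, 7, 8, 7, 8, 7, 8, 8], 1), (1, [8, 7, 8, 8, 7, 8, 7, 8, 8], 1), (1, [8, 8, 7, 7, 7, 7, 7, 7, 7, 7], 1), (1, [8, 7, 8, 7, 7, 7,
    7, 7, 7, 7], 1), (1, [7, 8, 8, 7, 7, 7, 7, 7, 7, 7], 1), (1, [7, 7, 7, 8, 7, 7, 7, 7, 7, 7], 1), (1, [8, 8, 7, 7, 8, 7, 7, 7, 7, 7], 1), (1, [7,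
    7, 8, 7, 8, 7, 7, 7, 7, 7], 1), (1, [8, 7, 7, 8, 7, 7, 8, 7, 7, 7], 1), (1, [8, 8, 7, 8, 7, 7, 8, 7, 7, 7], 1), (1, [8, 7, 8, 8, 7, 7, 8, 7, 7,
    7], 1), (1, [8, 8, 7, 8, 8, 7, 8, 7, 7, 7], 1), (1, [8, 8, 7, 7, 7, 7, 7, 7, 8, 7], 1), (1, [7, 8, 8, 7, 7, 7, 7, 7, 8, 7], 1), (1, [7, 7, 7, 8,
    7, 7, 7, 7, 8, 7], 1), (1, [7, 7, 8, 8, 7, 7, 7, 7, 8, 7], 1), (1, [7, 7, 7, 7, 8, 7, 7, 7, 8, 7], 1), (1, [7, 7, 7, 7, 7, 8, 7, 7, 8, 7], 1),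
    (1, [8, 7, 7, 7, 7, 8, 7, 7, 8, 7], 1), (1, [8, 7, 7, 8, 7, 7, 8, 7, 8, 7], 1), (1, [8, 7, 7, 8, 7, 8, 8, 7, 8, 7], 1), (1, [8, 8, 7, 8, 7, 8, 8,
    7, 8, 7], 1), (1, [7, 7, 8, 7, 7, 7, 7, 8, 8, 7], 1), (1, [8, 7, 8, 7, 7, 7, 7, 8, 8, 7], 1), (1, [7, 8, 8, 7, 7, 7, 7, 8, 8, 7], 1), (1, [7, 7,
    8, 8, 7, 7, 7, 8, 8, 7], 1), (1, [7, 7, 8, 7, 8, 7, 7, 8, 8, 7], 1), (1, [7, 7, 8, 7, 7, 8, 7, 8, 8, 7], 1), (1, [7, 7, 8, 7, 7, 7, 7, 7, 7, 8],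
    1), (1, [8, 7, 8, 7, 7, 8, 7, 7, 7, 8], 1), (1, [7, 7, 8, 8, 7, 8, 7, 7, 7, 8], 1), (1, [8, 7, 8, 7, 7, 8, 8, 7, 7, 8], 1), (1, [8, 8, 7, 8, 8,
    7, 7, 7, 8, 8], 1), (1, [8, 8, 7, 7, 8, 8, 7, 7, 8, 8], 1), (1, [7, 8, 8, 7, 8, 8, 7, 7, 8, 8], 1), (1, [8, 8, 7, 8, 8, 7, 8, 7, 8, 8], 1), (1,
    [7, 7, 8, 7, 7, 7, 7, 7, 7, 7, 7], 1), (1, [7, 8, 8, 7, 7, 7, 7, 7, 7, 7, 7], 1), (1, [7, 7, 7, 8, 7, 7, 7, 7, 7, 7, 7], 1), (1, [8, 7, 7, 8, 7,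
    7, 7, 7, 7, 7, 7], 1), (1, [7, 8, 7, 8, 7, 7, 7, 7, 7, 7, 7], 1), (1, [7, 8, 7, 7, 8, 7, 7, 7, 7, 7, 7], 1), (1, [7, 7, 8, 7, 8, 7, 7, 7, 7, 7,
    7], 1), (1, [8, 7, 7, 7, 7, 8, 7, 7, 7, 7, 7], 1), (1, [7, 7, 7, 7, 8, 8, 7, 7, 7, 7, 7], 1), (1, [7, 8, 7, 7, 8, 7, 7, 8, 7, 7, 7], 1), (1, [7,
    8, 8, 7, 8, 7, 7, 8, 7, 7, 7], 1), (1, [7, 8, 8, 7, 8, 8, 7, 8, 7, 7, 7], 1), (1, [7, 8, 7, 7, 7, 7, 7, 7, 7, 8, 7], 1), (1, [7, 8, 8, 7, 7, 7,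
    7, 7, 7, 8, 7], 1), (1, [7, 8, 7, 8, 7, 7, 7, 7, 7, 8, 7], 1), (1, [7, 7, 7, 8, 8, 7, 7, 7, 7, 8, 7], 1), (1, [8, 7, 7, 7, 7, 8, 7, 7, 7, 8, 7],
    1), (1, [7, 7, 8, 7, 7, 8, 7, 7, 7, 8, 7], 1), (1, [7, 7, 7, 8, 7, 8, 7, 7, 7, 8, 7], 1), (1, [7, 7, 8, 7, 7, 7, 8, 7, 7, 8, 7], 1), (1, [7, 7,
    8, 7, 7, 7, 7, 7, 8, 8, 7], 1), (1, [8, 7, 8, 7, 7, 7, 7, 7, 8, 8, 7], 1), (1, [7, 7, 7, 8, 7, 7, 7, 7, 8, 8, 7], 1), (1, [8, 7, 8, 8, 7, 7, 8,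
    7, 7, 7, 8], 1), (1, [7, 8, 8, 7, 7, 8, 8, 7, 7, 8, 8], 1), (1, [8, 7, 7, 7, 8, 7, 7, 7, 7, 7, 7, 7], 1), (1, [8], 2), (1, [7, 8], 2), (1, [8,
    8], 2), (1, [7, 7, 7], 2), (1, [7, 8, 7], 2), (1, [8, 8, 7], 2), (1, [8, 7, 7, 7], 2), (1, [7, 8, 7, 7], 2), (1, [7, 7, 8, 7], 2), (1, [8, 7, 8,
    7], 2), (1, [7, 7, 7, 8], 2), (1, [8, 7, 7, 8], 2), (1, [8, 8, 7, 8], 2), (1, [7, 7, 8, 8], 2), (1, [7, 7, 7, 7, 7], 2), (1, [8, 7, 7, 7, 7], 2),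
    (1, [7, 8, 7, 7, 7], 2), (1, [8, 7, 8, 7, 7], 2), (1, [7, 8, 8, 7, 7], 2), (1, [7, 7, 7, 8, 7], 2), (1, [7, 8, 7, 8, 7], 2), (1, [7, 7, 8, 8, 7],
    2), (1, [8, 7, 7, 7, 8], 2), (1, [8, 8, 7, 7, 8], 2), (1, [7, 7, 8, 7, 8], 2), (1, [8, 7, 8, 7, 8], 2), (1, [7, 7, 7, 8, 8], 2), (1, [7, 8, 7, 8,
    8], 2), (1, [8, 8, 7, 8, 8], 2), (1, [8, 7, 7, 7, 7, 7], 2), (1, [8, 8, 7, 7, 7, 7], 2), (1, [8, 7, 8, 7, 7, 7], 2), (1, [7, 7, 7, 8, 7, 7], 2),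
    (1, [7, 8, 7, 8, 7, 7], 2), (1, [7, 7, 8, 8, 7, 7], 2), (1, [7, 8, 7, 7, 8, 7], 2), (1, [8, 8, 7, 7, 8, 7], 2), (1, [7, 7, 8, 7, 8, 7], 2), (1,
    [8, 7, 7, 8, 8, 7], 2), (1, [8, 8, 7, 8, 8, 7], 2), (1, [7, 7, 7, 7, 7, 8], 2), (1, [7, 8, 8, 7, 7, 8], 2), (1, [7, 8, 7, 8, 7, 8], 2), (1, [8,
    8, 7, 8, 7, 8], 2), (1, [8, 7, 8, 8, 7, 8], 2), (1, [8, 7, 7, 7, 8, 8], 2), (1, [7, 8, 7, 7, 8, 8], 2), (1, [8, 7, 8, 7, 8, 8], 2), (1, [7, 7, 7,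
    7, 7, 7, 7], 2), (1, [8, 7, 7, 7, 7, 7, 7], 2), (1, [7, 7, 8, 7, 7, 7, 7], 2), (1, [7, 8, 8, 7, 7, 7, 7], 2), (1, [7, 7, 7, 8, 7, 7, 7], 2), (1,
    [8, 7, 7, 8, 7, 7, 7], 2), (1, [7, 8, 7, 8, 7, 7, 7], 2), (1, [8, 7, 7, 7, 8, 7, 7], 2), (1, [7, 7, 7, 8, 8, 7, 7], 2), (1, [8, 7, 7, 8, 8, 7,
    7], 2), (1, [7, 8, 7, 8, 8, 7, 7], 2), (1, [8, 7, 7, 7, 7, 8, 7], 2), (1, [8, 7, 8, 7, 7, 8, 7], 2), (1, [7, 8, 8, 7, 7, 8, 7], 2), (1, [7, 7, 7,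
    8, 7, 8, 7], 2), (1, [8, 7, 7, 8, 7, 8, 7], 2), (1, [7, 7, 8, 8, 7, 8, 7], 2), (1, [8, 7, 8, 8, 7, 8, 7], 2), (1, [7, 7, 7, 7, 8, 8, 7], 2), (1,
    [7, 8, 7, 7, 8, 8, 7], 2), (1, [8, 8, 7, 7, 8, 8, 7], 2), (1, [7, 7, 8, 7, 8, 8, 7], 2), (1, [8, 7, 8, 7, 8, 8, 7], 2), (1, [8, 7, 8, 7, 7, 7,
    8], 2), (1, [7, 7, 8, 8, 7, 7, 8], 2), (1, [7, 7, 7, 8, 8, 7, 8], 2), (1, [7, 8, 7, 8, 8, 7, 8], 2), (1, [7, 8, 8, 7, 7, 8, 8], 2), (1, [7, 7, 7,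
    7, 7, 7, 7, 7], 2), (1, [8, 7, 8, 7, 7, 7, 7, 7], 2), (1, [7, 8, 7, 8, 7, 7, 7, 7], 2), (1, [7, 7, 8, 8, 7, 7, 7, 7], 2), (1, [7, 8, 7, 7, 8, 7,
    7, 7], 2), (1, [8, 7, 7, 8, 7, 8, 7, 7], 2), (1, [7, 7, 7, 7, 8, 8, 7, 7], 2), (1, [8, 7, 7, 7, 8, 8, 7, 7], 2), (1, [8, 8, 7, 7, 8, 8, 7, 7],
    2), (1, [7, 7, 8, 7, 8, 8, 7, 7], 2), (1, [7, 7, 7, 7, 7, 7, 8, 7], 2), (1, [7, 8, 7, 7, 7, 7, 8, 7], 2), (1, [7, 7, 8, 7, 7, 7, 8, 7], 2), (1,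
    [], 3), (1, [7], 3), (1, [8], 3), (1, [8, 7], 3), (1, [8, 8], 3), (1, [7, 8, 7], 3), (1, [7, 7, 8], 3), (1, [7, 8, 8], 3), (1, [8, 7, 7, 7], 3),
    (1, [7, 8, 8, 7], 3), (1, [8, 7, 7, 8], 3)]

def e1_cbs : List (List Cb) :=
    [[[], [], [], [], []], [[], []], [[], []], [[], []]]

def e1 : Ct where
  p := 2
  m := 945
  act := [7, 8]
  hl := [0, 1, 2, 3]
  cl := []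
  extra := []
  rules :=
    [[([8, 7, 7, 8, 7, 7, 7, 7, 7, 7, 7], 1), ([7, 8, 7, 8, 7, 8, 7, 7, 7, 7, 7, 7], 1)], [([8, 7, 7, 8, 7, 7, 8, 7, 7, 7, 7, 7], 1), ([7, 8, 8, 7,
    7, 7, 7, 8, 7, 7, 7, 8, 7, 7, 8, 7, 7, 7], 1)], [([8, 7, 7, 8, 7, 7, 8, 7, 7, 7, 7, 7], 1), ([8, 7, 7, 8, 7, 7], 1)], [([7, 8, 7, 7, 7, 7, 7, 7,
    7, 7, 8], 1), ([8, 7, 8, 7, 8, 7, 8, 7, 7, 7, 7, 7, 7], 1), ([7, 7, 7, 7, 7, 7, 7, 7, 8, 7, 7, 8, 7, 7, 7], 1), ([8, 7, 7, 7, 7, 8, 7, 7, 7, 7,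
    7], 1), ([8, 7, 7, 7, 7, 8, 8, 7, 7, 7, 7, 7], 1)]]
  tabs :=
    [0, 0, 0, 0, 0, 0, 0,
    1527292814443514358245537304074407125491553490470555289001638604972030318198558081353090773901137735012269036112667140334794315980814510907246309608240015005705192030871452982730449389219729541340836644425673894563150733403663242349248164403179354499715831783936718738933889738717652466218229471849836113270923430747464143700988250197485143140926753144471134243703547428054930995907977162568746061980479069421584502844326645331988617843429530704079755924094808978909681909344498812406585382883749064875698632367062607815579983909987143228489275949689421290702499224140062183383113126528740543171376998145528577711594525351078283242059887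45420643135551889858098710854563308162800603343948164982298250514256924251600334144275167085062631972936319736916385934621209238586762284013183214745564373879566604666122040481141751672609791543761115319474692597940632899638695309612423594936638070193243890971404740302194131044016561696115942360119248356378601267260774856504457860368794102267557904990364774046939121676172134242795536213351766453909089689243577799073763779438663834821338791163660293893147310950622479493880264454630439463972737275351374019588782280446734673152483842296281215261409931099869578444653912000069479254761590051711969437086049872094548522204016903853303019135331552550704869922152921840024822761284990449752315296605401500130808883127836103118593263761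08867765165094508619826230886548661137538771232197413052178024957878731332687988500249080845513084340383266064752102293563786067767006361715706346507218862400177345940655707447114754369020136643762922986931457617773943650343157924735793705867958631738739135886700032598380138307418448458324904727187954588904144506333217304080122304540272838775878564237927392118171245732348283751282618350107108538698927359840561131396616080830112270112072143692108945128114722139947844049858929073719531242073483589152344536261983069001356283492106878615608202216062294379709107936328131030221611430117021274963631703041733436788338226078997293995198893836490431434102399014213830866719041369310708074131103431818294161115658494832359149844286174658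34808314455225498338140232007877200162457012384912273420012849173322057170967376076207587899814767773126865283646605658803676103017732018972655088065712713327514317663447566656321140868243164123155821321266282184241879632746180155407359926583408579636844033920243523521422678902335324202681800116636819177409544421592149856662692015440589958166323841561253478087355595897798652395223675150547374738299534898637314577482899607066721126342970267365508354006898333193279432694220907397962938049155019009519747805156050894084601488954638043415120847086157849961444157333896374066346457691111499793405574331129019631187026785162953762741964717253763712697220230069157999617938754319649735319220476122436253493197607331640909217762646412703566849,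
    466207266866421753441465727463038600955347758940361984779323932845372781371830144258196455053898901503057680564480369815127806629871985841251079120706861121610940913756101359722134693501581845003422621284640175156140547836058443017443158653372077677031598548701220129008178812075868233626301559103705256562139291171178279055737887283443889479822405876652120652235205048751701901603450114648076418434946002789063223679128992758362764219384772833130641708257655294860752262836551085441514597059017371963770549108965840319753350034599300511189948040854034336532022248492730511853476545413594753661919289522504818263045345017342453511331627044116651213025805512616720009004587381111195500308663302034064260874713521058039044642832246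66604196012834000063829561892114159700520832471839900390729421043428988150237643202097660809541081445431808220895585116471422358797804363454914570806670305325786114643234169130624221024935415115301064264674425386527663131392543677073941491199957426473214191982808814845250326968096183525267551684381139913828920150617390820107312799166254076700744999645570573909681090006879056548607046336542935546095266702673052002599292749503859828311712084136023617283820676511614695921155927313004878768823828197753948573257164348115923857102603901925700185403506908513821357864477540389466939086137389530103775154172335747901299688343528661225119330450908035132302938023544188113533533073213983059597613657360016930762666957528248632749021942444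97260315168543741569921170453453196368646298785014468817896726558120359651750058410393645942265037771276168559326848845947837852760897197724489552089193635310527185737793673857091490730074843338952583096617199878035939593870475105385530245951278819202539758219595359617299052171975580508479170653777864796856696429409663580729293909361110558229450083040406812185556406525673054957469164391467807257445149568207351428731630946735964979156927201711316644344089586599360713518775029761912697385674960803124880833552201551010214191397779553168540625005811936886027722207986883109802328977459124445082636046638903866565071953066194777629930295511492349023078676994365138125448051578844888042688298591582541885869457663491727816115080615044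172565432420820912225981981974676058545956160928823299790158941965124774989068055646537934365827520476340323765179457885483059149974205729341439430997252803304466889938611752314528262611301963600142380075652642932565227849370103715073716576776278548711847751588223024365402589619008125345226711315598131484867202578794656111181882327586855217527249003522194764702693920614372279861773665266598033270212872653220792996561074509512303150505463595893992028652111797606775953820795082514721741820601888123704664572721478059953927819661763796244820225590207075118104496576631183731097752106679410895725852393012267481434024142053032555023258335634788354]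
  rs := e1_rs
  eta := [[], [], [], [], [], [], [], e1_e7, e1_e8]
  bs :=
    [[(0, 1), (2, 1), (6, 1)], [(307, 1), (325, 1), (368, 1), (390, 1), (455, 1), (496, 1), (517, 1)], [(1, 1), (8, 1), (10, 1), (20, 1), (25, 1),
    (26, 1), (27, 1), (35, 1), (40, 1), (42, 1), (46, 1), (75, 1), (82, 1), (83, 1), (99, 1), (110, 1), (118, 1), (132, 1), (134, 1), (139, 1), (141,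
    1), (142, 1), (152, 1), (192, 1), (213, 1), (246, 1), (296, 1), (348, 1), (426, 1), (484, 1)], [(10, 1), (30, 1), (36, 1), (58, 1), (79, 1), (80,
    1), (86, 1), (92, 1), (114, 1), (144, 1), (145, 1), (149, 1), (201, 1), (202, 1), (230, 1), (267, 1), (283, 1), (313, 1), (334, 1), (339, 1),
    (345, 1), (349, 1), (369, 1), (371, 1), (382, 1), (412, 1), (417, 1), (426, 1), (431, 1), (446, 1), (448, 1), (468, 1), (470, 1), (473, 1), (524,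
    1), (582, 1), (599, 1), (623, 1), (625, 1), (628, 1), (662, 1), (686, 1), (695, 1), (701, 1), (774, 1), (777, 1), (779, 1), (781, 1), (784, 1),
    (788, 1), (797, 1), (799, 1), (801, 1), (817, 1), (828, 1), (842, 1), (845, 1), (847, 1), (851, 1), (898, 1), (903, 1), (918, 1), (932, 1)]]
  ri := [3, 1, 0, 2]
  cbs := e1_cbs
  fin := e1_fin

theorem e1_F : e1.chkF al2 = true := by decide +kernel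
theorem e1_T : allL (e1.chkT al2) e1.act = true := by decide +kernel
theorem e1_S : allLt e1.chkS (len e1.bs) = true := by decide +kernel

theorem e1_v (h : Hs ρ) : Valid ρ al2g (fx e1.hl ++ (e1.extra ++ fx e1.cl)) := by
  refine cert al2ok e1 rfl e1_F e1_T e1_S ?_
  simp only [e1, List.forall_mem_cons, List.not_mem_nil, false_imp_iff, implies_true, and_true]
  exact ⟨conj al2ok (n2b h) [] _ (by decide +kernel),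
    conj al2ok (n2l0 h) [] _ (by decide +kernel),
    conj al2ok (n2e0 h) [] _ (by decide +kernel),
    conj al2ok (e13_v h) [] _ (by decide +kernel)⟩

theorem eqns_m2b : True := by
  have := @e1_rs.eq_1
  have := @e1_e7.eq_1
  have := @e1_e8.eq_1
  have := @e1_fin.eq_1
  have := @e1_cbs.eq_1
  have := @e1.eq_1
  trivial

end H87.Spc
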