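import Mathlib
import Cfsg.Agent.Lib.SPC.M2a

set_option autoImplicit false
set_option maxRecDepth 100000

namespace H87.Spc

open H54

variable {V : Type*} [AddCommGroup V] [Module (ZMod 2) V]
  {ρ : Representation (ZMod 2) (alternatingGroup (Fin 9)) V}

def e3_rs : List Wd :=
    [[], [7], [8], [7, 7], [8, 7], [7, 8], [8, 8], [7, 7, 7], [8, 7, 7], [7, 8, 7], [8, 8, 7], [7, 7, 8], [8, 7, 8], [7, 8, 8], [7, 7, 7, 7], [8, 7,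
    7, 7], [7, 8, 7, 7], [8, 8, 7, 7], [7, 7, 8, 7], [8, 7, 8, 7], [7, 8, 8, 7], [7, 7, 7, 8], [8, 7, 7, 8], [7, 8, 7, 8], [8, 8, 7, 8], [7, 7, 8,
    8], [8, 7, 8, 8], [7, 7, 7, 7, 7], [8, 7, 7, 7, 7], [7, 8, 7, 7, 7], [8, 8, 7, 7, 7], [7, 7, 8, 7, 7], [7, 8, 8, 7, 7], [7, 7, 7, 8, 7], [8, 7,
    7, 8, 7], [8, 8, 7, 8, 7], [7, 7, 8, 8, 7], [8, 7, 8, 8, 7], [7, 7, 7, 7, 8], [8, 7, 7, 7, 8], [7, 8, 7, 7, 8], [8, 8, 7, 7, 8], [7, 7, 8, 7, 8],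
    [8, 7, 8, 7, 8], [7, 8, 8, 7, 8], [7, 7, 7, 8, 8], [8, 7, 7, 8, 8], [7, 8, 7, 8, 8], [8, 8, 7, 8, 8], [7, 7, 7, 7, 7, 7], [8, 7, 7, 7, 7, 7], [7,
    8, 7, 7, 7, 7], [8, 7, 8, 7, 7, 7], [7, 8, 8, 7, 7, 7], [7, 7, 7, 8, 7, 7], [8, 7, 7, 8, 7, 7], [7, 7, 8, 8, 7, 7], [8, 7, 8, 8, 7, 7], [7, 7, 7,
    7, 8, 7], [8, 7, 7, 7, 8, 7], [7, 8, 7, 7, 8, 7], [7, 8, 8, 7, 8, 7], [7, 7, 7, 8, 8, 7], [8, 7, 7, 8, 8, 7], [7, 8, 7, 8, 8, 7], [8, 8, 7, 8, 8,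
    7], [7, 8, 7, 7, 7, 8], [8, 8, 7, 7, 7, 8], [7, 7, 8, 7, 7, 8], [8, 7, 8, 7, 7, 8], [7, 8, 8, 7, 7, 8], [7, 7, 7, 8, 7, 8], [8, 7, 7, 8, 7, 8],
    [7, 8, 7, 8, 7, 8], [8, 8, 7, 8, 7, 8], [7, 7, 8, 8, 7, 8], [8, 7, 8, 8, 7, 8], [8, 7, 7, 7, 8, 8], [7, 8, 7, 7, 8, 8], [8, 8, 7, 7, 8, 8], [8,
    7, 8, 7, 8, 8], [7, 8, 8, 7, 8, 8], [7, 7, 7, 7, 7, 7, 7], [8, 7, 7, 7, 7, 7, 7], [7, 8, 7, 7, 7, 7, 7], [7, 7, 8, 7, 7, 7, 7], [7, 8, 7, 8, 7,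
    7, 7], [8, 8, 7, 8, 7, 7, 7], [7, 7, 8, 8, 7, 7, 7], [8, 7, 8, 8, 7, 7, 7], [7, 7, 7, 7, 8, 7, 7], [8, 7, 7, 7, 8, 7, 7], [7, 8, 7, 7, 8, 7, 7],
    [8, 8, 7, 7, 8, 7, 7], [7, 7, 7, 8, 8, 7, 7], [8, 7, 7, 8, 8, 7, 7], [7, 8, 7, 8, 8, 7, 7], [8, 8, 7, 8, 8, 7, 7], [7, 7, 7, 7, 7, 8, 7], [8, 7,
    7, 7, 7, 8, 7], [7, 8, 7, 7, 7, 8, 7], [7, 7, 8, 7, 7, 8, 7], [8, 7, 8, 7, 7, 8, 7], [7, 7, 8, 8, 7, 8, 7], [8, 7, 8, 8, 7, 8, 7], [7, 7, 7, 7,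
    8, 8, 7], [8, 7, 7, 7, 8, 8, 7], [7, 8, 7, 7, 8, 8, 7], [7, 7, 8, 7, 8, 8, 7], [7, 8, 8, 7, 8, 8, 7], [8, 7, 8, 7, 7, 7, 8], [8, 7, 7, 8, 7, 7,
    8], [8, 8, 7, 8, 7, 7, 8], [7, 7, 8, 8, 7, 7, 8], [8, 7, 8, 8, 7, 7, 8], [7, 8, 7, 7, 8, 7, 8], [7, 8, 8, 7, 8, 7, 8], [7, 7, 7, 8, 8, 7, 8], [8,
    7, 7, 8, 8, 7, 8], [7, 8, 7, 8, 8, 7, 8], [8, 8, 7, 8, 8, 7, 8], [7, 8, 7, 7, 7, 8, 8], [7, 8, 8, 7, 7, 8, 8], [8, 8, 7, 8, 7, 8, 8], [7, 7, 8,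
    8, 7, 8, 8], [8, 7, 8, 8, 7, 8, 8], [7, 7, 7, 7, 7, 7, 7, 7], [8, 7, 7, 7, 7, 7, 7, 7], [7, 8, 7, 7, 7, 7, 7, 7], [8, 8, 7, 7, 7, 7, 7, 7], [7,
    7, 8, 7, 7, 7, 7, 7], [7, 7, 7, 8, 7, 7, 7, 7], [8, 7, 7, 8, 7, 7, 7, 7], [7, 7, 8, 7, 8, 7, 7, 7], [7, 7, 7, 8, 8, 7, 7, 7], [8, 7, 7, 8, 8, 7,
    7, 7], [7, 7, 7, 7, 7, 8, 7, 7], [8, 7, 7, 7, 7, 8, 7, 7], [7, 8, 7, 7, 7, 8, 7, 7], [8, 8, 7, 7, 7, 8, 7, 7], [7, 7, 8, 7, 7, 8, 7, 7], [7, 7,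
    7, 7, 8, 8, 7, 7], [8, 7, 7, 7, 8, 8, 7, 7], [7, 8, 7, 7, 8, 8, 7, 7], [8, 8, 7, 7, 8, 8, 7, 7], [7, 7, 8, 7, 8, 8, 7, 7], [8, 7, 8, 7, 8, 8, 7,
    7], [7, 8, 8, 7, 8, 8, 7, 7], [7, 7, 7, 7, 7, 7, 8, 7], [8, 7, 7, 7, 7, 7, 8, 7], [7, 8, 7, 7, 7, 7, 8, 7], [7, 7, 8, 7, 7, 7, 8, 7], [7, 7, 7,
    8, 7, 7, 8, 7], [8, 8, 7, 8, 7, 7, 8, 7], [7, 7, 7, 8, 8, 7, 8, 7], [8, 7, 7, 8, 8, 7, 8, 7], [7, 8, 7, 8, 8, 7, 8, 7], [8, 8, 7, 8, 8, 7, 8, 7],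
    [7, 7, 7, 7, 7, 8, 8, 7], [8, 7, 7, 7, 7, 8, 8, 7], [7, 8, 7, 7, 7, 8, 8, 7], [7, 7, 8, 7, 7, 8, 8, 7], [8, 7, 8, 7, 7, 8, 8, 7], [7, 7, 7, 8, 7,
    8, 8, 7], [8, 7, 7, 8, 7, 8, 8, 7], [7, 7, 8, 8, 7, 8, 8, 7], [8, 7, 8, 8, 7, 8, 8, 7], [8, 8, 7, 8, 7, 7, 7, 8], [8, 7, 7, 8, 8, 7, 7, 8], [7,
    8, 7, 8, 8, 7, 7, 8], [8, 8, 7, 8, 8, 7, 7, 8], [7, 7, 8, 7, 7, 8, 7, 8], [7, 7, 8, 8, 7, 8, 7, 8], [8, 7, 8, 8, 7, 8, 7, 8], [7, 8, 7, 7, 8, 8,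
    7, 8], [8, 8, 7, 7, 8, 8, 7, 8], [7, 7, 8, 7, 8, 8, 7, 8], [7, 8, 8, 7, 8, 8, 7, 8], [7, 7, 8, 8, 7, 7, 8, 8], [8, 7, 8, 8, 7, 7, 8, 8], [7, 8,
    8, 7, 8, 7, 8, 8], [8, 7, 7, 8, 8, 7, 8, 8], [8, 8, 7, 8, 8, 7, 8, 8], [8, 7, 7, 7, 7, 7, 7, 7, 7], [7, 8, 7, 7, 7, 7, 7, 7, 7], [7, 7, 8, 7, 7,
    7, 7, 7, 7], [7, 8, 8, 7, 7, 7, 7, 7, 7], [7, 7, 7, 8, 7, 7, 7, 7, 7], [8, 7, 7, 8, 7, 7, 7, 7, 7], [8, 7, 7, 7, 8, 7, 7, 7, 7], [7, 8, 7, 7, 8,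
    7, 7, 7, 7], [7, 7, 7, 8, 7, 8, 7, 7, 7], [8, 7, 7, 8, 7, 8, 7, 7, 7], [7, 7, 7, 7, 8, 8, 7, 7, 7], [8, 7, 7, 7, 8, 8, 7, 7, 7], [7, 8, 7, 7, 8,
    8, 7, 7, 7], [7, 7, 7, 7, 7, 7, 8, 7, 7], [8, 7, 7, 7, 7, 7, 8, 7, 7], [7, 8, 7, 7, 7, 7, 8, 7, 7], [8, 8, 7, 7, 7, 7, 8, 7, 7], [7, 7, 8, 7, 7,
    7, 8, 7, 7], [8, 7, 8, 7, 7, 7, 8, 7, 7], [7, 8, 8, 7, 7, 7, 8, 7, 7], [7, 7, 7, 8, 7, 7, 8, 7, 7], [7, 7, 7, 7, 7, 8, 8, 7, 7], [8, 7, 7, 7, 7,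
    8, 8, 7, 7], [7, 8, 7, 7, 7, 8, 8, 7, 7], [8, 8, 7, 7, 7, 8, 8, 7, 7], [7, 7, 8, 7, 7, 8, 8, 7, 7], [8, 7, 8, 7, 7, 8, 8, 7, 7], [7, 8, 8, 7, 7,
    8, 8, 7, 7], [7, 7, 7, 8, 7, 8, 8, 7, 7], [7, 8, 7, 8, 7, 8, 8, 7, 7], [8, 8, 7, 8, 7, 8, 8, 7, 7], [7, 7, 8, 8, 7, 8, 8, 7, 7], [8, 7, 8, 8, 7,
    8, 8, 7, 7], [7, 7, 7, 7, 7, 7, 7, 8, 7], [8, 7, 7, 7, 7, 7, 7, 8, 7], [7, 8, 7, 7, 7, 7, 7, 8, 7], [8, 8, 7, 7, 7, 7, 7, 8, 7], [7, 7, 8, 7, 7,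
    7, 7, 8, 7], [8, 7, 8, 7, 7, 7, 7, 8, 7], [7, 7, 7, 8, 7, 7, 7, 8, 7], [8, 7, 7, 8, 7, 7, 7, 8, 7], [7, 7, 7, 7, 8, 7, 7, 8, 7], [8, 7, 7, 7, 8,
    7, 7, 8, 7], [7, 7, 7, 7, 8, 8, 7, 8, 7], [8, 7, 7, 7, 8, 8, 7, 8, 7], [8, 8, 7, 7, 8, 8, 7, 8, 7], [7, 8, 8, 7, 8, 8, 7, 8, 7], [7, 7, 7, 7, 7,
    7, 8, 8, 7], [8, 7, 7, 7, 7, 7, 8, 8, 7], [7, 8, 7, 7, 7, 7, 8, 8, 7], [7, 7, 8, 7, 7, 7, 8, 8, 7], [7, 7, 7, 8, 7, 7, 8, 8, 7], [7, 8, 7, 8, 7,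
    7, 8, 8, 7], [8, 8, 7, 8, 7, 7, 8, 8, 7], [7, 7, 7, 7, 8, 7, 8, 8, 7], [8, 7, 7, 7, 8, 7, 8, 8, 7], [8, 8, 7, 7, 8, 7, 8, 8, 7], [7, 7, 7, 8, 8,
    7, 8, 8, 7], [8, 7, 7, 8, 8, 7, 8, 8, 7], [7, 8, 7, 8, 8, 7, 8, 8, 7], [8, 8, 7, 8, 8, 7, 8, 8, 7], [7, 8, 7, 7, 8, 8, 7, 7, 8], [8, 8, 7, 7, 8,
    8, 7, 7, 8], [7, 7, 8, 7, 8, 8, 7, 7, 8], [7, 8, 8, 7, 8, 8, 7, 7, 8], [7, 7, 7, 8, 7, 7, 8, 7, 8], [8, 7, 7, 8, 8, 7, 8, 7, 8], [8, 8, 7, 8, 8,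
    7, 8, 7, 8], [8, 7, 7, 8, 7, 8, 8, 7, 8], [7, 7, 8, 8, 7, 8, 8, 7, 8], [8, 7, 8, 8, 7, 8, 8, 7, 8], [8, 7, 7, 8, 8, 7, 7, 8, 8], [8, 8, 7, 8, 8,
    7, 7, 8, 8], [8, 7, 8, 8, 7, 8, 7, 8, 8], [7, 8, 8, 7, 8, 8, 7, 8, 8], [7, 7, 8, 7, 7, 7, 7, 7, 7, 7], [8, 7, 8, 7, 7, 7, 7, 7, 7, 7], [7, 7, 7,
    8, 7, 7, 7, 7, 7, 7], [8, 7, 7, 8, 7, 7, 7, 7, 7, 7], [7, 7, 8, 8, 7, 7, 7, 7, 7, 7], [8, 7, 8, 8, 7, 7, 7, 7, 7, 7], [7, 8, 7, 7, 8, 7, 7, 7, 7,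
    7], [7, 8, 7, 7, 7, 8, 7, 7, 7, 7], [7, 7, 7, 7, 8, 7, 8, 7, 7, 7], [8, 7, 7, 7, 8, 7, 8, 7, 7, 7], [7, 8, 7, 7, 8, 7, 8, 7, 7, 7], [7, 7, 7, 7,
    7, 8, 8, 7, 7, 7], [8, 7, 7, 7, 7, 8, 8, 7, 7, 7], [7, 8, 7, 7, 7, 8, 8, 7, 7, 7], [7, 7, 8, 7, 7, 8, 8, 7, 7, 7], [8, 7, 8, 7, 7, 8, 8, 7, 7,
    7], [7, 7, 7, 7, 7, 7, 7, 8, 7, 7], [8, 7, 7, 7, 7, 7, 7, 8, 7, 7], [7, 8, 7, 7, 7, 7, 7, 8, 7, 7], [7, 7, 8, 7, 7, 7, 7, 8, 7, 7], [7, 8, 8, 7,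
    7, 7, 7, 8, 7, 7], [7, 7, 7, 8, 7, 7, 7, 8, 7, 7], [8, 7, 7, 8, 7, 7, 7, 8, 7, 7], [7, 8, 7, 8, 7, 7, 7, 8, 7, 7], [8, 8, 7, 8, 7, 7, 7, 8, 7,
    7], [7, 7, 8, 8, 7, 7, 7, 8, 7, 7], [8, 7, 8, 8, 7, 7, 7, 8, 7, 7], [7, 7, 7, 7, 8, 7, 7, 8, 7, 7], [8, 7, 7, 7, 8, 7, 7, 8, 7, 7], [7, 7, 7, 7,
    7, 7, 8, 8, 7, 7], [8, 7, 7, 7, 7, 7, 8, 8, 7, 7], [7, 8, 7, 7, 7, 7, 8, 8, 7, 7], [8, 8, 7, 7, 7, 7, 8, 8, 7, 7], [7, 7, 8, 7, 7, 7, 8, 8, 7,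
    7], [8, 7, 8, 7, 7, 7, 8, 8, 7, 7], [7, 8, 8, 7, 7, 7, 8, 8, 7, 7], [7, 7, 7, 8, 7, 7, 8, 8, 7, 7], [8, 7, 7, 8, 7, 7, 8, 8, 7, 7], [7, 8, 7, 8,
    7, 7, 8, 8, 7, 7], [8, 8, 7, 8, 7, 7, 8, 8, 7, 7], [7, 7, 8, 8, 7, 7, 8, 8, 7, 7], [8, 7, 8, 8, 7, 7, 8, 8, 7, 7], [7, 7, 7, 7, 8, 7, 8, 8, 7,
    7], [8, 7, 7, 7, 8, 7, 8, 8, 7, 7], [7, 7, 8, 7, 8, 7, 8, 8, 7, 7], [7, 7, 7, 8, 8, 7, 8, 8, 7, 7], [8, 7, 7, 8, 8, 7, 8, 8, 7, 7], [8, 8, 7, 8,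
    8, 7, 8, 8, 7, 7], [8, 7, 7, 7, 7, 7, 7, 7, 8, 7], [7, 8, 7, 7, 7, 7, 7, 7, 8, 7], [7, 7, 8, 7, 7, 7, 7, 7, 8, 7], [7, 8, 8, 7, 7, 7, 7, 7, 8,
    7], [8, 7, 7, 8, 7, 7, 7, 7, 8, 7], [7, 8, 7, 8, 7, 7, 7, 7, 8, 7], [8, 8, 7, 8, 7, 7, 7, 7, 8, 7], [7, 7, 7, 7, 8, 7, 7, 7, 8, 7], [8, 7, 7, 7,
    8, 7, 7, 7, 8, 7], [7, 8, 7, 7, 8, 7, 7, 7, 8, 7], [7, 7, 7, 7, 7, 8, 7, 7, 8, 7], [8, 7, 7, 7, 7, 8, 7, 7, 8, 7], [7, 8, 7, 7, 7, 8, 7, 7, 8,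
    7], [8, 8, 7, 7, 7, 8, 7, 7, 8, 7], [7, 7, 7, 7, 7, 8, 8, 7, 8, 7], [8, 7, 7, 7, 7, 8, 8, 7, 8, 7], [7, 8, 7, 7, 7, 8, 8, 7, 8, 7], [7, 8, 8, 7,
    7, 8, 8, 7, 8, 7], [8, 7, 8, 8, 7, 8, 8, 7, 8, 7], [8, 7, 7, 7, 7, 7, 7, 8, 8, 7], [7, 8, 7, 7, 7, 7, 7, 8, 8, 7], [8, 8, 7, 7, 7, 7, 7, 8, 8,
    7], [7, 7, 8, 7, 7, 7, 7, 8, 8, 7], [8, 7, 8, 7, 7, 7, 7, 8, 8, 7], [7, 7, 7, 8, 7, 7, 7, 8, 8, 7], [8, 7, 7, 8, 7, 7, 7, 8, 8, 7], [7, 7, 7, 7,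
    8, 7, 7, 8, 8, 7], [8, 7, 7, 7, 8, 7, 7, 8, 8, 7], [7, 7, 8, 7, 8, 7, 7, 8, 8, 7], [7, 7, 7, 7, 7, 8, 7, 8, 8, 7], [8, 7, 7, 7, 7, 8, 7, 8, 8,
    7], [7, 8, 7, 7, 7, 8, 7, 8, 8, 7], [7, 7, 7, 7, 8, 8, 7, 8, 8, 7], [8, 7, 7, 7, 8, 8, 7, 8, 8, 7], [8, 8, 7, 7, 8, 8, 7, 8, 8, 7], [8, 7, 8, 7,
    8, 8, 7, 8, 8, 7], [7, 8, 8, 7, 8, 8, 7, 8, 8, 7], [7, 7, 8, 7, 7, 8, 8, 7, 7, 8], [7, 8, 8, 7, 7, 8, 8, 7, 7, 8], [7, 7, 7, 8, 7, 8, 8, 7, 7,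
    8], [7, 7, 8, 8, 7, 8, 8, 7, 7, 8], [8, 7, 8, 8, 7, 8, 8, 7, 7, 8], [7, 7, 7, 7, 8, 7, 7, 8, 7, 8], [8, 7, 7, 7, 8, 7, 7, 8, 7, 8], [7, 8, 8, 7,
    8, 8, 7, 8, 7, 8], [8, 7, 7, 8, 8, 7, 8, 8, 7, 8], [7, 8, 7, 8, 8, 7, 8, 8, 7, 8], [8, 8, 7, 8, 8, 7, 8, 8, 7, 8], [7, 8, 7, 7, 8, 8, 7, 7, 8,
    8], [7, 8, 8, 7, 8, 8, 7, 7, 8, 8], [8, 8, 7, 8, 8, 7, 8, 7, 8, 8], [8, 7, 8, 8, 7, 8, 8, 7, 8, 8], [8, 7, 7, 8, 7, 7, 7, 7, 7, 7, 7], [7, 8, 7,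
    8, 7, 7, 7, 7, 7, 7, 7], [8, 8, 7, 8, 7, 7, 7, 7, 7, 7, 7], [7, 8, 7, 7, 8, 7, 7, 7, 7, 7, 7], [7, 7, 7, 8, 8, 7, 7, 7, 7, 7, 7], [8, 7, 7, 8, 8,
    7, 7, 7, 7, 7, 7], [7, 8, 7, 8, 8, 7, 7, 7, 7, 7, 7], [8, 8, 7, 8, 8, 7, 7, 7, 7, 7, 7], [7, 7, 8, 7, 7, 8, 7, 7, 7, 7, 7], [7, 7, 8, 7, 7, 7, 8,
    7, 7, 7, 7], [7, 7, 7, 7, 7, 8, 7, 8, 7, 7, 7], [7, 8, 7, 7, 7, 8, 7, 8, 7, 7, 7], [8, 8, 7, 7, 7, 8, 7, 8, 7, 7, 7], [7, 7, 8, 7, 7, 8, 7, 8, 7,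
    7, 7], [7, 7, 7, 7, 7, 7, 8, 8, 7, 7, 7], [8, 7, 7, 7, 7, 7, 8, 8, 7, 7, 7], [7, 8, 7, 7, 7, 7, 8, 8, 7, 7, 7], [7, 7, 8, 7, 7, 7, 8, 8, 7, 7,
    7], [8, 7, 7, 8, 7, 7, 8, 8, 7, 7, 7], [7, 7, 7, 7, 7, 7, 7, 7, 8, 7, 7], [8, 7, 7, 7, 7, 7, 7, 7, 8, 7, 7], [7, 8, 7, 7, 7, 7, 7, 7, 8, 7, 7],
    [7, 7, 8, 7, 7, 7, 7, 7, 8, 7, 7], [8, 7, 8, 7, 7, 7, 7, 7, 8, 7, 7], [7, 7, 7, 8, 7, 7, 7, 7, 8, 7, 7], [8, 7, 7, 8, 7, 7, 7, 7, 8, 7, 7], [7,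
    7, 8, 8, 7, 7, 7, 7, 8, 7, 7], [8, 7, 8, 8, 7, 7, 7, 7, 8, 7, 7], [7, 7, 7, 7, 8, 7, 7, 7, 8, 7, 7], [7, 8, 7, 7, 8, 7, 7, 7, 8, 7, 7], [8, 8, 7,
    7, 8, 7, 7, 7, 8, 7, 7], [7, 7, 8, 7, 8, 7, 7, 7, 8, 7, 7], [7, 8, 8, 7, 8, 7, 7, 7, 8, 7, 7], [8, 7, 7, 8, 8, 7, 7, 7, 8, 7, 7], [8, 8, 7, 8, 8,
    7, 7, 7, 8, 7, 7], [7, 7, 7, 7, 7, 8, 7, 7, 8, 7, 7], [7, 8, 7, 7, 7, 8, 7, 7, 8, 7, 7], [8, 7, 7, 7, 7, 7, 7, 8, 8, 7, 7], [7, 8, 7, 7, 7, 7, 7,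
    8, 8, 7, 7], [7, 7, 8, 7, 7, 7, 7, 8, 8, 7, 7], [7, 8, 8, 7, 7, 7, 7, 8, 8, 7, 7], [7, 7, 7, 8, 7, 7, 7, 8, 8, 7, 7], [8, 7, 7, 8, 7, 7, 7, 8, 8,
    7, 7], [7, 8, 7, 8, 7, 7, 7, 8, 8, 7, 7], [8, 8, 7, 8, 7, 7, 7, 8, 8, 7, 7], [7, 7, 8, 8, 7, 7, 7, 8, 8, 7, 7], [8, 7, 8, 8, 7, 7, 7, 8, 8, 7,
    7], [7, 7, 7, 7, 8, 7, 7, 8, 8, 7, 7], [8, 7, 7, 7, 8, 7, 7, 8, 8, 7, 7], [7, 8, 7, 7, 8, 7, 7, 8, 8, 7, 7], [8, 8, 7, 7, 8, 7, 7, 8, 8, 7, 7],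
    [7, 7, 8, 7, 8, 7, 7, 8, 8, 7, 7], [8, 7, 8, 7, 8, 7, 7, 8, 8, 7, 7], [7, 8, 8, 7, 8, 7, 7, 8, 8, 7, 7], [7, 7, 7, 8, 8, 7, 7, 8, 8, 7, 7], [8,
    7, 7, 8, 8, 7, 7, 8, 8, 7, 7], [7, 8, 7, 8, 8, 7, 7, 8, 8, 7, 7], [7, 7, 7, 7, 7, 8, 7, 8, 8, 7, 7], [8, 7, 7, 7, 7, 8, 7, 8, 8, 7, 7], [7, 8, 7,
    7, 7, 8, 7, 8, 8, 7, 7], [8, 8, 7, 7, 7, 8, 7, 8, 8, 7, 7], [7, 7, 7, 8, 7, 8, 7, 8, 8, 7, 7], [8, 7, 7, 8, 7, 8, 7, 8, 8, 7, 7], [7, 7, 7, 7, 8,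
    8, 7, 8, 8, 7, 7], [8, 7, 7, 7, 8, 8, 7, 8, 8, 7, 7], [7, 8, 7, 7, 8, 8, 7, 8, 8, 7, 7], [8, 8, 7, 7, 8, 8, 7, 8, 8, 7, 7], [8, 7, 8, 7, 7, 7, 7,
    7, 7, 8, 7], [8, 7, 7, 8, 7, 7, 7, 7, 7, 8, 7], [7, 7, 8, 8, 7, 7, 7, 7, 7, 8, 7], [8, 7, 8, 8, 7, 7, 7, 7, 7, 8, 7], [7, 8, 7, 7, 8, 7, 7, 7, 7,
    8, 7], [7, 8, 8, 7, 8, 7, 7, 7, 7, 8, 7], [7, 8, 7, 7, 7, 8, 7, 7, 7, 8, 7], [7, 7, 8, 7, 7, 8, 7, 7, 7, 8, 7], [7, 7, 7, 7, 7, 7, 8, 7, 7, 8,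
    7], [8, 7, 7, 7, 7, 7, 8, 7, 7, 8, 7], [7, 8, 7, 7, 7, 7, 8, 7, 7, 8, 7], [7, 7, 8, 7, 7, 7, 8, 7, 7, 8, 7], [7, 8, 8, 7, 7, 7, 8, 7, 7, 8, 7],
    [7, 7, 7, 7, 7, 7, 8, 8, 7, 8, 7], [8, 7, 7, 7, 7, 7, 8, 8, 7, 8, 7], [7, 8, 7, 7, 7, 7, 8, 8, 7, 8, 7], [8, 8, 7, 7, 7, 7, 8, 8, 7, 8, 7], [7,
    7, 8, 7, 7, 7, 8, 8, 7, 8, 7], [8, 7, 8, 7, 7, 7, 8, 8, 7, 8, 7], [7, 7, 8, 8, 7, 7, 8, 8, 7, 8, 7], [8, 8, 7, 8, 8, 7, 8, 8, 7, 8, 7], [7, 8, 8,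
    7, 7, 7, 7, 7, 8, 8, 7], [8, 7, 7, 8, 7, 7, 7, 7, 8, 8, 7], [7, 8, 7, 8, 7, 7, 7, 7, 8, 8, 7], [8, 8, 7, 8, 7, 7, 7, 7, 8, 8, 7], [8, 7, 7, 7, 8,
    7, 7, 7, 8, 8, 7], [7, 8, 7, 7, 8, 7, 7, 7, 8, 8, 7], [8, 8, 7, 7, 8, 7, 7, 7, 8, 8, 7], [7, 7, 7, 7, 7, 8, 7, 7, 8, 8, 7], [8, 7, 7, 7, 7, 8, 7,
    7, 8, 8, 7], [7, 8, 7, 7, 7, 8, 7, 7, 8, 8, 7], [8, 8, 7, 7, 7, 8, 7, 7, 8, 8, 7], [7, 7, 7, 8, 7, 8, 7, 7, 8, 8, 7], [8, 7, 7, 8, 7, 8, 7, 7, 8,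
    8, 7], [7, 7, 7, 7, 7, 7, 8, 7, 8, 8, 7], [8, 7, 7, 7, 7, 7, 8, 7, 8, 8, 7], [7, 8, 7, 7, 7, 7, 8, 7, 8, 8, 7], [8, 8, 7, 7, 7, 7, 8, 7, 8, 8,
    7], [7, 7, 8, 7, 7, 7, 8, 7, 8, 8, 7], [8, 7, 8, 7, 7, 7, 8, 7, 8, 8, 7], [7, 7, 7, 7, 7, 8, 8, 7, 8, 8, 7], [8, 7, 7, 7, 7, 8, 8, 7, 8, 8, 7],
    [7, 8, 7, 7, 7, 8, 8, 7, 8, 8, 7], [8, 8, 7, 7, 7, 8, 8, 7, 8, 8, 7], [8, 8, 7, 8, 7, 8, 8, 7, 8, 8, 7], [8, 7, 8, 8, 7, 8, 8, 7, 8, 8, 7], [7,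
    7, 7, 8, 7, 7, 8, 8, 7, 7, 8], [8, 7, 7, 8, 7, 7, 8, 8, 7, 7, 8], [7, 7, 8, 8, 7, 7, 8, 8, 7, 7, 8], [7, 7, 7, 7, 8, 7, 8, 8, 7, 7, 8], [8, 7, 7,
    7, 8, 7, 8, 8, 7, 7, 8], [7, 7, 7, 8, 8, 7, 8, 8, 7, 7, 8], [8, 7, 7, 8, 8, 7, 8, 8, 7, 7, 8], [8, 8, 7, 8, 8, 7, 8, 8, 7, 7, 8], [8, 7, 7, 7, 7,
    8, 7, 7, 8, 7, 8], [7, 8, 7, 7, 7, 8, 7, 7, 8, 7, 8], [8, 8, 7, 7, 7, 8, 7, 7, 8, 7, 8], [8, 7, 8, 8, 7, 8, 8, 7, 8, 7, 8], [7, 8, 8, 7, 8, 8, 7,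
    8, 8, 7, 8], [7, 7, 8, 7, 7, 8, 8, 7, 7, 8, 8], [7, 7, 8, 8, 7, 8, 8, 7, 7, 8, 8], [8, 7, 8, 8, 7, 8, 8, 7, 7, 8, 8], [7, 8, 8, 7, 8, 8, 7, 8, 7,
    8, 8], [8, 8, 7, 8, 8, 7, 8, 8, 7, 8, 8], [7, 8, 8, 7, 8, 7, 7, 7, 7, 7, 7, 7], [7, 7, 7, 7, 8, 8, 7, 7, 7, 7, 7, 7], [7, 8, 7, 7, 8, 8, 7, 7, 7,
    7, 7, 7], [7, 7, 8, 7, 8, 8, 7, 7, 7, 7, 7, 7], [7, 8, 8, 7, 8, 8, 7, 7, 7, 7, 7, 7], [8, 7, 7, 8, 7, 7, 8, 7, 7, 7, 7, 7], [7, 7, 7, 8, 7, 7, 7,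
    8, 7, 7, 7, 7], [8, 7, 7, 8, 7, 7, 7, 8, 7, 7, 7, 7], [8, 7, 7, 7, 7, 7, 8, 7, 8, 7, 7, 7], [7, 8, 8, 7, 7, 7, 8, 7, 8, 7, 7, 7], [7, 7, 7, 8, 7,
    7, 8, 7, 8, 7, 7, 7], [8, 7, 7, 8, 7, 7, 8, 7, 8, 7, 7, 7], [7, 7, 7, 8, 7, 7, 7, 8, 8, 7, 7, 7], [8, 7, 7, 8, 7, 7, 7, 8, 8, 7, 7, 7], [7, 8, 7,
    7, 8, 7, 7, 8, 8, 7, 7, 7], [8, 8, 7, 7, 7, 7, 7, 7, 7, 8, 7, 7], [7, 7, 8, 7, 7, 7, 7, 7, 7, 8, 7, 7], [8, 7, 8, 7, 7, 7, 7, 7, 7, 8, 7, 7], [7,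
    7, 7, 8, 7, 7, 7, 7, 7, 8, 7, 7], [8, 7, 7, 8, 7, 7, 7, 7, 7, 8, 7, 7], [7, 8, 7, 8, 7, 7, 7, 7, 7, 8, 7, 7], [8, 8, 7, 8, 7, 7, 7, 7, 7, 8, 7,
    7], [7, 7, 7, 7, 8, 7, 7, 7, 7, 8, 7, 7], [8, 7, 7, 7, 8, 7, 7, 7, 7, 8, 7, 7], [7, 8, 7, 7, 8, 7, 7, 7, 7, 8, 7, 7], [8, 8, 7, 7, 8, 7, 7, 7, 7,
    8, 7, 7], [7, 7, 7, 8, 8, 7, 7, 7, 7, 8, 7, 7], [8, 7, 7, 8, 8, 7, 7, 7, 7, 8, 7, 7], [7, 8, 7, 8, 8, 7, 7, 7, 7, 8, 7, 7], [8, 8, 7, 8, 8, 7, 7,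
    7, 7, 8, 7, 7], [8, 7, 7, 7, 7, 8, 7, 7, 7, 8, 7, 7], [7, 7, 8, 7, 7, 8, 7, 7, 7, 8, 7, 7], [7, 7, 7, 8, 7, 8, 7, 7, 7, 8, 7, 7], [8, 7, 7, 8, 7,
    8, 7, 7, 7, 8, 7, 7], [7, 7, 8, 8, 7, 8, 7, 7, 7, 8, 7, 7], [8, 7, 8, 8, 7, 8, 7, 7, 7, 8, 7, 7], [7, 8, 8, 7, 8, 8, 7, 7, 7, 8, 7, 7], [7, 7, 7,
    7, 7, 7, 8, 7, 7, 8, 7, 7], [7, 7, 8, 7, 7, 7, 7, 7, 8, 8, 7, 7], [8, 7, 8, 7, 7, 7, 7, 7, 8, 8, 7, 7], [8, 7, 7, 8, 7, 7, 7, 7, 8, 8, 7, 7], [7,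
    7, 8, 8, 7, 7, 7, 7, 8, 8, 7, 7], [8, 7, 8, 8, 7, 7, 7, 7, 8, 8, 7, 7], [7, 8, 7, 7, 8, 7, 7, 7, 8, 8, 7, 7], [8, 8, 7, 7, 8, 7, 7, 7, 8, 8, 7,
    7], [7, 7, 8, 7, 8, 7, 7, 7, 8, 8, 7, 7], [7, 8, 8, 7, 8, 7, 7, 7, 8, 8, 7, 7], [8, 7, 7, 8, 8, 7, 7, 7, 8, 8, 7, 7], [8, 8, 7, 8, 8, 7, 7, 7, 8,
    8, 7, 7], [8, 7, 7, 7, 7, 8, 7, 7, 8, 8, 7, 7], [7, 8, 7, 7, 7, 8, 7, 7, 8, 8, 7, 7], [8, 8, 7, 7, 7, 8, 7, 7, 8, 8, 7, 7], [8, 7, 8, 7, 7, 8, 7,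
    7, 8, 8, 7, 7], [7, 8, 8, 7, 7, 8, 7, 7, 8, 8, 7, 7], [7, 7, 7, 8, 7, 8, 7, 7, 8, 8, 7, 7], [8, 7, 7, 8, 7, 8, 7, 7, 8, 8, 7, 7], [7, 8, 7, 8, 7,
    8, 7, 7, 8, 8, 7, 7], [8, 8, 7, 8, 7, 8, 7, 7, 8, 8, 7, 7], [8, 7, 8, 8, 7, 8, 7, 7, 8, 8, 7, 7], [7, 7, 7, 7, 8, 8, 7, 7, 8, 8, 7, 7], [8, 7, 7,
    7, 8, 8, 7, 7, 8, 8, 7, 7], [7, 8, 7, 7, 8, 8, 7, 7, 8, 8, 7, 7], [8, 8, 7, 7, 8, 8, 7, 7, 8, 8, 7, 7], [7, 7, 8, 7, 8, 8, 7, 7, 8, 8, 7, 7], [8,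
    7, 8, 7, 8, 8, 7, 7, 8, 8, 7, 7], [8, 7, 7, 7, 7, 7, 8, 7, 8, 8, 7, 7], [7, 8, 8, 7, 7, 7, 8, 7, 8, 8, 7, 7], [7, 7, 7, 7, 8, 7, 8, 7, 8, 8, 7,
    7], [8, 7, 7, 7, 8, 7, 8, 7, 8, 8, 7, 7], [7, 8, 7, 7, 8, 7, 8, 7, 8, 8, 7, 7], [8, 8, 7, 7, 8, 7, 8, 7, 8, 8, 7, 7], [7, 7, 7, 7, 7, 8, 8, 7, 8,
    8, 7, 7], [8, 7, 7, 7, 7, 8, 8, 7, 8, 8, 7, 7], [7, 8, 7, 7, 7, 8, 8, 7, 8, 8, 7, 7], [8, 8, 7, 7, 7, 8, 8, 7, 8, 8, 7, 7], [7, 7, 8, 7, 7, 8, 8,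
    7, 8, 8, 7, 7], [8, 7, 8, 7, 7, 8, 8, 7, 8, 8, 7, 7], [7, 8, 8, 7, 7, 8, 8, 7, 8, 8, 7, 7], [8, 8, 7, 8, 7, 7, 7, 7, 7, 7, 8, 7], [7, 7, 7, 8, 8,
    7, 7, 7, 7, 7, 8, 7], [8, 7, 7, 8, 8, 7, 7, 7, 7, 7, 8, 7], [7, 8, 7, 8, 8, 7, 7, 7, 7, 7, 8, 7], [8, 8, 7, 8, 8, 7, 7, 7, 7, 7, 8, 7], [7, 7, 8,
    7, 7, 8, 7, 7, 7, 7, 8, 7], [7, 7, 8, 8, 7, 8, 7, 7, 7, 7, 8, 7], [8, 7, 8, 8, 7, 8, 7, 7, 7, 7, 8, 7], [8, 7, 7, 8, 7, 7, 8, 7, 7, 7, 8, 7], [7,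
    7, 7, 7, 7, 7, 7, 8, 7, 7, 8, 7], [8, 7, 7, 7, 7, 7, 7, 8, 7, 7, 8, 7], [7, 8, 7, 7, 7, 7, 7, 8, 7, 7, 8, 7], [7, 7, 8, 7, 7, 7, 7, 8, 7, 7, 8,
    7], [8, 7, 8, 7, 7, 7, 7, 8, 7, 7, 8, 7], [7, 7, 7, 8, 7, 7, 7, 8, 7, 7, 8, 7], [8, 7, 7, 8, 7, 7, 7, 8, 7, 7, 8, 7], [7, 7, 8, 8, 7, 7, 7, 8, 7,
    7, 8, 7], [8, 7, 8, 8, 7, 7, 7, 8, 7, 7, 8, 7], [8, 7, 7, 7, 7, 7, 7, 8, 8, 7, 8, 7], [7, 7, 8, 7, 7, 7, 7, 8, 8, 7, 8, 7], [7, 8, 8, 7, 7, 7, 7,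
    8, 8, 7, 8, 7], [8, 7, 7, 8, 7, 7, 7, 8, 8, 7, 8, 7], [7, 8, 7, 8, 7, 7, 7, 8, 8, 7, 8, 7], [8, 8, 7, 8, 7, 7, 7, 8, 8, 7, 8, 7], [7, 7, 7, 8, 8,
    7, 7, 8, 8, 7, 8, 7], [8, 7, 7, 8, 8, 7, 7, 8, 8, 7, 8, 7], [7, 7, 8, 8, 7, 7, 7, 7, 7, 8, 8, 7], [8, 7, 8, 8, 7, 7, 7, 7, 7, 8, 8, 7], [7, 8, 8,
    7, 8, 7, 7, 7, 7, 8, 8, 7], [7, 8, 8, 7, 7, 8, 7, 7, 7, 8, 8, 7], [7, 7, 7, 7, 7, 7, 8, 7, 7, 8, 8, 7], [8, 7, 7, 7, 7, 7, 8, 7, 7, 8, 8, 7], [7,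
    8, 7, 7, 7, 7, 8, 7, 7, 8, 8, 7], [7, 7, 8, 7, 7, 7, 8, 7, 7, 8, 8, 7], [7, 8, 8, 7, 7, 7, 8, 7, 7, 8, 8, 7], [7, 7, 7, 7, 8, 7, 8, 7, 7, 8, 8,
    7], [8, 7, 7, 7, 8, 7, 8, 7, 7, 8, 8, 7], [7, 8, 7, 7, 8, 7, 8, 7, 7, 8, 8, 7], [8, 8, 7, 7, 8, 7, 8, 7, 7, 8, 8, 7], [7, 8, 7, 7, 7, 7, 7, 8, 7,
    8, 8, 7], [7, 7, 8, 7, 7, 7, 7, 8, 7, 8, 8, 7], [7, 8, 8, 7, 7, 7, 7, 8, 7, 8, 8, 7], [7, 7, 7, 8, 7, 7, 7, 8, 7, 8, 8, 7], [8, 7, 7, 8, 7, 7, 7,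
    8, 7, 8, 8, 7], [7, 8, 7, 8, 7, 7, 7, 8, 7, 8, 8, 7], [8, 8, 7, 8, 7, 7, 7, 8, 7, 8, 8, 7], [7, 7, 7, 7, 7, 7, 8, 8, 7, 8, 8, 7], [7, 8, 7, 7, 7,
    7, 8, 8, 7, 8, 8, 7], [8, 8, 7, 7, 7, 7, 8, 8, 7, 8, 8, 7], [7, 7, 8, 7, 7, 7, 8, 8, 7, 8, 8, 7], [8, 7, 8, 7, 7, 7, 8, 8, 7, 8, 8, 7], [7, 8, 8,
    7, 7, 7, 8, 8, 7, 8, 8, 7], [8, 8, 7, 8, 8, 7, 8, 8, 7, 8, 8, 7], [7, 7, 7, 7, 8, 7, 7, 8, 8, 7, 7, 8], [8, 7, 7, 7, 8, 7, 7, 8, 8, 7, 7, 8], [7,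
    8, 7, 7, 8, 7, 7, 8, 8, 7, 7, 8], [8, 8, 7, 7, 8, 7, 7, 8, 8, 7, 7, 8], [7, 7, 7, 8, 8, 7, 7, 8, 8, 7, 7, 8], [8, 7, 7, 8, 8, 7, 7, 8, 8, 7, 7,
    8], [7, 7, 7, 7, 7, 8, 7, 8, 8, 7, 7, 8], [8, 7, 7, 7, 7, 8, 7, 8, 8, 7, 7, 8], [7, 8, 7, 7, 7, 8, 7, 8, 8, 7, 7, 8], [8, 8, 7, 7, 7, 8, 7, 8, 8,
    7, 7, 8], [7, 7, 7, 7, 8, 8, 7, 8, 8, 7, 7, 8], [8, 7, 7, 7, 8, 8, 7, 8, 8, 7, 7, 8], [7, 8, 7, 7, 8, 8, 7, 8, 8, 7, 7, 8], [8, 8, 7, 7, 8, 8, 7,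
    8, 8, 7, 7, 8], [7, 8, 7, 7, 7, 7, 8, 7, 7, 8, 7, 8], [7, 8, 8, 7, 7, 7, 8, 7, 7, 8, 7, 8], [7, 8, 7, 8, 8, 7, 8, 8, 7, 8, 7, 8], [8, 7, 8, 8, 7,
    8, 8, 7, 8, 8, 7, 8], [7, 7, 7, 8, 7, 7, 8, 8, 7, 7, 8, 8], [8, 7, 7, 8, 7, 7, 8, 8, 7, 7, 8, 8], [7, 7, 7, 8, 8, 7, 8, 8, 7, 7, 8, 8], [8, 8, 7,
    8, 8, 7, 8, 8, 7, 7, 8, 8], [7, 8, 8, 7, 8, 8, 7, 8, 8, 7, 8, 8], [7, 7, 7, 7, 7, 8, 8, 7, 7, 7, 7, 7, 7], [8, 7, 7, 7, 7, 8, 8, 7, 7, 7, 7, 7,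
    7], [7, 7, 8, 7, 7, 8, 8, 7, 7, 7, 7, 7, 7], [7, 7, 7, 8, 7, 8, 8, 7, 7, 7, 7, 7, 7], [8, 7, 7, 8, 7, 8, 8, 7, 7, 7, 7, 7, 7], [7, 7, 8, 8, 7, 8,
    8, 7, 7, 7, 7, 7, 7], [8, 7, 8, 8, 7, 8, 8, 7, 7, 7, 7, 7, 7], [7, 7, 7, 7, 8, 7, 7, 7, 8, 7, 7, 7, 7], [7, 7, 8, 8, 7, 7, 7, 8, 7, 8, 7, 7, 7],
    [8, 7, 8, 8, 7, 7, 7, 8, 7, 8, 7, 7, 7], [7, 7, 7, 7, 8, 7, 7, 7, 8, 8, 7, 7, 7], [8, 8, 7, 8, 7, 7, 7, 7, 7, 7, 8, 7, 7], [8, 7, 7, 7, 8, 7, 7,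
    7, 7, 7, 8, 7, 7], [7, 8, 7, 7, 8, 7, 7, 7, 7, 7, 8, 7, 7], [8, 8, 7, 7, 8, 7, 7, 7, 7, 7, 8, 7, 7], [7, 7, 8, 7, 8, 7, 7, 7, 7, 7, 8, 7, 7], [8,
    7, 8, 7, 8, 7, 7, 7, 7, 7, 8, 7, 7], [7, 8, 8, 7, 8, 7, 7, 7, 7, 7, 8, 7, 7], [8, 7, 7, 7, 7, 8, 7, 7, 7, 7, 8, 7, 7], [7, 8, 7, 7, 7, 8, 7, 7,
    7, 7, 8, 7, 7], [8, 8, 7, 7, 7, 8, 7, 7, 7, 7, 8, 7, 7], [7, 7, 8, 7, 7, 8, 7, 7, 7, 7, 8, 7, 7], [8, 7, 8, 7, 7, 8, 7, 7, 7, 7, 8, 7, 7], [7, 8,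
    8, 7, 7, 8, 7, 7, 7, 7, 8, 7, 7], [7, 7, 7, 7, 8, 8, 7, 7, 7, 7, 8, 7, 7], [8, 7, 7, 7, 8, 8, 7, 7, 7, 7, 8, 7, 7], [7, 8, 7, 7, 8, 8, 7, 7, 7,
    7, 8, 7, 7], [8, 8, 7, 7, 8, 8, 7, 7, 7, 7, 8, 7, 7], [7, 7, 8, 7, 8, 8, 7, 7, 7, 7, 8, 7, 7], [8, 7, 8, 7, 8, 8, 7, 7, 7, 7, 8, 7, 7], [8, 8, 7,
    7, 7, 7, 8, 7, 7, 7, 8, 7, 7], [7, 7, 7, 8, 7, 7, 8, 7, 7, 7, 8, 7, 7], [7, 7, 7, 7, 8, 7, 8, 7, 7, 7, 8, 7, 7], [8, 7, 7, 7, 8, 7, 8, 7, 7, 7,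
    8, 7, 7], [7, 8, 7, 7, 8, 7, 8, 7, 7, 7, 8, 7, 7], [7, 7, 7, 8, 8, 7, 8, 7, 7, 7, 8, 7, 7], [7, 8, 7, 8, 8, 7, 8, 7, 7, 7, 8, 7, 7], [8, 8, 7, 8,
    8, 7, 8, 7, 7, 7, 8, 7, 7], [8, 7, 8, 8, 7, 8, 8, 7, 7, 7, 8, 7, 7], [7, 7, 7, 7, 7, 7, 7, 8, 7, 7, 8, 7, 7], [8, 7, 7, 7, 7, 7, 7, 8, 7, 7, 8,
    7, 7], [7, 7, 7, 8, 7, 7, 7, 7, 7, 8, 8, 7, 7], [8, 7, 7, 8, 7, 7, 7, 7, 7, 8, 8, 7, 7], [8, 8, 7, 8, 7, 7, 7, 7, 7, 8, 8, 7, 7], [7, 8, 7, 7, 8,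
    7, 7, 7, 7, 8, 8, 7, 7], [8, 8, 7, 7, 8, 7, 7, 7, 7, 8, 8, 7, 7], [8, 7, 7, 8, 8, 7, 7, 7, 7, 8, 8, 7, 7], [7, 8, 7, 8, 8, 7, 7, 7, 7, 8, 8, 7,
    7], [8, 8, 7, 8, 8, 7, 7, 7, 7, 8, 8, 7, 7], [8, 7, 7, 8, 7, 8, 7, 7, 7, 8, 8, 7, 7], [7, 7, 8, 8, 7, 8, 7, 7, 7, 8, 8, 7, 7], [8, 7, 8, 8, 7, 8,
    7, 7, 7, 8, 8, 7, 7], [7, 8, 8, 7, 8, 8, 7, 7, 7, 8, 8, 7, 7], [7, 7, 8, 7, 7, 7, 8, 7, 7, 8, 8, 7, 7], [8, 7, 8, 7, 7, 7, 8, 7, 7, 8, 8, 7, 7],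
    [7, 8, 8, 7, 7, 7, 8, 7, 7, 8, 8, 7, 7], [7, 8, 7, 8, 7, 7, 8, 7, 7, 8, 8, 7, 7], [7, 7, 8, 8, 7, 7, 8, 7, 7, 8, 8, 7, 7], [8, 7, 7, 7, 8, 7, 8,
    7, 7, 8, 8, 7, 7], [7, 8, 7, 7, 8, 7, 8, 7, 7, 8, 8, 7, 7], [7, 7, 8, 7, 8, 7, 8, 7, 7, 8, 8, 7, 7], [7, 8, 8, 7, 8, 7, 8, 7, 7, 8, 8, 7, 7], [7,
    8, 7, 7, 7, 8, 8, 7, 7, 8, 8, 7, 7], [8, 8, 7, 7, 7, 8, 8, 7, 7, 8, 8, 7, 7], [7, 7, 8, 7, 7, 8, 8, 7, 7, 8, 8, 7, 7], [7, 8, 8, 7, 7, 8, 8, 7,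
    7, 8, 8, 7, 7], [7, 7, 7, 8, 7, 8, 8, 7, 7, 8, 8, 7, 7], [7, 8, 7, 8, 7, 8, 8, 7, 7, 8, 8, 7, 7], [7, 7, 8, 8, 7, 7, 7, 8, 7, 8, 8, 7, 7], [8, 7,
    8, 8, 7, 7, 7, 8, 7, 8, 8, 7, 7], [7, 7, 8, 7, 7, 8, 7, 8, 7, 8, 8, 7, 7], [7, 8, 8, 7, 7, 8, 7, 8, 7, 8, 8, 7, 7], [8, 7, 7, 7, 7, 7, 8, 8, 7,
    8, 8, 7, 7], [7, 8, 8, 7, 7, 7, 8, 8, 7, 8, 8, 7, 7], [7, 7, 7, 8, 7, 7, 8, 8, 7, 8, 8, 7, 7], [7, 8, 7, 8, 7, 7, 8, 8, 7, 8, 8, 7, 7], [8, 8, 7,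
    8, 7, 7, 8, 8, 7, 8, 8, 7, 7], [7, 7, 8, 8, 7, 7, 8, 8, 7, 8, 8, 7, 7], [8, 7, 8, 8, 7, 7, 8, 8, 7, 8, 8, 7, 7], [8, 7, 7, 7, 8, 8, 7, 7, 7, 7,
    7, 8, 7], [7, 8, 7, 7, 8, 8, 7, 7, 7, 7, 7, 8, 7], [8, 8, 7, 7, 8, 8, 7, 7, 7, 7, 7, 8, 7], [7, 7, 8, 7, 8, 8, 7, 7, 7, 7, 7, 8, 7], [7, 8, 8, 7,
    8, 8, 7, 7, 7, 7, 7, 8, 7], [7, 7, 7, 8, 8, 7, 8, 7, 7, 7, 7, 8, 7], [8, 7, 7, 8, 8, 7, 8, 7, 7, 7, 7, 8, 7], [7, 7, 7, 7, 7, 7, 7, 7, 8, 7, 7,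
    8, 7], [8, 7, 7, 7, 7, 7, 7, 7, 8, 7, 7, 8, 7], [7, 8, 7, 7, 7, 7, 7, 7, 8, 7, 7, 8, 7], [8, 8, 7, 7, 7, 7, 7, 7, 8, 7, 7, 8, 7], [7, 7, 7, 8, 7,
    7, 7, 7, 8, 7, 7, 8, 7], [7, 8, 7, 8, 7, 7, 7, 7, 8, 7, 7, 8, 7], [7, 7, 7, 7, 8, 7, 7, 7, 8, 7, 7, 8, 7], [8, 7, 7, 7, 8, 7, 7, 7, 8, 7, 7, 8,
    7], [7, 7, 7, 8, 8, 7, 7, 7, 8, 7, 7, 8, 7], [7, 8, 7, 8, 8, 7, 7, 7, 8, 7, 7, 8, 7], [8, 7, 8, 8, 7, 7, 7, 7, 8, 8, 7, 8, 7], [7, 8, 7, 7, 8, 7,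
    7, 7, 8, 8, 7, 8, 7], [8, 7, 7, 7, 8, 8, 7, 7, 8, 8, 7, 8, 7], [7, 8, 7, 7, 8, 8, 7, 7, 8, 8, 7, 8, 7], [8, 8, 7, 7, 8, 8, 7, 7, 8, 8, 7, 8, 7],
    [7, 7, 7, 8, 8, 7, 7, 7, 7, 7, 8, 8, 7], [8, 7, 7, 8, 8, 7, 7, 7, 7, 7, 8, 8, 7], [7, 8, 7, 8, 8, 7, 7, 7, 7, 7, 8, 8, 7], [7, 7, 8, 8, 7, 7, 8,
    7, 7, 7, 8, 8, 7], [7, 7, 7, 7, 7, 7, 7, 8, 7, 7, 8, 8, 7], [8, 7, 7, 7, 7, 7, 7, 8, 7, 7, 8, 8, 7], [7, 7, 8, 7, 7, 7, 7, 8, 7, 7, 8, 8, 7], [8,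
    7, 8, 7, 7, 7, 7, 8, 7, 7, 8, 8, 7], [7, 7, 7, 8, 7, 7, 7, 8, 7, 7, 8, 8, 7], [7, 7, 8, 8, 7, 7, 7, 8, 7, 7, 8, 8, 7], [8, 7, 7, 7, 7, 8, 7, 8,
    7, 7, 8, 8, 7], [7, 8, 7, 7, 7, 8, 7, 8, 7, 7, 8, 8, 7], [7, 7, 8, 7, 7, 8, 7, 8, 7, 7, 8, 8, 7], [7, 8, 8, 7, 7, 8, 7, 8, 7, 7, 8, 8, 7], [8, 7,
    7, 8, 7, 7, 7, 7, 8, 7, 8, 8, 7], [7, 7, 8, 8, 7, 7, 7, 7, 8, 7, 8, 8, 7], [7, 8, 7, 7, 8, 7, 7, 7, 8, 7, 8, 8, 7], [7, 7, 8, 7, 8, 7, 7, 7, 8,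
    7, 8, 8, 7], [7, 7, 8, 7, 7, 7, 7, 8, 8, 7, 8, 8, 7], [7, 7, 7, 8, 7, 7, 7, 8, 8, 7, 8, 8, 7], [7, 8, 7, 8, 7, 7, 7, 8, 8, 7, 8, 8, 7], [7, 7, 8,
    8, 7, 7, 7, 8, 8, 7, 8, 8, 7], [7, 8, 7, 7, 7, 8, 7, 7, 8, 8, 7, 7, 8], [8, 8, 7, 7, 7, 8, 7, 7, 8, 8, 7, 7, 8], [7, 8, 8, 7, 7, 8, 7, 7, 8, 8,
    7, 7, 8], [8, 7, 7, 7, 8, 8, 7, 7, 8, 8, 7, 7, 8], [8, 8, 7, 7, 8, 8, 7, 7, 8, 8, 7, 7, 8], [7, 8, 8, 7, 7, 7, 8, 7, 8, 8, 7, 7, 8], [7, 7, 7, 7,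
    7, 8, 8, 7, 8, 8, 7, 7, 8], [8, 7, 7, 7, 7, 8, 8, 7, 8, 8, 7, 7, 8], [7, 8, 7, 7, 7, 8, 8, 7, 8, 8, 7, 7, 8], [8, 8, 7, 7, 7, 8, 8, 7, 8, 8, 7,
    7, 8], [7, 7, 8, 7, 7, 8, 8, 7, 8, 8, 7, 7, 8], [8, 7, 8, 7, 7, 8, 8, 7, 8, 8, 7, 7, 8], [7, 8, 8, 7, 7, 8, 8, 7, 8, 8, 7, 7, 8], [7, 7, 8, 7, 7,
    7, 7, 8, 7, 7, 8, 7, 8], [7, 7, 8, 8, 7, 7, 7, 8, 7, 7, 8, 7, 8], [7, 7, 8, 7, 8, 8, 7, 8, 8, 7, 8, 7, 8], [8, 8, 7, 8, 8, 7, 8, 8, 7, 8, 8, 7,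
    8], [8, 7, 7, 7, 8, 7, 7, 8, 8, 7, 7, 8, 8], [7, 7, 7, 7, 8, 8, 7, 8, 8, 7, 7, 8, 8], [8, 7, 7, 7, 8, 8, 7, 8, 8, 7, 7, 8, 8], [7, 7, 7, 7, 7, 7,
    8, 8, 7, 7, 7, 7, 7, 7], [8, 7, 7, 7, 7, 7, 8, 8, 7, 7, 7, 7, 7, 7], [7, 8, 7, 7, 7, 7, 8, 8, 7, 7, 7, 7, 7, 7], [8, 8, 7, 7, 7, 7, 8, 8, 7, 7,
    7, 7, 7, 7], [7, 7, 7, 8, 7, 7, 8, 8, 7, 7, 7, 7, 7, 7], [7, 7, 7, 7, 8, 7, 8, 8, 7, 7, 7, 7, 7, 7], [8, 7, 7, 7, 8, 7, 8, 8, 7, 7, 7, 7, 7, 7],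
    [7, 7, 7, 8, 8, 7, 8, 8, 7, 7, 7, 7, 7, 7], [8, 8, 7, 8, 8, 7, 8, 8, 7, 7, 7, 7, 7, 7], [7, 7, 7, 7, 7, 8, 7, 7, 7, 8, 7, 7, 7, 7], [8, 7, 7, 7,
    7, 8, 7, 7, 7, 8, 7, 7, 7, 7], [8, 8, 7, 7, 7, 8, 7, 7, 7, 7, 7, 8, 7, 7], [8, 7, 8, 7, 7, 8, 7, 7, 7, 7, 7, 8, 7, 7], [7, 8, 8, 7, 7, 8, 7, 7,
    7, 7, 7, 8, 7, 7], [8, 7, 7, 8, 7, 8, 7, 7, 7, 7, 7, 8, 7, 7], [7, 8, 7, 8, 7, 8, 7, 7, 7, 7, 7, 8, 7, 7], [8, 8, 7, 8, 7, 8, 7, 7, 7, 7, 7, 8,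
    7, 7], [7, 7, 8, 8, 7, 8, 7, 7, 7, 7, 7, 8, 7, 7], [8, 7, 8, 8, 7, 8, 7, 7, 7, 7, 7, 8, 7, 7], [7, 8, 8, 7, 7, 7, 8, 7, 7, 7, 7, 8, 7, 7], [7, 8,
    7, 8, 7, 7, 8, 7, 7, 7, 7, 8, 7, 7], [7, 7, 8, 8, 7, 7, 8, 7, 7, 7, 7, 8, 7, 7], [8, 7, 7, 7, 7, 8, 8, 7, 7, 7, 7, 8, 7, 7], [7, 8, 7, 7, 7, 8,
    8, 7, 7, 7, 7, 8, 7, 7], [8, 8, 7, 7, 7, 8, 8, 7, 7, 7, 7, 8, 7, 7], [8, 7, 8, 7, 7, 8, 8, 7, 7, 7, 7, 8, 7, 7], [7, 8, 8, 7, 7, 8, 8, 7, 7, 7,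
    7, 8, 7, 7], [7, 7, 7, 8, 7, 8, 8, 7, 7, 7, 7, 8, 7, 7], [7, 8, 7, 8, 7, 8, 8, 7, 7, 7, 7, 8, 7, 7], [8, 7, 7, 7, 8, 7, 7, 8, 7, 7, 7, 8, 7, 7],
    [8, 7, 7, 7, 7, 8, 7, 8, 7, 7, 7, 8, 7, 7], [7, 8, 7, 7, 7, 8, 7, 8, 7, 7, 7, 8, 7, 7], [8, 8, 7, 7, 7, 8, 7, 8, 7, 7, 7, 8, 7, 7], [7, 7, 8, 7,
    7, 8, 7, 8, 7, 7, 7, 8, 7, 7], [8, 7, 8, 7, 7, 8, 7, 8, 7, 7, 7, 8, 7, 7], [7, 7, 7, 7, 8, 8, 7, 8, 7, 7, 7, 8, 7, 7], [8, 7, 7, 7, 8, 8, 7, 8,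
    7, 7, 7, 8, 7, 7], [7, 7, 8, 7, 8, 8, 7, 8, 7, 7, 7, 8, 7, 7], [8, 8, 7, 8, 8, 7, 8, 8, 7, 7, 7, 8, 7, 7], [7, 7, 7, 7, 7, 7, 7, 7, 8, 7, 7, 8,
    7, 7], [8, 8, 7, 7, 8, 8, 7, 7, 7, 7, 8, 8, 7, 7], [8, 7, 8, 7, 8, 8, 7, 7, 7, 7, 8, 8, 7, 7], [8, 8, 7, 8, 8, 7, 8, 7, 7, 7, 8, 8, 7, 7], [8, 7,
    8, 8, 7, 8, 8, 7, 7, 7, 8, 8, 7, 7], [8, 7, 7, 8, 7, 7, 7, 8, 7, 7, 8, 8, 7, 7], [8, 8, 7, 8, 7, 7, 7, 8, 7, 7, 8, 8, 7, 7], [8, 7, 8, 8, 7, 7,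
    7, 8, 7, 7, 8, 8, 7, 7], [7, 7, 7, 8, 8, 7, 7, 8, 7, 7, 8, 8, 7, 7], [8, 7, 7, 8, 8, 7, 7, 8, 7, 7, 8, 8, 7, 7], [8, 7, 8, 7, 7, 8, 7, 8, 7, 7,
    8, 8, 7, 7], [8, 7, 7, 8, 7, 8, 7, 8, 7, 7, 8, 8, 7, 7], [8, 7, 8, 8, 7, 8, 7, 8, 7, 7, 8, 8, 7, 7], [7, 7, 8, 7, 7, 7, 8, 8, 7, 7, 8, 8, 7, 7],
    [8, 7, 7, 8, 7, 7, 8, 8, 7, 7, 8, 8, 7, 7], [8, 7, 8, 8, 7, 7, 8, 8, 7, 7, 8, 8, 7, 7], [7, 7, 8, 7, 8, 7, 8, 8, 7, 7, 8, 8, 7, 7], [7, 7, 7, 8,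
    8, 7, 7, 7, 8, 7, 8, 8, 7, 7], [8, 8, 7, 8, 8, 7, 7, 7, 8, 7, 8, 8, 7, 7], [8, 7, 8, 8, 7, 7, 7, 8, 8, 7, 8, 8, 7, 7], [8, 7, 7, 7, 8, 7, 7, 8,
    8, 7, 8, 8, 7, 7], [7, 7, 7, 8, 8, 7, 7, 8, 8, 7, 8, 8, 7, 7], [8, 8, 7, 8, 8, 7, 7, 8, 8, 7, 8, 8, 7, 7], [8, 7, 8, 7, 7, 8, 8, 7, 7, 7, 7, 7,
    8, 7], [7, 8, 8, 7, 7, 8, 8, 7, 7, 7, 7, 7, 8, 7], [7, 7, 8, 8, 7, 8, 8, 7, 7, 7, 7, 7, 8, 7], [8, 7, 8, 8, 7, 8, 8, 7, 7, 7, 7, 7, 8, 7], [7, 8,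
    7, 7, 8, 8, 7, 8, 7, 7, 7, 7, 8, 7], [7, 8, 7, 7, 7, 7, 7, 7, 7, 8, 7, 7, 8, 7], [7, 7, 8, 7, 7, 7, 7, 7, 7, 8, 7, 7, 8, 7], [7, 8, 8, 7, 7, 7,
    7, 7, 7, 8, 7, 7, 8, 7], [8, 7, 7, 7, 8, 7, 7, 7, 7, 8, 7, 7, 8, 7], [7, 7, 8, 7, 8, 7, 7, 7, 7, 8, 7, 7, 8, 7], [7, 7, 7, 7, 7, 8, 7, 7, 7, 8,
    7, 7, 8, 7], [8, 7, 7, 7, 7, 8, 7, 7, 7, 8, 7, 7, 8, 7], [7, 8, 7, 7, 7, 8, 7, 7, 7, 8, 7, 7, 8, 7], [8, 8, 7, 7, 7, 8, 7, 7, 7, 8, 7, 7, 8, 7],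
    [7, 7, 7, 7, 8, 8, 7, 7, 7, 8, 7, 7, 8, 7], [8, 7, 7, 7, 8, 8, 7, 7, 7, 8, 7, 7, 8, 7], [7, 7, 8, 7, 8, 8, 7, 7, 7, 8, 7, 7, 8, 7], [7, 8, 8, 7,
    7, 8, 8, 7, 7, 8, 8, 7, 8, 7], [8, 7, 7, 8, 8, 7, 7, 8, 7, 7, 7, 8, 8, 7], [7, 7, 7, 7, 7, 7, 7, 7, 8, 7, 7, 8, 8, 7], [7, 7, 7, 7, 8, 7, 7, 7,
    8, 7, 7, 8, 8, 7], [8, 7, 7, 7, 8, 7, 7, 7, 8, 7, 7, 8, 8, 7], [7, 7, 7, 8, 8, 7, 7, 7, 8, 7, 7, 8, 8, 7], [7, 7, 8, 8, 7, 7, 8, 7, 8, 7, 7, 8,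
    8, 7], [7, 7, 7, 8, 8, 7, 7, 7, 7, 8, 7, 8, 8, 7], [8, 7, 8, 7, 7, 8, 7, 7, 7, 8, 7, 8, 8, 7], [7, 7, 8, 7, 8, 7, 7, 7, 8, 8, 7, 8, 8, 7], [7, 7,
    8, 8, 7, 7, 8, 7, 7, 8, 8, 7, 7, 8], [7, 8, 7, 7, 7, 8, 8, 7, 7, 8, 8, 7, 7, 8], [7, 8, 8, 7, 7, 8, 8, 7, 7, 8, 8, 7, 7, 8], [8, 7, 8, 8, 7, 7,
    7, 8, 7, 8, 8, 7, 7, 8], [8, 8, 7, 7, 7, 7, 8, 8, 7, 8, 8, 7, 7, 8], [7, 8, 8, 7, 7, 7, 8, 8, 7, 8, 8, 7, 7, 8], [7, 7, 7, 8, 7, 7, 8, 8, 7, 8,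
    8, 7, 7, 8], [7, 8, 7, 8, 7, 7, 8, 8, 7, 8, 8, 7, 7, 8], [7, 7, 8, 8, 7, 7, 8, 8, 7, 8, 8, 7, 7, 8], [7, 7, 7, 8, 8, 7, 7, 7, 8, 7, 7, 8, 7, 8],
    [7, 7, 7, 8, 7, 8, 8, 7, 8, 8, 7, 8, 7, 8], [7, 8, 7, 7, 7, 8, 7, 7, 8, 8, 7, 7, 8, 8], [8, 8, 7, 7, 7, 8, 8, 7, 8, 8, 7, 7, 8, 8], [7, 8, 7, 7,
    7, 7, 7, 8, 8, 7, 7, 7, 7, 7, 7], [7, 7, 8, 7, 7, 7, 7, 8, 8, 7, 7, 7, 7, 7, 7], [7, 8, 8, 7, 7, 7, 7, 8, 8, 7, 7, 7, 7, 7, 7], [7, 7, 7, 7, 7,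
    8, 7, 8, 8, 7, 7, 7, 7, 7, 7], [8, 7, 7, 7, 7, 8, 7, 8, 8, 7, 7, 7, 7, 7, 7], [7, 8, 7, 7, 7, 8, 7, 8, 8, 7, 7, 7, 7, 7, 7], [8, 8, 7, 7, 7, 8,
    7, 8, 8, 7, 7, 7, 7, 7, 7], [7, 7, 7, 7, 8, 8, 7, 8, 8, 7, 7, 7, 7, 7, 7], [8, 7, 7, 7, 8, 8, 7, 8, 8, 7, 7, 7, 7, 7, 7], [7, 8, 7, 7, 7, 7, 8,
    7, 7, 7, 8, 7, 7, 7, 7], [7, 8, 8, 7, 8, 7, 8, 7, 7, 7, 7, 7, 8, 7, 7], [7, 8, 7, 8, 8, 7, 8, 7, 7, 7, 7, 7, 8, 7, 7], [8, 7, 7, 8, 8, 7, 7, 8,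
    7, 7, 7, 7, 8, 7, 7], [7, 8, 7, 7, 7, 7, 8, 8, 7, 7, 7, 7, 8, 7, 7], [7, 7, 8, 7, 7, 7, 8, 8, 7, 7, 7, 7, 8, 7, 7], [7, 7, 8, 8, 7, 7, 8, 8, 7,
    7, 7, 7, 8, 7, 7], [7, 8, 8, 7, 7, 7, 8, 7, 8, 7, 7, 7, 8, 7, 7], [7, 8, 7, 8, 7, 7, 8, 7, 8, 7, 7, 7, 8, 7, 7], [7, 8, 7, 7, 7, 8, 8, 7, 8, 7,
    7, 7, 8, 7, 7], [8, 8, 7, 8, 8, 7, 8, 8, 7, 7, 7, 8, 8, 7, 7], [7, 8, 7, 7, 8, 8, 7, 7, 8, 7, 7, 8, 8, 7, 7], [8, 8, 7, 7, 8, 8, 7, 7, 8, 7, 7,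
    8, 8, 7, 7], [8, 8, 7, 8, 7, 7, 8, 7, 8, 7, 7, 8, 8, 7, 7], [7, 8, 7, 7, 8, 7, 8, 7, 8, 7, 7, 8, 8, 7, 7], [8, 8, 7, 8, 8, 7, 8, 7, 8, 7, 7, 8,
    8, 7, 7], [7, 8, 7, 7, 8, 7, 7, 8, 8, 7, 7, 8, 8, 7, 7], [8, 8, 7, 8, 8, 7, 7, 8, 8, 7, 7, 8, 8, 7, 7], [8, 7, 7, 8, 7, 8, 7, 8, 8, 7, 7, 8, 8,
    7, 7], [8, 8, 7, 8, 8, 7, 7, 7, 8, 8, 7, 8, 8, 7, 7], [8, 7, 7, 7, 8, 8, 7, 7, 8, 8, 7, 8, 8, 7, 7], [7, 8, 7, 8, 8, 7, 8, 8, 7, 7, 7, 7, 7, 8,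
    7], [8, 7, 8, 7, 7, 8, 8, 7, 8, 7, 7, 7, 7, 8, 7], [8, 7, 7, 8, 7, 7, 7, 7, 7, 7, 8, 7, 7, 8, 7], [7, 7, 8, 8, 7, 7, 7, 7, 7, 7, 8, 7, 7, 8, 7],
    [7, 8, 7, 7, 7, 8, 7, 7, 7, 7, 8, 7, 7, 8, 7], [8, 7, 7, 8, 7, 8, 7, 7, 7, 7, 8, 7, 7, 8, 7], [7, 8, 7, 7, 7, 7, 8, 7, 7, 7, 8, 7, 7, 8, 7], [7,
    7, 8, 7, 7, 7, 8, 7, 7, 7, 8, 7, 7, 8, 7], [7, 8, 8, 7, 7, 7, 8, 7, 7, 7, 8, 7, 7, 8, 7], [7, 7, 7, 7, 7, 8, 8, 7, 7, 7, 8, 7, 7, 8, 7], [8, 7,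
    7, 7, 7, 7, 7, 7, 7, 8, 7, 7, 8, 8, 7], [7, 7, 7, 7, 7, 8, 7, 7, 7, 8, 7, 7, 8, 8, 7], [7, 8, 7, 7, 7, 8, 7, 7, 7, 8, 7, 7, 8, 8, 7], [8, 7, 7,
    7, 8, 8, 7, 7, 7, 8, 7, 7, 8, 8, 7], [8, 7, 7, 8, 7, 8, 7, 7, 7, 8, 8, 7, 8, 8, 7], [8, 7, 8, 8, 7, 7, 8, 8, 7, 7, 8, 8, 7, 7, 8], [8, 7, 8, 8,
    7, 7, 7, 8, 8, 7, 8, 8, 7, 7, 8], [7, 7, 7, 8, 8, 7, 7, 8, 8, 7, 8, 8, 7, 7, 8], [7, 8, 8, 7, 7, 7, 8, 8, 7, 8, 8, 7, 7, 8, 8], [8, 7, 7, 8, 7,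
    7, 7, 7, 8, 8, 7, 7, 7, 7, 7, 7], [7, 8, 7, 7, 7, 7, 8, 7, 8, 8, 7, 7, 7, 7, 7, 7], [7, 7, 8, 7, 7, 7, 8, 7, 8, 8, 7, 7, 7, 7, 7, 7], [7, 8, 8,
    7, 7, 7, 8, 7, 8, 8, 7, 7, 7, 7, 7, 7], [7, 7, 7, 7, 7, 8, 8, 7, 8, 8, 7, 7, 7, 7, 7, 7], [7, 7, 7, 8, 7, 7, 7, 8, 8, 7, 7, 7, 7, 8, 7, 7], [7,
    8, 7, 7, 8, 7, 8, 7, 7, 7, 7, 8, 7, 7, 8, 7], [7, 7, 8, 7, 7, 7, 8, 7, 7, 7, 8, 7, 7, 8, 8, 7]]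

def e3_e7 : List Wd :=
    [[], [], [], [], [], [], [], [], [], [], [], [], [], [], [], [], [], [], [], [2, 0, 1, 0, 2], [], [], [], [], [], [], [], [], [], [2], [], [],
    [], [], [], [], [], [], [4], [], [], [], [], [], [], [2, 4, 0, 2], [], [2, 0, 1, 0, 2], [], [], [], [], [], [], [], [], [], [], [], [], [], [],
    [], [], [], [], [2, 4], [2, 0, 2, 4], [4], [2, 0, 4, 2, 1], [], [4], [], [4, 1], [], [], [], [], [4, 1], [], [2, 0, 1, 0, 2], [], [], [], [], [],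
    [], [2], [], [4, 0, 2, 4], [], [], [], [4, 0, 1], [], [], [], [], [], [], [], [], [1], [], [], [], [], [], [], [], [2, 4, 0, 4, 2], [0, 1, 0],
    [2, 0, 2, 4], [4], [], [], [], [4], [], [], [], [4, 2], [], [], [2, 4, 0, 2], [2, 0, 1, 0, 2], [], [], [], [], [], [2, 0, 2, 4, 0], [], [], [],
    [], [], [], [], [], [], [], [], [], [], [], [], [], [], [], [], [], [], [2, 4, 0, 4, 2, 0], [], [4, 0], [1], [], [], [], [], [], [], [], [2, 4,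
    0, 2, 1, 0], [], [], [2, 4], [], [], [], [], [4], [4, 1], [1, 0, 1, 0], [2, 0, 2, 4], [4], [], [4, 4], [4, 1], [4, 1], [4, 1], [], [1, 0, 1, 0],
    [], [], [], [4, 4], [], [], [2, 1, 0, 2, 4], [], [], [], [], [], [], [], [], [], [], [], [], [], [], [], [], [], [], [], [], [], [], [4, 0, 2, 1,
    0, 2], [], [2, 4, 0, 1], [2, 1, 0, 1, 0], [], [], [], [4, 0, 4], [], [], [], [], [], [], [], [], [2, 4, 0], [2], [], [], [], [], [], [4, 0, 4],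
    [], [], [1, 4, 0], [], [4, 0, 1], [4, 0], [], [], [], [], [], [], [0, 2, 4, 0, 2, 0], [], [4, 0, 1], [4], [], [], [], [4, 1], [4, 1], [2], [],
    [2, 1], [], [], [], [], [], [], [], [], [], [], [], [4, 2, 0, 2, 0], [0, 2, 0, 1, 0, 2, 0], [], [], [], [], [], [], [], [], [], [4, 0], [0, 1,
    0], [], [], [2, 1, 0, 2, 4], [], [], [], [], [], [], [], [], [], [], [], [], [], [], [], [], [], [2, 4, 0, 1], [2, 1, 0, 1, 0], [2, 1], [2, 1],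
    [], [], [4, 1], [], [0, 4, 0, 2], [], [], [], [], [], [], [], [], [], [], [1], [2], [2], [], [2], [], [4, 0, 2, 4], [], [], [], [], [], [], [],
    [], [], [4, 0, 1], [1], [0], [], [], [], [], [2, 0, 1, 0], [1, 0, 1, 0], [], [2, 4, 0, 4], [0, 1, 0], [4, 0, 4], [], [], [], [], [4, 1], [2, 4,
    0, 2, 1], [2], [], [2, 4, 0, 2], [], [], [], [], [2], [], [2, 1, 0, 2, 1], [4, 0, 4, 2, 0], [], [], [], [2, 0, 2, 0, 4, 0], [0, 4, 2], [], [],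
    [], [1, 0, 2, 4], [], [], [], [], [], [], [], [0, 2], [], [0, 4, 4], [], [], [1, 4], [], [], [2, 4, 0, 2, 0, 1], [2, 1, 0, 2, 4, 0], [], [0, 2,
    0, 4, 0, 2], [], [2, 0, 2], [], [], [], [4, 0], [0, 1, 0], [1, 0, 2, 4], [], [], [], [], [], [0, 1, 0], [], [], [], [2, 1, 0, 2, 4], [1, 4, 0, 2,
    0, 1], [4, 0, 4, 2, 0, 1], [], [], [], [], [], [], [], [4, 2], [2, 1], [], [], [], [], [0, 1, 0, 2], [0, 1, 0, 2], [], [], [], [], [], [], [4, 0,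
    2, 1, 0], [], [], [4, 0, 4], [], [], [2, 4, 0], [], [2], [2], [], [4, 0, 2, 4], [4, 0, 2, 4], [], [], [], [], [], [], [], [1, 0, 1, 0], [], [],
    [], [], [], [], [], [], [], [4, 0], [0, 1], [], [], [], [], [], [], [], [2, 0, 1, 0], [], [1], [], [], [1, 0, 1, 0], [], [], [4, 2, 1, 0], [2, 1,
    0, 1, 0], [], [2, 4, 0, 2, 1], [], [], [], [], [2, 0, 1, 0, 2], [], [4, 2, 0, 2, 1], [4, 2, 0, 2], [], [2, 0, 2], [0, 1, 0, 2], [], [0, 4, 2, 1],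
    [2], [1, 0, 2, 4], [1, 0, 1, 0], [4, 0, 2, 4, 0, 1, 0], [2], [], [], [], [2, 1], [], [], [], [], [], [], [1, 0, 2, 1, 0, 1], [0, 4, 2, 1], [],
    [], [], [], [], [1, 4], [], [], [2, 1, 0, 2, 4], [], [2, 0, 2, 4, 0, 1, 0], [], [2, 0, 2], [0, 4, 4], [0, 4, 2, 0, 2, 0], [], [1, 4], [], [1, 0,
    2, 4, 0, 1, 0], [], [], [], [], [2, 4, 0, 2, 4], [], [], [], [0, 1, 0], [0, 2, 1, 0, 2, 0], [], [], [], [], [], [0, 2, 0, 4, 0, 2], [], [4, 2, 0,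
    2], [1, 4, 0, 2, 0, 1], [], [], [2, 1, 0, 2, 4], [1, 4, 0, 2, 0, 1], [4, 0, 4, 2, 0, 1], [], [], [], [], [4, 2], [], [], [], [], [2], [], [4, 1],
    [0, 1, 0, 2], [], [], [0, 2, 1, 0, 2, 4], [], [], [], [4, 4, 0, 2, 0], [], [], [2, 0, 2, 0, 4, 0], [2, 4, 0, 2, 4], [0, 2, 0], [], [4, 0, 4, 2,
    0], [1, 0, 2, 1, 0, 1], [4, 0, 1], [], [], [], [4, 0, 1, 0], [], [], [1, 0, 1, 0], [], [], [], [1, 4], [], [], [], [1], [1], [], [4, 4], [], [],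
    [1, 0, 2, 1, 0, 1], [4, 0, 2, 4], [], [0, 2, 0], [], [], [], [0], [0, 2, 4], [], [4], [], [4, 0, 4], [1, 4, 0], [2, 0, 2, 4], [4, 0, 2, 0, 1, 0],
    [2, 0, 2, 4, 0, 2], [], [], [], [], [], [], [], [], [0, 1], [1, 0, 1, 0], [4, 0, 1], [], [4, 2, 1, 0], [0], [], [], [], [], [0, 2], [], [0, 2,
    1], [], [2, 0, 4, 2, 1], [1, 4, 0, 2, 0, 1], [4, 0, 2, 4], [1, 0, 2, 4, 0, 1, 0], [2], [2, 4, 0, 2, 1], [], [2], [], [], [2, 1], [2, 4, 1], [],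
    [2, 4, 0, 2], [], [], [], [], [4, 0, 4, 2, 0, 1], [], [], [], [0, 2], [2], [4, 0, 1, 0], [], [], [], [], [4, 4, 0, 2, 0, 1], [1, 4], [], [0, 2,
    4, 0, 1], [2], [2, 4, 0], [2, 1, 0, 2, 4], [4, 0, 2], [2, 0, 2, 4, 1, 0], [2, 0, 2, 4, 0, 1, 0], [2, 0, 2, 4, 0, 1, 0], [1, 0, 2, 1, 0, 1], [2,
    1, 0, 2, 1], [1, 0, 2, 4, 0, 2], [1, 0, 2, 4, 0, 1], [1, 4], [2, 1], [1, 0, 2, 4], [4, 0, 2, 4, 0, 1, 0], [4, 0, 2, 4, 0, 1, 0], [], [0, 2, 0, 4,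
    2], [2, 0, 2, 4, 0, 1, 0], [0, 2, 0, 4, 0, 2], [0, 2, 0, 1], [], [0, 4, 4], [0, 2, 1, 0, 2, 0], [0, 2, 4, 0, 1], [0, 4, 2, 1], [], [], [4, 0, 2,
    1, 0, 1], [2, 1, 0, 2], [0, 2, 4, 0, 1], [0, 2, 0, 4, 0, 2], [1, 4, 0, 2, 0, 1], [2, 1, 0, 2, 4], [4, 0, 2, 0, 1], [], [], [0, 1, 0], [1, 0, 1],
    [0, 2, 1], [], [], [], [0, 4, 4], [], [], [], [], [], [4, 0, 2, 1, 0], [], [], [], [], [], [0, 2, 1, 0], [2, 0, 2], [4, 0, 2, 1, 0], [4, 0, 2, 4,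
    0], [], [], [2, 4, 0, 2, 1], [1], [2, 0, 2, 4], [], [2, 1, 0, 2, 4], [0, 2, 0], [1], [], [], [4, 1, 0], [], [1, 4], [], [1], [], [4, 4], [4, 4],
    [2, 0, 2, 4, 0, 1, 0], [0, 2], [], [1, 0, 2, 0, 4, 4], [0, 2, 4], [0], [], [], [], [1, 0, 2, 1, 0, 1, 0], [2, 0, 2, 4], [4, 0, 2, 0, 1, 0], [2,
    0, 2, 4, 0, 2], [], [], [], [], [1, 4, 0, 2, 0, 1], [], [], [0, 4], [], [1, 0, 1, 0], [0, 1], [0, 2, 0, 1, 0, 2, 0], [], [], [], [4, 0, 2, 1],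
    [], [], [], [0, 2], [2], [], [0, 2, 1, 0, 2, 4], [2, 4, 0, 2, 1], [2, 4, 0, 2, 1], [2], [2], [], [2, 4, 0, 2, 1], [], [2, 1], [2, 1], [2, 4, 0,
    2, 1], [], [], [0, 2, 1, 0, 2, 4], [1, 0, 2, 0], [], [], [2, 0, 2, 4, 1, 0], [2], [4, 2, 1], [2, 4, 1], [], [2, 4, 0, 4, 2], [], [0, 4, 4], [],
    [0, 2, 4, 0, 1], [0, 2, 0, 4], [], [2, 0, 4, 0, 2, 0], [2, 0, 4, 0, 2, 0], [4, 4, 0, 2, 0, 1], [1, 4], [2, 4, 0], [1, 0, 2, 4], [4, 0, 2, 4, 0,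
    1, 0], [2, 1], [], [2, 0, 4, 0, 2, 0], [], [0, 2, 1, 0, 1], [4, 0, 2, 1], [], [0, 2, 4, 0, 4], [0, 4, 2, 1], [0, 2, 0], [1, 0, 2, 1, 0, 1], [4,
    0, 2, 1, 0, 1], [0, 2, 0, 4, 0, 2], [2, 4, 0, 2, 4], [4, 0, 2, 1, 0, 2], [1], [0, 1], [], [], [0, 1, 0, 2], [], [], [], [], [4, 0, 2, 1, 0], [2,
    1], [], [], [], [], [4, 0, 2, 0, 1, 4], [1, 0, 2, 1, 0], [4, 0, 4, 2, 0], [2, 1, 0, 2, 1], [], [], [], [0, 2, 0], [1, 4], [1, 0, 2, 1, 0, 1], [4,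
    4], [2, 1, 0, 2, 1], [2, 1, 0, 2, 4, 0], [2, 0, 4, 2, 1, 0], [0, 2, 4, 0, 1, 0], [1, 0, 2, 0, 1, 0], [4, 0, 2, 0, 4, 4], [0, 2, 0, 1, 0], [2, 1,
    0, 2, 4, 0], [4, 0, 2, 0, 1, 0], [], [2, 0, 4, 0, 2, 0], [0, 1, 0], [0, 4, 0, 2], [], [1, 0, 1, 0], [1, 0, 1, 0], [2, 0, 2, 0], [2, 4, 0, 1, 0],
    [], [], [], [], [0, 2, 0], [4, 2, 0, 2, 0, 1], [2], [2, 4], [4, 2, 1], [2, 0, 2, 0], [], [0], [2, 4, 1], [2, 1], [2, 1, 0, 2, 0], [0, 2, 0, 4],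
    [4, 0, 2, 1], [2, 0, 2, 4, 0], [2, 0, 4, 0, 2, 0], [4, 0, 4, 2, 0], [0, 2, 0, 1], [4, 0, 2, 4], [0, 2, 4, 0, 1], [2, 1, 0, 2, 1], [0, 2, 0], [0,
    2, 0, 4, 0, 2], [0, 2, 1], [4, 0, 1, 0], [], [2, 1, 0, 1, 0], [2], [], [2, 1], [2, 1], [0, 2, 4, 0, 4, 2, 0], [], [], [2, 1], [], [4, 0, 2, 0],
    [4, 0, 2, 4, 0], [0, 2, 0, 4, 4], [0, 2, 1, 0, 1, 0], [2, 0, 2, 4, 1], [4, 0, 2, 1, 0], [1, 0, 1, 0], [2, 0, 1, 0], [2, 4, 0, 1, 0], [2, 1, 0, 2,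
    1, 0], [0], [0, 2, 4, 0], [2, 4], [2, 1]]

def e3_e8 : List Wd :=
    [[], [], [], [], [], [], [], [], [], [], [], [], [], [], [], [], [2, 0, 1, 0, 2], [], [], [], [], [], [], [], [], [], [], [], [2, 4, 0, 2], [],
    [], [], [], [], [2, 0, 1, 0, 2], [], [], [], [2, 0, 2, 4], [], [], [], [], [], [], [], [], [], [], [], [2, 4, 0, 2, 4], [2, 4, 0, 2, 4], [], [],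
    [], [], [], [], [], [2, 4, 0, 2], [], [], [], [2, 0, 1, 0, 2], [2, 0, 1, 0, 2], [], [], [], [], [], [], [2, 0, 2, 4], [2, 0, 1, 0, 2], [2, 0, 1,
    0, 2], [], [], [], [2, 0, 1, 0, 2], [2, 0, 1, 0, 2], [], [], [], [], [], [4, 0, 1, 0], [], [2, 4, 0, 2, 4], [], [], [2, 0, 2, 4], [], [], [1],
    [], [], [], [], [], [], [2, 4, 0, 2, 4], [2, 4, 0, 2, 4], [4, 0], [], [], [], [], [2, 4, 0, 2], [], [], [], [], [4, 1], [], [], [], [4, 1], [],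
    [2, 0, 2, 4], [], [2, 0, 1, 0, 2], [], [2, 4, 0, 2], [], [], [], [], [], [0, 1, 0], [0, 1, 0], [], [], [], [2, 0, 2, 0, 4, 0], [], [], [2, 4, 0,
    2, 4], [], [], [], [], [2, 4, 0, 2], [], [], [], [], [4, 0, 1], [], [], [], [], [], [], [], [], [], [], [4, 1], [], [], [2, 4, 0, 2, 4], [2, 4,
    0, 2, 4], [0, 2, 4, 0, 2, 0], [], [], [], [], [], [], [], [4, 1], [], [0, 2, 4, 0, 2, 0], [], [], [4, 1], [], [], [], [], [], [], [2, 0, 1, 0,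
    2], [], [4, 0], [], [], [], [0, 4, 4], [0, 2, 0, 1, 0, 2, 0], [2, 0, 2, 4], [0, 2, 0, 1, 0, 2, 0], [], [4, 0, 1, 0], [], [0, 2, 0, 1, 0, 2, 0],
    [], [], [0, 1, 0], [0, 1, 0], [], [], [], [], [], [], [], [], [], [], [], [], [], [1], [], [], [], [], [0, 1, 0], [0, 1, 0], [], [], [], [], [2,
    0, 2, 0, 4, 0], [], [], [], [1], [], [], [], [], [], [], [], [1], [], [], [1], [], [], [], [], [], [4], [], [0, 2, 0, 1, 0, 2, 0], [], [], [4,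
    1], [], [4, 1], [], [], [4, 1], [], [], [], [], [], [1, 0], [2, 4, 0, 2, 1], [], [], [4, 4, 0], [2, 1, 0, 2, 4], [0, 2, 4, 0, 2], [], [0, 2, 0,
    1, 0, 2, 0], [], [0, 1, 0], [0, 1, 0], [], [0, 2, 0, 4, 0, 2], [], [4, 0], [], [], [], [0, 4, 4], [], [0, 1, 0], [], [], [], [1, 0, 1], [0, 4],
    [], [0, 1, 0], [0, 1, 0], [], [], [], [], [], [], [], [], [], [4, 4], [], [], [], [], [], [], [0, 2, 4, 0, 2, 0], [], [], [], [0, 2, 0, 1, 0, 2,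
    0], [0, 2, 0, 1, 0, 2, 0], [], [2, 0, 2, 0, 4, 0], [0, 2, 0, 1, 0, 2, 0], [0, 2, 0, 1, 0, 2, 0], [], [0, 1, 0], [0, 1, 0], [], [], [], [], [2, 4,
    0, 4, 2, 0], [], [0, 1, 0], [0, 1, 0], [], [], [], [], [], [], [], [], [], [], [], [], [], [], [], [], [], [4, 4, 0, 2], [], [], [], [], [], [],
    [4, 1], [4, 1], [], [4], [], [], [], [1], [1], [], [1], [0], [1, 0], [1, 0], [], [], [], [], [1, 4], [], [], [2, 0, 2, 4], [2, 0, 2, 4, 0], [2,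
    0, 2, 4, 0], [], [0, 2, 0, 1, 0, 2, 0], [4, 0, 2, 4], [], [], [], [], [], [], [], [], [], [1, 4], [], [], [], [0, 1, 0], [], [2, 4, 0, 4], [0, 2,
    4, 0, 2, 0], [4, 0], [], [], [], [0, 4, 4], [], [0, 1, 0], [], [], [], [], [], [], [], [], [], [], [], [], [], [], [0, 1, 0], [0, 1, 0], [], [],
    [], [], [], [], [], [], [4, 1], [], [], [4, 1], [], [4, 2, 0, 2, 1], [], [], [0], [], [], [], [], [0, 1, 0], [0, 1, 0], [], [], [], [], [], [],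
    [0, 2, 0, 1, 0, 2, 0], [0, 2, 0, 1, 0, 2, 0], [], [0, 2, 0, 1, 0, 2, 0], [0, 2, 0, 1, 0, 2, 0], [], [], [0, 1, 0], [0, 1, 0], [], [], [], [1, 0,
    1, 0], [0, 1, 0], [0, 1, 0], [], [], [], [0, 2, 0], [], [], [], [], [], [], [], [], [], [], [], [], [], [0, 1], [0, 1], [], [4, 0, 2, 1, 0, 1],
    [], [], [2, 1, 0, 1, 0], [], [2, 1], [], [4], [], [1], [], [], [4, 4], [0, 1, 0, 2], [2, 0, 2, 0, 4, 0], [2, 4, 0, 2], [], [1, 4, 0], [1, 4], [2,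
    0, 2, 4], [2, 0, 4, 2, 1], [2, 0, 4, 2, 1], [], [1, 0, 2, 4, 0, 1, 0], [], [], [], [], [], [], [], [], [], [], [], [], [], [], [2, 0, 1, 0, 2],
    [], [1, 4], [4, 4, 0, 2, 0, 1], [], [], [], [], [], [], [], [], [1, 4], [], [], [], [0, 1, 0], [], [0], [], [], [1, 0, 1, 0], [1], [], [0, 1, 0],
    [0, 1, 0], [], [0, 2, 4, 0, 1, 0], [0, 4, 4], [], [0, 1, 4], [], [], [2, 4, 0, 1, 0], [0], [], [4, 0, 1, 0], [1, 0, 1, 0], [1, 0, 1, 0], [], [],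
    [0, 1, 0], [0, 1, 0], [], [], [], [], [], [], [], [4, 1], [], [2, 0, 1, 0, 2], [], [1, 0, 2, 1, 0, 1], [4, 2, 0, 2, 1], [], [], [1, 0, 1, 0], [4,
    0, 2, 1, 0], [1, 4, 0], [], [1], [0, 2, 0], [2, 4, 0, 4, 2, 0], [4, 0, 1], [4, 0, 2, 0], [], [1, 0, 1, 0], [1, 0, 1, 0], [], [], [], [], [2, 0],
    [2, 4, 0, 1, 0], [1, 0, 2, 0], [], [], [], [4, 0, 2, 1, 0, 2], [0, 2, 1, 0], [], [1, 0, 1, 0], [1, 0, 1, 0], [], [0, 2, 0, 4, 0], [], [1, 0, 2,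
    4, 0, 1], [0, 4, 4], [1, 0, 1, 0], [1, 0, 1, 0], [], [1, 0, 2, 4], [0, 1, 0], [], [0, 2, 0], [1, 0, 2, 1, 0, 1, 0], [0, 2, 0, 1, 0], [], [0], [],
    [1, 0, 2, 4, 0], [], [], [], [0], [4, 0], [4, 0], [], [], [], [], [], [1], [0, 2, 4, 0, 2, 0], [1], [], [], [1, 0, 2, 0, 4], [], [], [2, 1, 0, 1,
    0], [], [], [4, 0, 2, 1], [], [1], [0, 2], [], [], [1, 0, 2, 4, 0, 2], [0, 2, 4, 0, 2], [0, 1, 4], [], [], [], [], [], [], [], [2, 0, 2, 4, 0, 1,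
    0], [2, 0, 4, 0, 2, 0], [], [4, 0, 1], [0, 2, 4, 0, 2, 0], [0, 2, 4, 0, 2, 0], [], [], [], [], [4, 0, 2, 1, 0, 2], [0, 2, 0, 1], [], [], [], [],
    [], [], [1, 4], [], [], [2, 0, 1], [2, 1, 0, 2, 4], [0, 2, 1, 0, 2, 4], [2, 0, 2, 0, 4, 0], [], [0, 2, 0, 4, 0, 2], [], [], [], [], [1, 4], [4,
    4, 0, 2, 0, 1], [], [], [], [], [], [1, 0, 2, 4], [], [4, 0], [], [], [], [1, 4], [], [], [], [4, 1, 0], [4, 0, 1, 0], [1, 0, 2, 1, 0, 1], [],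
    [4, 0, 2, 4, 0, 1], [1, 0, 2, 0], [0], [], [], [0, 1, 0], [], [4, 0, 2, 1, 0, 2], [], [1, 0, 1, 0], [], [], [2, 4, 0, 2], [], [4, 4], [4, 1], [2,
    0], [2, 0, 1, 0, 2], [2, 0, 4, 0, 2], [], [], [1], [], [], [], [1], [1, 0, 2, 0, 4], [4, 1], [0, 4, 4], [0, 4, 4], [], [2, 1, 0, 1], [0, 1, 0],
    [0, 1, 0], [], [2, 1, 0, 2, 4], [1, 0, 1, 0], [4, 4, 0, 2, 0, 1], [0, 2, 4, 0, 4, 2], [], [0, 2, 4, 0, 4, 2], [], [2, 4, 0, 1, 0], [2, 0, 2, 4,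
    0, 1], [1, 0, 2, 0], [1], [2, 4, 0, 4, 2, 0], [], [2, 4, 0, 4, 2, 0], [0, 2, 4, 0, 2, 0], [4, 4, 0, 2], [0, 1, 0], [4, 0, 2, 1, 0, 2], [4, 1],
    [], [4], [1, 4, 0], [], [], [0], [], [1, 0], [], [1, 0, 1, 0], [0, 1, 0], [0, 1, 0], [2, 4, 0, 2, 1], [0, 2, 0], [0, 2, 4, 0, 2, 0], [], [4, 0,
    1], [2, 4, 0, 2, 1, 0], [], [2], [2, 0, 2, 0, 4, 0], [2, 0, 2, 0, 4, 0], [], [4, 0, 4, 2, 0, 1], [], [], [], [], [0, 4, 2], [0, 2, 4, 0, 2], [],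
    [2, 1, 0, 2, 1], [4], [2, 0, 2, 4], [2, 0, 1, 0, 2], [], [4], [2, 4, 0, 2, 1], [2, 0, 4, 0, 2, 0], [4, 0, 2, 1, 0, 1], [], [0, 2, 0, 4, 0, 2],
    [2, 0, 4, 0, 2, 0], [], [2, 4, 0, 4, 2], [2, 4, 0, 4, 2], [0, 2, 1, 0], [1], [2, 1, 0, 2], [4, 2, 0, 2], [4, 2, 0, 2], [], [2, 1, 0, 2, 1], [2,
    4, 0, 4, 2], [0, 2, 1, 0, 2, 0], [2, 0, 4, 4], [2, 4, 0, 4, 2], [], [0, 2, 0, 4], [], [0, 2, 0, 1], [], [], [4, 0, 2, 4], [], [1, 0, 1, 0], [2,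
    0, 2, 4, 0], [], [], [4, 1], [], [2, 1, 0, 2, 1], [1, 4], [], [], [2, 0, 4, 0, 2, 0], [], [], [0], [], [], [2, 0, 4, 2], [2, 0, 4, 2], [2, 0, 2,
    1], [0, 2, 0], [], [2, 0, 1, 0, 2], [], [0], [4, 0, 4, 2, 0], [], [0, 4, 2, 1, 0], [2, 0, 4, 0, 2], [2, 0, 4, 0, 2], [], [0, 2, 1, 0, 1], [0, 2,
    0, 4, 0], [2, 0, 2, 4, 0], [2, 0, 2, 4, 0], [2, 0, 2, 0, 4, 0], [], [4, 0, 4, 2, 0, 1], [1], [], [0, 2, 4, 0, 4, 2], [0, 2, 0, 4], [2, 0, 2, 4,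
    1, 0], [], [2, 4, 0, 2, 1], [4, 1], [], [2, 0, 2, 0, 1, 0], [], [], [0], [0], [0, 2, 4, 0, 2], [], [0, 2, 0, 4, 2, 0], [1, 0, 1, 0], [], [2, 0,
    1, 0, 2], [], [1, 0, 2, 1, 0, 1], [4, 0, 2], [2, 0, 2, 4, 0, 1, 0], [4, 0, 2], [], [4, 0, 4, 2, 0, 1], [2, 0], [1, 0, 2], [1, 0, 2, 0, 4], [2, 0,
    2, 4], [2, 0, 4, 0, 2, 0], [], [2, 1, 0, 2, 4, 0], [0, 2, 0, 4, 0], [4, 2, 0, 2, 0], [1, 4, 0, 2, 0, 1], [4, 2, 1, 0, 2, 0], [], [0, 2, 1, 0, 2,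
    4], [], [], [0, 2, 0, 4, 0, 2], [], [0, 2, 1, 0, 2, 0], [], [4, 1], [], [0], [2, 0, 1], [2, 0, 1, 0, 2], [4, 4], [4, 0, 2, 4, 0, 2], [1, 0, 2, 1,
    0, 1], [2, 0, 4, 0, 2], [2, 0, 1, 0, 2], [4, 0, 2, 0, 1, 4], [4, 0, 2, 0, 1], [4, 0, 4, 2, 0], [2, 0, 1, 0, 2], [0, 2, 1, 0], [1, 0, 2, 4, 0, 1,
    0], [], [1, 0, 2, 0, 1, 4], [0, 2, 0, 4, 0, 2], [4, 0, 2, 4, 0, 2], [0], [2, 0, 2, 0, 1, 0], [2, 0, 1, 0, 2], [2, 0, 1, 0, 2], [0, 4, 2, 1, 0],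
    [1, 0, 2, 0, 1], [0, 2], [4, 4, 0], [2, 4, 0, 2, 4], [2, 4, 0, 4, 2, 0]]

def e3_fin : Cb :=
    [(1, [], 0), (1, [7, 7], 0), (1, [7, 7, 7], 0), (1, [8, 7, 7], 0), (1, [7, 8, 7], 0), (1, [8, 8, 7], 0), (1, [8, 7, 7, 7], 0), (1, [8, 8, 7, 7],
    0), (1, [7, 7, 8, 7], 0), (1, [7, 8, 8, 7], 0), (1, [7, 7, 8, 7, 7], 0), (1, [7, 8, 8, 7, 7], 0), (1, [8, 8, 7, 8, 7], 0), (1, [7, 7, 8, 8, 7],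
    0), (1, [8, 7, 8, 8, 7], 0), (1, [7, 7, 7, 7, 7, 7], 0), (1, [7, 7, 7, 8, 7, 7], 0), (1, [8, 7, 8, 8, 7, 7], 0), (1, [7, 7, 7, 7, 8, 7], 0), (1,
    [7, 8, 7, 7, 8, 7], 0), (1, [7, 8, 8, 7, 8, 7], 0), (1, [8, 8, 7, 8, 8, 7], 0), (1, [7, 7, 7, 7, 7, 7, 7], 0), (1, [7, 7, 7, 7, 8, 7, 7], 0), (1,
    [7, 7, 7, 8, 8, 7, 7], 0), (1, [8, 7, 7, 8, 8, 7, 7], 0), (1, [7, 7, 7, 7, 7, 8, 7], 0), (1, [8, 7, 8, 8, 7, 8, 7], 0), (1, [7, 8, 7, 7, 8, 8,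
    7], 0), (1, [7, 7, 8, 7, 8, 8, 7], 0), (1, [7, 7, 7, 7, 7, 7, 7, 7], 0), (1, [7, 7, 8, 7, 8, 7, 7, 7], 0), (1, [7, 7, 7, 7, 7, 8, 7, 7], 0), (1,
    [7, 7, 7, 7, 8, 8, 7, 7], 0), (1, [7, 8, 7, 7, 8, 8, 7, 7], 0), (1, [8, 8, 7, 7, 8, 8, 7, 7], 0), (1, [7, 7, 7, 8, 7, 7, 8, 7], 0), (1, [8, 8, 7,
    8, 8, 7, 8, 7], 0), (1, [7, 7, 7, 7, 7, 8, 8, 7], 0), (1, [7, 7, 7, 8, 7, 8, 8, 7], 0), (1, [7, 7, 8, 8, 7, 8, 8, 7], 0), (1, [8, 7, 8, 8, 7, 8,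
    8, 7], 0), (1, [8, 7, 7, 8, 7, 8, 7, 7, 7], 0), (1, [7, 8, 7, 7, 7, 7, 8, 7, 7], 0), (1, [8, 7, 8, 7, 7, 8, 8, 7, 7], 0), (1, [8, 7, 7, 7, 7, 7,
    7, 8, 7], 0), (1, [7, 7, 7, 7, 8, 7, 7, 8, 7], 0), (1, [8, 7, 7, 7, 8, 7, 7, 8, 7], 0), (1, [7, 7, 7, 7, 8, 8, 7, 8, 7], 0), (1, [7, 8, 8, 7, 8,
    8, 7, 8, 7], 0), (1, [7, 7, 7, 7, 7, 7, 8, 8, 7], 0), (1, [7, 7, 7, 8, 7, 7, 8, 8, 7], 0), (1, [7, 7, 7, 8, 8, 7, 8, 8, 7], 0), (1, [8, 8, 7, 8,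
    8, 7, 8, 8, 7], 0), (1, [8, 7, 7, 7, 8, 7, 8, 7, 7, 7], 0), (1, [7, 8, 7, 7, 8, 7, 8, 7, 7, 7], 0), (1, [7, 7, 8, 7, 7, 7, 7, 8, 7, 7], 0), (1,
    [7, 7, 7, 7, 7, 7, 8, 8, 7, 7], 0), (1, [8, 8, 7, 7, 7, 7, 8, 8, 7, 7], 0), (1, [7, 7, 7, 8, 7, 7, 8, 8, 7, 7], 0), (1, [8, 7, 7, 8, 7, 7, 8, 8,
    7, 7], 0), (1, [7, 8, 7, 8, 7, 7, 8, 8, 7, 7], 0), (1, [8, 8, 7, 8, 7, 7, 8, 8, 7, 7], 0), (1, [7, 7, 7, 7, 8, 7, 8, 8, 7, 7], 0), (1, [8, 7, 7,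
    7, 8, 7, 8, 8, 7, 7], 0), (1, [8, 7, 7, 8, 8, 7, 8, 8, 7, 7], 0), (1, [8, 8, 7, 8, 8, 7, 8, 8, 7, 7], 0), (1, [7, 8, 7, 7, 7, 8, 7, 7, 8, 7], 0),
    (1, [8, 8, 7, 7, 7, 8, 7, 7, 8, 7], 0), (1, [8, 7, 7, 7, 7, 8, 8, 7, 8, 7], 0), (1, [8, 7, 7, 7, 7, 7, 7, 8, 8, 7], 0), (1, [7, 8, 7, 7, 7, 7, 7,
    8, 8, 7], 0), (1, [8, 8, 7, 7, 7, 7, 7, 8, 8, 7], 0), (1, [8, 7, 7, 7, 8, 7, 7, 8, 8, 7], 0), (1, [7, 7, 7, 7, 7, 8, 7, 8, 8, 7], 0), (1, [7, 7,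
    7, 7, 7, 7, 7, 7, 8, 7, 7], 0), (1, [7, 7, 8, 8, 7, 7, 7, 7, 8, 7, 7], 0), (1, [7, 8, 7, 7, 7, 7, 7, 8, 8, 7, 7], 0), (1, [7, 7, 8, 7, 7, 7, 7,
    8, 8, 7, 7], 0), (1, [7, 8, 8, 7, 7, 7, 7, 8, 8, 7, 7], 0), (1, [7, 7, 7, 7, 8, 7, 7, 8, 8, 7, 7], 0), (1, [8, 7, 7, 7, 8, 7, 7, 8, 8, 7, 7], 0),
    (1, [7, 8, 7, 7, 8, 7, 7, 8, 8, 7, 7], 0), (1, [8, 8, 7, 7, 8, 7, 7, 8, 8, 7, 7], 0), (1, [7, 7, 8, 7, 8, 7, 7, 8, 8, 7, 7], 0), (1, [7, 8, 8, 7,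
    8, 7, 7, 8, 8, 7, 7], 0), (1, [7, 7, 7, 7, 7, 8, 7, 8, 8, 7, 7], 0), (1, [8, 7, 7, 7, 7, 8, 7, 8, 8, 7, 7], 0), (1, [7, 8, 7, 7, 7, 8, 7, 8, 8,
    7, 7], 0), (1, [8, 8, 7, 7, 7, 8, 7, 8, 8, 7, 7], 0), (1, [7, 7, 7, 7, 8, 8, 7, 8, 8, 7, 7], 0), (1, [7, 8, 7, 7, 8, 8, 7, 8, 8, 7, 7], 0), (1,
    [8, 7, 7, 8, 7, 7, 7, 7, 7, 8, 7], 0), (1, [7, 7, 8, 7, 7, 7, 8, 7, 7, 8, 7], 0), (1, [7, 8, 8, 7, 7, 7, 8, 7, 7, 8, 7], 0), (1, [8, 8, 7, 7, 7,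
    7, 8, 8, 7, 8, 7], 0), (1, [7, 8, 8, 7, 7, 7, 7, 7, 8, 8, 7], 0), (1, [7, 7, 7, 7, 7, 8, 7, 7, 8, 8, 7], 0), (1, [8, 7, 7, 7, 7, 8, 7, 7, 8, 8,
    7], 0), (1, [8, 8, 7, 7, 7, 8, 7, 7, 8, 8, 7], 0), (1, [7, 7, 7, 7, 7, 7, 8, 7, 8, 8, 7], 0), (1, [8, 8, 7, 7, 7, 7, 8, 7, 8, 8, 7], 0), (1, [7,
    7, 7, 7, 7, 8, 8, 7, 8, 8, 7], 0), (1, [8, 7, 7, 7, 7, 8, 8, 7, 8, 8, 7], 0), (1, [8, 7, 7, 8, 7, 7, 8, 7, 8, 7, 7, 7], 0), (1, [7, 7, 7, 8, 7,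
    7, 7, 7, 7, 8, 7, 7], 0), (1, [7, 7, 7, 8, 8, 7, 7, 7, 7, 8, 7, 7], 0), (1, [7, 8, 7, 8, 8, 7, 7, 7, 7, 8, 7, 7], 0), (1, [8, 8, 7, 8, 8, 7, 7,
    7, 7, 8, 7, 7], 0), (1, [8, 7, 8, 8, 7, 7, 7, 7, 8, 8, 7, 7], 0), (1, [7, 8, 7, 7, 7, 8, 7, 7, 8, 8, 7, 7], 0), (1, [8, 8, 7, 7, 7, 8, 7, 7, 8,
    8, 7, 7], 0), (1, [8, 7, 8, 7, 7, 8, 7, 7, 8, 8, 7, 7], 0), (1, [7, 8, 8, 7, 7, 8, 7, 7, 8, 8, 7, 7], 0), (1, [8, 7, 7, 8, 7, 8, 7, 7, 8, 8, 7,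
    7], 0), (1, [7, 8, 7, 8, 7, 8, 7, 7, 8, 8, 7, 7], 0), (1, [7, 8, 8, 7, 7, 7, 8, 7, 8, 8, 7, 7], 0), (1, [7, 7, 7, 7, 7, 8, 8, 7, 8, 8, 7, 7], 0),
    (1, [8, 8, 7, 7, 7, 8, 8, 7, 8, 8, 7, 7], 0), (1, [7, 7, 8, 7, 7, 8, 8, 7, 8, 8, 7, 7], 0), (1, [8, 7, 8, 7, 7, 8, 8, 7, 8, 8, 7, 7], 0), (1, [8,
    7, 7, 8, 7, 7, 7, 8, 7, 7, 8, 7], 0), (1, [7, 8, 8, 7, 7, 7, 7, 8, 8, 7, 8, 7], 0), (1, [7, 7, 8, 8, 7, 7, 7, 7, 7, 8, 8, 7], 0), (1, [7, 8, 7,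
    7, 7, 7, 8, 7, 7, 8, 8, 7], 0), (1, [7, 7, 8, 7, 7, 7, 8, 7, 7, 8, 8, 7], 0), (1, [7, 8, 8, 7, 7, 7, 8, 7, 7, 8, 8, 7], 0), (1, [7, 7, 8, 7, 7,
    7, 7, 8, 7, 8, 8, 7], 0), (1, [7, 7, 7, 7, 7, 7, 8, 8, 7, 8, 8, 7], 0), (1, [8, 8, 7, 8, 8, 7, 8, 8, 7, 8, 8, 7], 0), (1, [7, 7, 8, 7, 7, 8, 7,
    7, 7, 7, 8, 7, 7], 0), (1, [8, 7, 7, 7, 8, 8, 7, 7, 7, 7, 8, 7, 7], 0), (1, [7, 8, 7, 7, 8, 8, 7, 7, 7, 7, 8, 7, 7], 0), (1, [7, 8, 7, 8, 7, 7,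
    8, 7, 7, 8, 8, 7, 7], 0), (1, [7, 7, 8, 8, 7, 7, 8, 7, 7, 8, 8, 7, 7], 0), (1, [7, 8, 7, 7, 8, 7, 8, 7, 7, 8, 8, 7, 7], 0), (1, [7, 7, 8, 7, 8,
    7, 8, 7, 7, 8, 8, 7, 7], 0), (1, [7, 8, 8, 7, 8, 7, 8, 7, 7, 8, 8, 7, 7], 0), (1, [7, 7, 7, 8, 7, 7, 8, 8, 7, 8, 8, 7, 7], 0), (1, [7, 8, 7, 8,
    7, 7, 8, 8, 7, 8, 8, 7, 7], 0), (1, [8, 8, 7, 8, 7, 7, 8, 8, 7, 8, 8, 7, 7], 0), (1, [7, 7, 8, 8, 7, 7, 8, 8, 7, 8, 8, 7, 7], 0), (1, [7, 8, 7,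
    7, 7, 7, 7, 7, 8, 7, 7, 8, 7], 0), (1, [8, 8, 7, 7, 7, 7, 7, 7, 8, 7, 7, 8, 7], 0), (1, [7, 7, 7, 8, 7, 7, 7, 7, 8, 7, 7, 8, 7], 0), (1, [8, 7,
    7, 7, 8, 7, 7, 7, 8, 7, 7, 8, 7], 0), (1, [7, 7, 7, 8, 8, 7, 7, 7, 8, 7, 7, 8, 7], 0), (1, [8, 7, 7, 8, 8, 7, 7, 7, 7, 7, 8, 8, 7], 0), (1, [8,
    7, 8, 7, 7, 7, 7, 8, 7, 7, 8, 8, 7], 0), (1, [7, 7, 8, 8, 7, 7, 7, 8, 7, 7, 8, 8, 7], 0), (1, [7, 7, 8, 7, 7, 7, 7, 8, 8, 7, 8, 8, 7], 0), (1,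
    [7, 8, 8, 7, 7, 7, 8, 7, 7, 7, 7, 8, 7, 7], 0), (1, [7, 8, 7, 8, 7, 7, 8, 7, 7, 7, 7, 8, 7, 7], 0), (1, [8, 8, 7, 7, 7, 8, 8, 7, 7, 7, 7, 8, 7,
    7], 0), (1, [8, 7, 8, 7, 7, 8, 8, 7, 7, 7, 7, 8, 7, 7], 0), (1, [8, 7, 7, 8, 8, 7, 7, 8, 7, 7, 8, 8, 7, 7], 0), (1, [8, 8, 7, 8, 8, 7, 7, 7, 8,
    7, 8, 8, 7, 7], 0), (1, [8, 7, 8, 8, 7, 7, 7, 8, 8, 7, 8, 8, 7, 7], 0), (1, [7, 7, 8, 7, 7, 7, 7, 7, 7, 8, 7, 7, 8, 7], 0), (1, [7, 8, 7, 7, 7,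
    8, 7, 7, 7, 8, 7, 7, 8, 7], 0), (1, [7, 7, 7, 7, 8, 8, 7, 7, 7, 8, 7, 7, 8, 7], 0), (1, [8, 7, 7, 7, 8, 8, 7, 7, 7, 8, 7, 7, 8, 7], 0), (1, [7,
    7, 8, 7, 7, 7, 8, 8, 7, 7, 7, 7, 8, 7, 7], 0), (1, [7, 8, 7, 7, 8, 8, 7, 7, 8, 7, 7, 8, 8, 7, 7], 0), (1, [8, 8, 7, 8, 8, 7, 8, 7, 8, 7, 7, 8, 8,
    7, 7], 0), (1, [7, 8, 7, 7, 7, 7, 8, 7, 7, 7, 8, 7, 7, 8, 7], 0), (1, [], 1), (1, [8], 1), (1, [8, 7], 1), (1, [8, 8], 1), (1, [7, 7, 7], 1), (1,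
    [8, 8, 7], 1), (1, [7, 7, 8], 1), (1, [8, 7, 8], 1), (1, [7, 8, 8], 1), (1, [7, 7, 7, 7], 1), (1, [8, 7, 7, 7], 1), (1, [7, 7, 8, 7], 1), (1, [8,
    7, 8, 7], 1), (1, [7, 8, 8, 7], 1), (1, [7, 8, 7, 8], 1), (1, [8, 8, 7, 8], 1), (1, [7, 7, 8, 8], 1), (1, [8, 7, 8, 8], 1), (1, [7, 7, 7, 8, 7],
    1), (1, [8, 7, 7, 8, 7], 1), (1, [7, 8, 7, 8, 7], 1), (1, [7, 7, 8, 8, 7], 1), (1, [7, 7, 7, 7, 8], 1), (1, [8, 7, 8, 7, 8], 1), (1, [7, 8, 8, 7,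
    8], 1), (1, [7, 8, 7, 8, 8], 1), (1, [8, 8, 7, 8, 8], 1), (1, [7, 7, 7, 7, 7, 7], 1), (1, [7, 7, 8, 7, 7, 7], 1), (1, [8, 7, 8, 7, 7, 7], 1), (1,
    [7, 7, 7, 7, 8, 7], 1), (1, [8, 7, 7, 7, 8, 7], 1), (1, [7, 8, 7, 7, 8, 7], 1), (1, [7, 7, 8, 7, 8, 7], 1), (1, [8, 7, 7, 8, 8, 7], 1), (1, [7,
    7, 7, 7, 7, 8], 1), (1, [7, 8, 7, 7, 7, 8], 1), (1, [8, 7, 8, 7, 7, 8], 1), (1, [7, 8, 8, 7, 7, 8], 1), (1, [7, 8, 7, 8, 7, 8], 1), (1, [7, 7, 8,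
    8, 7, 8], 1), (1, [7, 8, 7, 7, 8, 8], 1), (1, [7, 7, 7, 7, 7, 7, 7], 1), (1, [7, 7, 7, 8, 7, 7, 7], 1), (1, [8, 7, 7, 8, 7, 7, 7], 1), (1, [8, 8,
    7, 8, 7, 7, 7], 1), (1, [8, 7, 8, 7, 7, 8, 7], 1), (1, [7, 7, 7, 8, 7, 8, 7], 1), (1, [7, 7, 8, 8, 7, 8, 7], 1), (1, [8, 7, 8, 8, 7, 8, 7], 1),
    (1, [7, 8, 7, 7, 8, 8, 7], 1), (1, [8, 8, 7, 7, 7, 7, 8], 1), (1, [7, 8, 8, 7, 7, 7, 8], 1), (1, [8, 7, 7, 8, 7, 7, 8], 1), (1, [7, 8, 7, 8, 7,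
    7, 8], 1), (1, [8, 8, 7, 8, 7, 7, 8], 1), (1, [7, 7, 8, 8, 7, 7, 8], 1), (1, [7, 7, 7, 7, 8, 7, 8], 1), (1, [8, 7, 7, 7, 8, 7, 8], 1), (1, [7, 8,
    7, 7, 8, 7, 8], 1), (1, [7, 7, 8, 7, 8, 7, 8], 1), (1, [7, 7, 7, 8, 8, 7, 8], 1), (1, [8, 7, 7, 8, 8, 7, 8], 1), (1, [8, 7, 7, 7, 7, 8, 8], 1),
    (1, [7, 8, 7, 7, 7, 8, 8], 1), (1, [8, 8, 7, 7, 7, 8, 8], 1), (1, [8, 7, 7, 8, 7, 8, 8], 1), (1, [8, 7, 8, 8, 7, 8, 8], 1), (1, [7, 7, 7, 7, 7,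
    7, 7, 7], 1), (1, [8, 8, 7, 7, 7, 7, 7, 7], 1), (1, [7, 7, 8, 7, 7, 7, 7, 7], 1), (1, [7, 8, 8, 7, 7, 7, 7, 7], 1), (1, [7, 7, 8, 7, 8, 7, 7, 7],
    1), (1, [7, 8, 8, 7, 8, 7, 7, 7], 1), (1, [7, 7, 7, 7, 7, 7, 8, 7], 1), (1, [8, 7, 7, 7, 7, 7, 8, 7], 1), (1, [7, 8, 7, 7, 7, 7, 8, 7], 1), (1,
    [7, 7, 8, 7, 7, 7, 8, 7], 1), (1, [8, 7, 8, 7, 7, 7, 8, 7], 1), (1, [7, 8, 7, 8, 7, 7, 8, 7], 1), (1, [8, 7, 7, 7, 8, 7, 8, 7], 1), (1, [7, 8, 7,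
    7, 8, 7, 8, 7], 1), (1, [8, 8, 7, 7, 8, 7, 8, 7], 1), (1, [8, 7, 7, 8, 8, 7, 8, 7], 1), (1, [7, 8, 7, 8, 8, 7, 8, 7], 1), (1, [7, 7, 7, 7, 7, 8,
    8, 7], 1), (1, [8, 7, 7, 7, 7, 8, 8, 7], 1), (1, [8, 8, 7, 7, 7, 8, 8, 7], 1), (1, [7, 8, 8, 7, 7, 8, 8, 7], 1), (1, [8, 7, 7, 8, 7, 8, 8, 7],
    1), (1, [7, 7, 7, 7, 7, 7, 7, 8], 1), (1, [7, 8, 7, 7, 7, 7, 7, 8], 1), (1, [7, 8, 8, 7, 7, 7, 7, 8], 1), (1, [7, 7, 8, 8, 7, 7, 7, 8], 1), (1,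
    [8, 7, 8, 8, 7, 7, 7, 8], 1), (1, [7, 7, 7, 7, 8, 7, 7, 8], 1), (1, [8, 7, 7, 7, 8, 7, 7, 8], 1), (1, [7, 8, 8, 7, 8, 7, 7, 8], 1), (1, [7, 8, 7,
    8, 8, 7, 7, 8], 1), (1, [8, 8, 7, 8, 8, 7, 7, 8], 1), (1, [7, 7, 7, 7, 7, 8, 7, 8], 1), (1, [7, 7, 8, 7, 7, 8, 7, 8], 1), (1, [7, 8, 8, 7, 7, 8,
    7, 8], 1), (1, [8, 7, 7, 7, 8, 8, 7, 8], 1), (1, [7, 8, 7, 7, 7, 7, 8, 8], 1), (1, [8, 8, 7, 8, 7, 7, 8, 8], 1), (1, [7, 7, 8, 8, 7, 7, 8, 8],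
    1), (1, [8, 8, 7, 7, 8, 7, 8, 8], 1), (1, [8, 7, 7, 8, 8, 7, 8, 8], 1), (1, [7, 8, 7, 8, 8, 7, 8, 8], 1), (1, [7, 7, 8, 7, 7, 7, 7, 7, 7], 1),
    (1, [8, 7, 8, 7, 7, 7, 7, 7, 7], 1), (1, [7, 7, 7, 8, 7, 7, 7, 7, 7], 1), (1, [8, 7, 7, 8, 7, 7, 7, 7, 7], 1), (1, [7, 8, 7, 8, 7, 7, 7, 7, 7],
    1), (1, [7, 7, 8, 8, 7, 7, 7, 7, 7], 1), (1, [8, 8, 7, 7, 7, 8, 7, 7, 7], 1), (1, [7, 7, 7, 8, 7, 8, 7, 7, 7], 1), (1, [8, 7, 7, 8, 7, 8, 7, 7,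
    7], 1), (1, [7, 8, 7, 8, 7, 8, 7, 7, 7], 1), (1, [8, 8, 7, 8, 7, 8, 7, 7, 7], 1), (1, [8, 7, 7, 7, 7, 7, 7, 8, 7], 1), (1, [8, 8, 7, 7, 7, 7, 7,
    8, 7], 1), (1, [7, 7, 8, 7, 7, 7, 7, 8, 7], 1), (1, [8, 8, 7, 8, 7, 7, 7, 8, 7], 1), (1, [7, 7, 8, 8, 7, 7, 7, 8, 7], 1), (1, [8, 7, 7, 7, 8, 7,
    7, 8, 7], 1), (1, [8, 7, 8, 7, 8, 7, 7, 8, 7], 1), (1, [7, 8, 8, 7, 8, 7, 7, 8, 7], 1), (1, [7, 8, 7, 7, 7, 8, 7, 8, 7], 1), (1, [8, 8, 7, 7, 7,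
    8, 7, 8, 7], 1), (1, [7, 8, 8, 7, 7, 8, 7, 8, 7], 1), (1, [7, 7, 8, 7, 8, 8, 7, 8, 7], 1), (1, [7, 7, 7, 7, 7, 7, 8, 8, 7], 1), (1, [8, 7, 7, 7,
    7, 7, 8, 8, 7], 1), (1, [8, 7, 8, 7, 7, 7, 8, 8, 7], 1), (1, [7, 8, 8, 7, 7, 7, 8, 8, 7], 1), (1, [8, 7, 7, 8, 7, 7, 8, 8, 7], 1), (1, [8, 8, 7,
    8, 7, 7, 8, 8, 7], 1), (1, [8, 7, 7, 7, 8, 7, 8, 8, 7], 1), (1, [7, 8, 7, 7, 8, 7, 8, 8, 7], 1), (1, [8, 8, 7, 7, 8, 7, 8, 8, 7], 1), (1, [7, 7,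
    7, 7, 7, 7, 7, 7, 8], 1), (1, [7, 7, 8, 7, 7, 7, 7, 7, 8], 1), (1, [7, 7, 7, 8, 7, 7, 7, 7, 8], 1), (1, [8, 7, 8, 8, 7, 7, 7, 7, 8], 1), (1, [8,
    7, 7, 7, 7, 8, 7, 7, 8], 1), (1, [7, 7, 7, 8, 7, 8, 7, 7, 8], 1), (1, [8, 7, 7, 8, 7, 8, 7, 7, 8], 1), (1, [7, 7, 7, 7, 7, 7, 8, 7, 8], 1), (1,
    [8, 7, 8, 8, 7, 7, 8, 7, 8], 1), (1, [7, 7, 7, 7, 7, 8, 8, 7, 8], 1), (1, [7, 7, 8, 7, 7, 8, 8, 7, 8], 1), (1, [8, 7, 8, 8, 7, 7, 7, 8, 8], 1),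
    (1, [7, 7, 7, 8, 8, 7, 7, 8, 8], 1), (1, [8, 7, 7, 8, 8, 7, 7, 8, 8], 1), (1, [7, 7, 7, 8, 7, 8, 7, 8, 8], 1), (1, [8, 8, 7, 8, 7, 8, 7, 8, 8],
    1), (1, [7, 7, 8, 8, 7, 8, 7, 8, 8], 1), (1, [7, 8, 7, 7, 7, 7, 7, 7, 7, 7], 1), (1, [8, 7, 8, 7, 7, 7, 7, 7, 7, 7], 1), (1, [7, 7, 7, 8, 7, 7,
    7, 7, 7, 7], 1), (1, [8, 7, 7, 8, 7, 7, 7, 7, 7, 7], 1), (1, [7, 7, 8, 8, 7, 7, 7, 7, 7, 7], 1), (1, [8, 7, 8, 8, 7, 7, 7, 7, 7, 7], 1), (1, [7,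
    8, 7, 7, 8, 7, 7, 7, 7, 7], 1), (1, [8, 8, 7, 7, 8, 7, 7, 7, 7, 7], 1), (1, [8, 8, 7, 8, 7, 7, 8, 7, 7, 7], 1), (1, [7, 7, 8, 8, 7, 7, 8, 7, 7,
    7], 1), (1, [8, 7, 8, 8, 7, 7, 8, 7, 7, 7], 1), (1, [8, 7, 7, 8, 8, 7, 8, 7, 7, 7], 1), (1, [8, 8, 7, 8, 8, 7, 8, 7, 7, 7], 1), (1, [8, 7, 7, 7,
    7, 7, 7, 7, 8, 7], 1), (1, [7, 8, 7, 7, 7, 7, 7, 7, 8, 7], 1), (1, [8, 8, 7, 7, 7, 7, 7, 7, 8, 7], 1), (1, [7, 8, 8, 7, 7, 7, 7, 7, 8, 7], 1),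
    (1, [7, 7, 7, 8, 7, 7, 7, 7, 8, 7], 1), (1, [7, 7, 7, 7, 8, 7, 7, 7, 8, 7], 1), (1, [8, 7, 7, 7, 7, 8, 7, 7, 8, 7], 1), (1, [7, 8, 7, 7, 7, 8, 7,
    7, 8, 7], 1), (1, [7, 7, 7, 8, 7, 8, 7, 7, 8, 7], 1), (1, [7, 7, 8, 8, 7, 7, 8, 7, 8, 7], 1), (1, [8, 7, 7, 8, 7, 8, 8, 7, 8, 7], 1), (1, [8, 8,
    7, 8, 7, 8, 8, 7, 8, 7], 1), (1, [8, 7, 7, 7, 7, 7, 7, 8, 8, 7], 1), (1, [7, 8, 7, 7, 7, 7, 7, 8, 8, 7], 1), (1, [8, 8, 7, 7, 7, 7, 7, 8, 8, 7],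
    1), (1, [7, 7, 8, 7, 7, 7, 7, 8, 8, 7], 1), (1, [7, 7, 7, 7, 8, 7, 7, 8, 8, 7], 1), (1, [8, 7, 7, 7, 8, 7, 7, 8, 8, 7], 1), (1, [7, 8, 7, 7, 8,
    7, 7, 8, 8, 7], 1), (1, [7, 8, 8, 7, 8, 7, 7, 8, 8, 7], 1), (1, [7, 8, 7, 7, 7, 8, 7, 8, 8, 7], 1), (1, [7, 7, 8, 7, 7, 8, 7, 7, 7, 8], 1), (1,
    [7, 7, 8, 8, 7, 8, 7, 7, 7, 8], 1), (1, [7, 8, 8, 7, 8, 8, 7, 7, 7, 8], 1), (1, [7, 7, 7, 7, 7, 7, 8, 7, 7, 8], 1), (1, [8, 7, 8, 8, 7, 8, 8, 7,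
    7, 8], 1), (1, [7, 7, 8, 7, 7, 8, 7, 8, 7, 8], 1), (1, [7, 8, 7, 8, 8, 7, 7, 7, 8, 8], 1), (1, [8, 8, 7, 7, 8, 8, 7, 7, 8, 8], 1), (1, [8, 7, 7,
    7, 8, 7, 8, 7, 8, 8], 1), (1, [7, 8, 7, 8, 8, 7, 8, 7, 8, 8], 1), (1, [7, 8, 8, 7, 7, 7, 7, 7, 7, 7, 7], 1), (1, [8, 7, 7, 8, 7, 7, 7, 7, 7, 7,
    7], 1), (1, [7, 7, 8, 7, 8, 7, 7, 7, 7, 7, 7], 1), (1, [7, 8, 8, 7, 8, 7, 7, 8, 7, 7, 7], 1), (1, [7, 8, 7, 8, 8, 7, 7, 8, 7, 7, 7], 1), (1, [8,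
    7, 8, 7, 7, 7, 7, 7, 7, 8, 7], 1), (1, [7, 8, 8, 7, 7, 7, 7, 7, 7, 8, 7], 1), (1, [8, 7, 7, 7, 8, 7, 7, 7, 7, 8, 7], 1), (1, [7, 7, 7, 7, 7, 8,
    7, 7, 7, 8, 7], 1), (1, [7, 7, 8, 7, 7, 8, 7, 7, 7, 8, 7], 1), (1, [7, 7, 7, 7, 7, 7, 8, 7, 7, 8, 7], 1), (1, [7, 8, 7, 7, 7, 7, 8, 7, 7, 8, 7],
    1), (1, [7, 7, 8, 7, 7, 7, 8, 7, 7, 8, 7], 1), (1, [8, 8, 7, 8, 8, 7, 7, 8, 7, 8, 7], 1), (1, [7, 8, 8, 7, 8, 7, 8, 8, 7, 8, 7], 1), (1, [7, 8,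
    8, 7, 7, 7, 7, 7, 8, 8, 7], 1), (1, [7, 7, 7, 7, 7, 8, 7, 7, 8, 8, 7], 1), (1, [8, 7, 7, 8, 7, 7, 8, 7, 7, 7, 8], 1), (1, [8, 8, 7, 8, 7, 7, 8,
    7, 7, 7, 8], 1), (1, [7, 7, 8, 7, 8, 8, 7, 7, 7, 8, 8], 1), (1, [8, 7, 8, 7, 7, 8, 8, 7, 7, 8, 8], 1), (1, [7, 7, 8, 7, 7, 8, 7, 8, 7, 8, 8], 1),
    (1, [7, 8, 8, 7, 8, 8, 7, 8, 7, 8, 8], 1), (1, [7, 7, 8, 8, 7, 7, 7, 7, 7, 7, 7, 7], 1), (1, [8, 7, 7, 7, 7, 8, 7, 7, 7, 7, 7, 7], 1), (1, [8, 7,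
    7, 8, 7, 7, 7, 7, 7, 7, 8, 7], 1), (1, [], 2), (1, [7, 7], 2), (1, [7, 8], 2), (1, [7, 7, 7], 2), (1, [8, 7, 7], 2), (1, [7, 8, 7], 2), (1, [7,
    8, 8], 2), (1, [7, 8, 7, 7], 2), (1, [8, 8, 7, 7], 2), (1, [8, 7, 8, 7], 2), (1, [7, 7, 7, 8], 2), (1, [8, 7, 7, 8], 2), (1, [7, 8, 7, 8], 2),
    (1, [8, 7, 7, 7, 7], 2), (1, [7, 7, 8, 7, 7], 2), (1, [7, 8, 8, 7, 7], 2), (1, [7, 7, 7, 8, 7], 2), (1, [8, 7, 7, 8, 7], 2), (1, [7, 8, 7, 8, 7],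
    2), (1, [8, 8, 7, 8, 7], 2), (1, [7, 7, 8, 8, 7], 2), (1, [7, 7, 7, 7, 8], 2), (1, [7, 7, 8, 7, 8], 2), (1, [7, 8, 8, 7, 8], 2), (1, [8, 8, 7, 8,
    8], 2), (1, [7, 7, 7, 7, 7, 7], 2), (1, [8, 7, 7, 7, 7, 7], 2), (1, [8, 8, 7, 7, 7, 7], 2), (1, [7, 7, 8, 7, 7, 7], 2), (1, [7, 7, 7, 8, 7, 7],
    2), (1, [7, 8, 7, 8, 7, 7], 2), (1, [8, 8, 7, 8, 7, 7], 2), (1, [8, 7, 7, 7, 8, 7], 2), (1, [7, 8, 7, 7, 8, 7], 2), (1, [8, 8, 7, 7, 8, 7], 2),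
    (1, [7, 8, 8, 7, 8, 7], 2), (1, [8, 7, 7, 8, 8, 7], 2), (1, [7, 7, 7, 7, 7, 8], 2), (1, [8, 7, 7, 7, 7, 8], 2), (1, [7, 8, 7, 7, 7, 8], 2), (1,
    [7, 7, 8, 7, 7, 8], 2), (1, [7, 7, 8, 8, 7, 8], 2), (1, [8, 7, 8, 8, 7, 8], 2), (1, [7, 7, 7, 7, 8, 8], 2), (1, [8, 8, 7, 7, 8, 8], 2), (1, [7,
    8, 8, 7, 8, 8], 2), (1, [7, 7, 7, 7, 7, 7, 7], 2), (1, [7, 8, 7, 7, 7, 7, 7], 2), (1, [7, 8, 8, 7, 7, 7, 7], 2), (1, [7, 7, 8, 7, 8, 7, 7], 2),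
    (1, [8, 7, 7, 8, 8, 7, 7], 2), (1, [8, 8, 7, 8, 8, 7, 7], 2), (1, [8, 7, 7, 7, 7, 8, 7], 2), (1, [8, 8, 7, 7, 7, 8, 7], 2), (1, [7, 7, 8, 7, 7,
    8, 7], 2), (1, [7, 7, 7, 8, 7, 8, 7], 2), (1, [7, 7, 7, 7, 8, 8, 7], 2), (1, [8, 7, 7, 7, 8, 8, 7], 2), (1, [8, 8, 7, 7, 8, 8, 7], 2), (1, [7, 8,
    8, 7, 8, 8, 7], 2), (1, [7, 8, 7, 7, 7, 7, 8], 2), (1, [7, 7, 8, 7, 7, 7, 8], 2), (1, [8, 7, 8, 7, 7, 7, 8], 2), (1, [7, 7, 7, 8, 7, 7, 8], 2),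
    (1, [7, 8, 7, 8, 7, 7, 8], 2), (1, [7, 7, 7, 8, 8, 7, 8], 2), (1, [7, 7, 7, 7, 7, 8, 8], 2), (1, [8, 7, 8, 7, 7, 8, 8], 2), (1, [7, 7, 8, 8, 7,
    8, 8], 2), (1, [7, 7, 7, 7, 7, 7, 7, 7], 2), (1, [7, 8, 7, 7, 7, 7, 7, 7], 2), (1, [8, 7, 8, 7, 7, 7, 7, 7], 2), (1, [7, 7, 7, 8, 7, 7, 7, 7],
    2), (1, [7, 8, 7, 8, 7, 7, 7, 7], 2), (1, [7, 7, 7, 7, 8, 7, 7, 7], 2), (1, [8, 8, 7, 7, 7, 8, 7, 7], 2), (1, [7, 7, 7, 8, 7, 8, 7, 7], 2), (1,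
    [8, 7, 7, 8, 7, 8, 7, 7], 2), (1, [7, 8, 7, 7, 8, 8, 7, 7], 2), (1, [8], 3), (1, [7, 7], 3), (1, [7, 8], 3), (1, [7, 8, 8], 3), (1, [8, 7, 7, 7],
    3), (1, [7, 7, 8, 7], 3)]

def e3_cbs : List (List Cb) :=
    [[[], [], [], [], []], [[], []], [[], []], [[], []]]

def e3 : Ct where
  p := 2
  m := 945
  act := [7, 8]
  hl := [0, 1, 2, 4]
  cl := []
  extra := []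
  rules :=
    [[([8, 7, 7, 8, 7, 7, 7, 7, 7, 7, 7], 1), ([7, 8, 7, 8, 7, 8, 7, 7, 7, 7, 7, 7], 1)], [([8, 7, 7, 8, 7, 7, 8, 7, 7, 7, 7, 7], 1), ([7, 8, 8, 7,
    7, 7, 7, 8, 7, 7, 7, 8, 7, 7, 8, 7, 7, 7], 1)], [([8, 7, 7, 8, 7, 7, 8, 7, 7, 7, 7, 7], 1), ([7, 7, 7, 7, 8, 7, 8, 7, 7, 7, 8, 7, 8], 1)], [([7,
    8, 7, 7, 7, 7, 7, 7, 7, 7, 8], 1), ([8, 7, 8, 7, 8, 7, 8, 7, 7, 7, 7, 7, 7], 1), ([7, 7, 7, 7, 7, 7, 7, 7, 8, 7, 7, 8, 7, 7, 7], 1), ([8, 7, 7,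
    7, 7, 8, 7, 7, 7, 7, 7], 1), ([8, 7, 7, 7, 7, 8, 8, 7, 7, 7, 7, 7], 1)]]
  tabs :=
    [0, 0, 0, 0, 0, 0, 0,
    2838323771219344853269206117062488456651689816010024673817234902850148156457229870197870896986754196543049020053632995815613635948623887524486819053200493663480070464150431572758674237564110483726739391423397000984375177636683359521584926451313090759779826403497448579579606988522632184130310796031088746349405852256847719824036629978976127438838032572279657203017807818029834671027702524868773427808479324381502123901827024345104725855660846517517418386049775684310678813900613234768430898723551545743987217112312466418305193010347733499426493870456203268776340853282225299675689458190021365255821587280938301280807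09777962146345270971746925922185858084112909238490478154906218030255683171667213318253982608199874785366901937486482355761783102323133626300879919818538157221423527253580632792108266192728582319504861566797316434952074772832274673875256828799307222635416144022307493631839075443620173089450682420182581768450151558751302638727803569816938962578747525705861948342034243373786128704194890609684205821146077520791447303473254234409223583692274732703580119626892331972822347186475148520615761217848147304549593577394376278353846995938967264805177738797249987119155632398138679179546676664822699753229870528797643705900874077331631777406201149207763198757758275399193714039541966758525921231204012666342839478416219629231498580260245702499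39673334625533939321044254161121004259756767086663630940042048025468375979126494744428594676905175537349305432522660367476571752289830399558872433046091752325022239926426693071955196086548210424634341890244411860575632853097230344002946403475150096906965238008076151412032747993770497686329278395340502263189049947156730092197032838466297422494078194533721278091814037000476958269866453581075722654307481690700774080557166253180287087396053330098428398803028602283634144957807826331382384768236729857733889648231917241309144342596636770319897550072411503932108248310208849305158995445928448415364185044385298035096114165892590638433729558652346461530262803695309054067084559578036150203594558388705656353734545339690435667130869509801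29745898267322673121167523718735336147513488416010575983720300325946576336673516680148953139088436386334312799129373666878491036013646665913716611471877928670370818459999972700337842456817930657382926535514831948537714061479275421382727067979747758649952367275784586356888161149609553622970852825119012500780164390072390279439703726564393077222592237941005679833532111544019070570877886667384330903453999808466972256782770881058765598206216743639641760842160933581539411340376521160640878071412285813456750441271362312763838947850987600028820191136596468466874034501151740532426917091185573739963569094081745112637908244365049377474776785978809475872158459714499940362176835836500779016422167737794527112584462785180331318722736082095135610948032776900812213249,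
    464094250672908289841584305445031792607783965784686809244382570663154716088065289384967481482129214978703381731341651359322179527463147485066648310494440766874088854506931624899154923386427193124794294838689286861940329803683509549620105827891203757561986166859417826673644431084704318391062906514492278335441067389914634232678855465269171197934509130662191423340052825437765056763213969207938135047947752571894363049494304129030396672270329289000858604080493914383486190829125029880373587281425229667739633020368602662691228220649266785783597809672674019076315512599799004336561309204162993151179838334093039494159072382079042567403750667973697975533845142781455888884952295222547706823260281696454486196859668450728512851663745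65600969337485905306404724898048998797306647076708705503989551938721525388059224447387023861113886377682791748796587274896509165810574967991265323514988493438471850564343997459463526887381551284723117339062555060011797313094943457218652006181357730040408017094825470218116191035100676905877606095490481842219540552298658311789510404631914735258502060503028628722729707112268782037629982025106109150710704945824605772440003390741548597335739184331606869750097874823478698531733288037143461593078994260342150750599548347437270029596303839515045879146200709383658427631881300245707797499059063682259507956236467503319798318934806652365930967118490200521505751928108834541185271820867806407842750965930362069756344983256834403147975852496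03797951898293534178829420251938383958694905238790780053554514731606643604087719791448832592668583321980829821594053822393912515914662724094912748723502063119946955872626033123386985045602162696475541879672222664103109443661936077886227127844893263988943884407980995535810439629886669410677356111325527602828412266115384236545754554965859926622540517893237188427970700154921988456953220871411514003165505672764511179797257729482629276295639993333076615485901762757777989697695159557622232085533344879156365813477844107590745371566618234513440676831431344132332039305036090228278428265184932062123889578047707148420998218990469043437331170256263224496538534505257712360643266434315162467326553873466808576593899907512625364095519972894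329065113199001028761220244368165826107628068424356411314799564220619154201464446390828656445204208906240564242495215443045095592796311912554939462951178709929833027860262808507578941767319368242757024254426184989738880630123878442819490694176077599493837817638556628036542163912438912411941728498787416938894443515252629678315998192279602620528614628014230998552402113910006302353562890230063221633313087121297231926061920703717394170161217385117431355955089288824633581843315919222053679712295169417026917851427239403699413022343866811014414625601415367883559207603804025996344475394685260737913406157879255404284567325988835534642700581443997698]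
  rs := e3_rs
  eta := [[], [], [], [], [], [], [], e3_e7, e3_e8]
  bs :=
    [[(0, 1), (2, 1), (6, 1)], [(260, 1), (277, 1), (307, 1), (325, 1), (463, 1), (614, 1), (653, 1)], [(1, 1), (10, 1), (11, 1), (17, 1), (19, 1),
    (23, 1), (26, 1), (27, 1), (37, 1), (46, 1), (49, 1), (65, 1), (81, 1), (100, 1), (123, 1), (129, 1), (132, 1), (134, 1), (135, 1), (139, 1),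
    (142, 1), (143, 1), (154, 1), (194, 1), (214, 1), (297, 1), (323, 1), (344, 1), (424, 1), (495, 1)], [(10, 1), (14, 1), (30, 1), (36, 1), (43,
    1), (44, 1), (58, 1), (111, 1), (114, 1), (136, 1), (137, 1), (145, 1), (151, 1), (168, 1), (247, 1), (252, 1), (264, 1), (310, 1), (316, 1),
    (337, 1), (345, 1), (365, 1), (371, 1), (376, 1), (379, 1), (395, 1), (424, 1), (432, 1), (451, 1), (489, 1), (499, 1), (508, 1), (510, 1), (523,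
    1), (533, 1), (541, 1), (569, 1), (579, 1), (588, 1), (597, 1), (625, 1), (649, 1), (675, 1), (694, 1), (713, 1), (742, 1), (760, 1), (775, 1),
    (778, 1), (793, 1), (816, 1), (830, 1), (846, 1), (849, 1), (858, 1), (877, 1), (879, 1), (886, 1), (901, 1), (903, 1), (905, 1), (920, 1), (924,
    1)]]
  ri := [3, 1, 0, 2]
  cbs := e3_cbs
  fin := e3_fin

theorem e3_F : e3.chkF al2 = true := by decide +kernel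
theorem e3_T : allL (e3.chkT al2) e3.act = true := by decide +kernel
theorem e3_S : allLt e3.chkS (len e3.bs) = true := by decide +kernel

theorem e3_v (h : Hs ρ) : Valid ρ al2g (fx e3.hl ++ (e3.extra ++ fx e3.cl)) := by
  refine cert al2ok e3 rfl e3_F e3_T e3_S ?_
  simp only [e3, List.forall_mem_cons, List.not_mem_nil, false_imp_iff, implies_true, and_true]
  exact ⟨conj al2ok (n2b h) [] _ (by decide +kernel),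
    conj al2ok (n2l0 h) [] _ (by decide +kernel),
    conj al2ok (n2e1 h) [] _ (by decide +kernel),
    conj al2ok (e13_v h) [] _ (by decide +kernel)⟩

theorem eqns_m2c : True := by
  have := @e3_rs.eq_1
  have := @e3_e7.eq_1
  have := @e3_e8.eq_1
  have := @e3_fin.eq_1
  have := @e3_cbs.eq_1
  have := @e3.eq_1
  trivial

end H87.Spc
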