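import Mathlib
import Cfsg.Agent.Lib.SPC.M2b
import Cfsg.Agent.Lib.SPC.M2c

set_option autoImplicit false
set_option maxRecDepth 100000

namespace H87.Spc

open H54

variable {V : Type*} [AddCommGroup V] [Module (ZMod 2) V]
  {ρ : Representation (ZMod 2) (alternatingGroup (Fin 9)) V}

def e8_rs : List Wd :=
    [[], [5], [6], [5, 5], [6, 5], [6, 6], [5, 5, 5], [6, 5, 5], [5, 6, 5], [6, 6, 5], [5, 5, 5, 5], [6, 5, 5, 5], [5, 6, 5, 5], [6, 6, 5, 5], [5, 5,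
    6, 5], [6, 5, 6, 5], [5, 6, 6, 5], [5, 5, 5, 5, 5], [6, 5, 5, 5, 5], [5, 6, 5, 5, 5], [6, 6, 5, 5, 5], [5, 5, 6, 5, 5], [6, 5, 6, 5, 5], [5, 6,
    6, 5, 5], [5, 5, 5, 6, 5], [6, 5, 5, 6, 5], [5, 6, 5, 6, 5], [6, 6, 5, 6, 5], [5, 5, 6, 6, 5], [6, 5, 6, 6, 5], [5, 5, 5, 5, 5, 5], [6, 6, 5, 5,
    5, 5], [5, 5, 6, 5, 5, 5], [6, 5, 6, 5, 5, 5], [5, 6, 6, 5, 5, 5], [5, 5, 5, 6, 5, 5], [6, 5, 5, 6, 5, 5], [5, 6, 5, 6, 5, 5], [6, 6, 5, 6, 5,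
    5], [5, 5, 6, 6, 5, 5], [5, 5, 5, 5, 6, 5], [6, 5, 5, 5, 6, 5], [5, 6, 5, 5, 6, 5], [5, 5, 6, 5, 6, 5], [6, 5, 6, 5, 6, 5], [5, 5, 5, 6, 6, 5],
    [6, 5, 5, 6, 6, 5], [5, 6, 5, 6, 6, 5], [5, 6, 6, 5, 5, 5, 5], [5, 5, 5, 6, 5, 5, 5], [6, 5, 5, 6, 5, 5, 5], [6, 6, 5, 6, 5, 5, 5], [5, 5, 6, 6,
    5, 5, 5], [6, 5, 6, 6, 5, 5, 5], [5, 5, 5, 5, 6, 5, 5], [6, 5, 5, 5, 6, 5, 5], [5, 6, 5, 5, 6, 5, 5], [6, 6, 5, 5, 6, 5, 5], [5, 5, 6, 5, 6, 5,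
    5], [6, 5, 6, 5, 6, 5, 5], [5, 6, 6, 5, 6, 5, 5], [5, 5, 5, 6, 6, 5, 5], [6, 5, 5, 6, 6, 5, 5], [5, 5, 5, 5, 5, 6, 5], [6, 5, 5, 5, 5, 6, 5], [5,
    6, 5, 5, 5, 6, 5], [6, 6, 5, 5, 5, 6, 5], [5, 5, 6, 5, 5, 6, 5], [6, 5, 6, 5, 5, 6, 5], [5, 5, 5, 6, 5, 6, 5], [6, 5, 5, 6, 5, 6, 5], [5, 6, 5,
    6, 5, 6, 5], [6, 6, 5, 6, 5, 6, 5], [5, 5, 5, 5, 6, 6, 5], [6, 5, 5, 5, 6, 6, 5], [5, 6, 5, 5, 6, 6, 5], [5, 5, 6, 5, 6, 6, 5], [6, 5, 6, 5, 6,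
    6, 5], [5, 5, 6, 6, 5, 5, 5, 5], [5, 5, 5, 5, 6, 5, 5, 5], [6, 5, 5, 5, 6, 5, 5, 5], [5, 6, 5, 5, 6, 5, 5, 5], [5, 5, 5, 6, 6, 5, 5, 5], [6, 5,
    5, 6, 6, 5, 5, 5], [6, 6, 5, 6, 6, 5, 5, 5], [5, 5, 5, 5, 5, 6, 5, 5], [6, 5, 5, 5, 5, 6, 5, 5], [5, 6, 5, 5, 5, 6, 5, 5], [6, 6, 5, 5, 5, 6, 5,
    5], [5, 5, 6, 5, 5, 6, 5, 5], [6, 5, 6, 5, 5, 6, 5, 5], [5, 6, 6, 5, 5, 6, 5, 5], [5, 5, 5, 6, 5, 6, 5, 5], [6, 5, 5, 6, 5, 6, 5, 5], [5, 6, 5,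
    6, 5, 6, 5, 5], [6, 6, 5, 6, 5, 6, 5, 5], [5, 5, 6, 6, 5, 6, 5, 5], [6, 5, 6, 6, 5, 6, 5, 5], [5, 5, 5, 5, 6, 6, 5, 5], [6, 5, 5, 5, 6, 6, 5, 5],
    [6, 6, 5, 5, 6, 6, 5, 5], [6, 5, 5, 5, 5, 5, 6, 5], [5, 6, 5, 5, 5, 5, 6, 5], [6, 6, 5, 5, 5, 5, 6, 5], [5, 5, 6, 5, 5, 5, 6, 5], [6, 5, 6, 5, 5,
    5, 6, 5], [5, 6, 6, 5, 5, 5, 6, 5], [5, 5, 5, 6, 5, 5, 6, 5], [6, 5, 5, 6, 5, 5, 6, 5], [5, 6, 5, 6, 5, 5, 6, 5], [6, 6, 5, 6, 5, 5, 6, 5], [5,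
    5, 5, 5, 6, 5, 6, 5], [6, 5, 5, 5, 6, 5, 6, 5], [5, 6, 5, 5, 6, 5, 6, 5], [6, 6, 5, 5, 6, 5, 6, 5], [5, 5, 6, 5, 6, 5, 6, 5], [6, 5, 6, 5, 6, 5,
    6, 5], [5, 6, 6, 5, 6, 5, 6, 5], [5, 5, 5, 5, 5, 6, 6, 5], [6, 5, 5, 5, 5, 6, 6, 5], [5, 6, 5, 5, 5, 6, 6, 5], [6, 6, 5, 5, 5, 6, 6, 5], [5, 5,
    6, 5, 5, 6, 6, 5], [6, 5, 6, 5, 5, 6, 6, 5], [5, 5, 5, 6, 5, 6, 6, 5], [6, 5, 5, 6, 5, 6, 6, 5], [5, 6, 5, 6, 5, 6, 6, 5], [6, 6, 5, 6, 5, 6, 6,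
    5], [6, 5, 5, 6, 6, 5, 5, 5, 5], [5, 5, 5, 5, 5, 6, 5, 5, 5], [6, 5, 5, 5, 5, 6, 5, 5, 5], [5, 6, 5, 5, 5, 6, 5, 5, 5], [6, 6, 5, 5, 5, 6, 5, 5,
    5], [5, 5, 6, 5, 5, 6, 5, 5, 5], [6, 5, 6, 5, 5, 6, 5, 5, 5], [5, 5, 5, 5, 6, 6, 5, 5, 5], [6, 5, 5, 5, 6, 6, 5, 5, 5], [5, 6, 5, 5, 6, 6, 5, 5,
    5], [6, 6, 5, 5, 6, 6, 5, 5, 5], [5, 5, 5, 5, 5, 5, 6, 5, 5], [6, 5, 5, 5, 5, 5, 6, 5, 5], [5, 6, 5, 5, 5, 5, 6, 5, 5], [6, 6, 5, 5, 5, 5, 6, 5,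
    5], [5, 5, 6, 5, 5, 5, 6, 5, 5], [6, 5, 6, 5, 5, 5, 6, 5, 5], [5, 6, 6, 5, 5, 5, 6, 5, 5], [5, 5, 5, 6, 5, 5, 6, 5, 5], [6, 5, 5, 6, 5, 5, 6, 5,
    5], [5, 6, 5, 6, 5, 5, 6, 5, 5], [6, 6, 5, 6, 5, 5, 6, 5, 5], [5, 5, 6, 6, 5, 5, 6, 5, 5], [6, 5, 6, 6, 5, 5, 6, 5, 5], [5, 5, 5, 5, 6, 5, 6, 5,
    5], [6, 5, 5, 5, 6, 5, 6, 5, 5], [6, 6, 5, 5, 6, 5, 6, 5, 5], [5, 6, 6, 5, 6, 5, 6, 5, 5], [5, 5, 5, 6, 6, 5, 6, 5, 5], [6, 5, 5, 6, 6, 5, 6, 5,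
    5], [5, 6, 5, 6, 6, 5, 6, 5, 5], [6, 6, 5, 6, 6, 5, 6, 5, 5], [5, 5, 5, 5, 5, 6, 6, 5, 5], [6, 5, 5, 5, 5, 6, 6, 5, 5], [5, 6, 5, 5, 5, 6, 6, 5,
    5], [6, 6, 5, 5, 5, 6, 6, 5, 5], [5, 6, 5, 5, 5, 5, 5, 6, 5], [6, 5, 6, 5, 5, 5, 5, 6, 5], [5, 6, 6, 5, 5, 5, 5, 6, 5], [6, 5, 5, 6, 5, 5, 5, 6,
    5], [5, 6, 5, 6, 5, 5, 5, 6, 5], [5, 5, 5, 5, 6, 5, 5, 6, 5], [6, 5, 5, 5, 6, 5, 5, 6, 5], [5, 5, 6, 5, 6, 5, 5, 6, 5], [5, 5, 5, 5, 5, 6, 5, 6,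
    5], [6, 5, 5, 5, 5, 6, 5, 6, 5], [6, 6, 5, 5, 5, 6, 5, 6, 5], [5, 5, 6, 5, 5, 6, 5, 6, 5], [6, 5, 6, 5, 5, 6, 5, 6, 5], [5, 6, 6, 5, 5, 6, 5, 6,
    5], [5, 5, 5, 6, 5, 6, 5, 6, 5], [6, 6, 5, 6, 5, 6, 5, 6, 5], [6, 5, 6, 6, 5, 6, 5, 6, 5], [6, 6, 5, 5, 5, 5, 6, 6, 5], [5, 5, 6, 5, 5, 5, 6, 6,
    5], [6, 5, 6, 5, 5, 5, 6, 6, 5], [5, 6, 6, 5, 5, 5, 6, 6, 5], [5, 5, 5, 6, 5, 5, 6, 6, 5], [6, 5, 5, 6, 5, 5, 6, 6, 5], [5, 6, 5, 6, 5, 5, 6, 6,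
    5], [6, 6, 5, 6, 5, 5, 6, 6, 5], [5, 5, 5, 5, 6, 5, 6, 6, 5], [6, 5, 6, 5, 6, 5, 6, 6, 5], [5, 6, 6, 5, 6, 5, 6, 6, 5], [5, 6, 5, 5, 6, 6, 5, 5,
    5, 5], [5, 5, 5, 5, 5, 5, 6, 5, 5, 5], [6, 5, 5, 5, 5, 5, 6, 5, 5, 5], [5, 6, 5, 5, 5, 5, 6, 5, 5, 5], [5, 5, 6, 5, 5, 5, 6, 5, 5, 5], [6, 5, 6,
    5, 5, 5, 6, 5, 5, 5], [5, 6, 6, 5, 5, 5, 6, 5, 5, 5], [5, 5, 5, 6, 5, 5, 6, 5, 5, 5], [6, 5, 5, 6, 5, 5, 6, 5, 5, 5], [5, 6, 5, 6, 5, 5, 6, 5, 5,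
    5], [6, 6, 5, 6, 5, 5, 6, 5, 5, 5], [5, 5, 5, 5, 5, 6, 6, 5, 5, 5], [6, 5, 5, 5, 5, 6, 6, 5, 5, 5], [5, 6, 5, 5, 5, 6, 6, 5, 5, 5], [5, 5, 6, 5,
    5, 6, 6, 5, 5, 5], [6, 5, 5, 5, 5, 5, 5, 6, 5, 5], [5, 5, 6, 5, 5, 5, 5, 6, 5, 5], [6, 5, 6, 5, 5, 5, 5, 6, 5, 5], [5, 6, 6, 5, 5, 5, 5, 6, 5,
    5], [5, 5, 5, 6, 5, 5, 5, 6, 5, 5], [5, 6, 5, 6, 5, 5, 5, 6, 5, 5], [5, 5, 6, 6, 5, 5, 5, 6, 5, 5], [6, 5, 6, 6, 5, 5, 5, 6, 5, 5], [6, 6, 5, 5,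
    6, 5, 5, 6, 5, 5], [5, 5, 6, 5, 6, 5, 5, 6, 5, 5], [5, 6, 6, 5, 6, 5, 5, 6, 5, 5], [5, 5, 5, 6, 6, 5, 5, 6, 5, 5], [6, 5, 5, 6, 6, 5, 5, 6, 5,
    5], [5, 6, 5, 6, 6, 5, 5, 6, 5, 5], [6, 6, 5, 6, 6, 5, 5, 6, 5, 5], [5, 5, 5, 5, 5, 6, 5, 6, 5, 5], [6, 5, 5, 5, 5, 6, 5, 6, 5, 5], [6, 6, 5, 5,
    5, 6, 5, 6, 5, 5], [5, 6, 6, 5, 5, 6, 5, 6, 5, 5], [5, 5, 6, 6, 5, 6, 5, 6, 5, 5], [6, 5, 5, 5, 6, 6, 5, 6, 5, 5], [5, 6, 5, 5, 6, 6, 5, 6, 5,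
    5], [5, 5, 6, 5, 6, 6, 5, 6, 5, 5], [6, 5, 5, 5, 5, 5, 6, 6, 5, 5], [5, 6, 5, 5, 5, 5, 6, 6, 5, 5], [5, 5, 6, 5, 5, 5, 6, 6, 5, 5], [6, 5, 6, 5,
    5, 5, 5, 5, 6, 5], [5, 6, 5, 6, 5, 5, 5, 5, 6, 5], [5, 5, 6, 6, 5, 5, 5, 5, 6, 5], [5, 6, 5, 5, 6, 5, 5, 5, 6, 5], [6, 6, 5, 5, 6, 5, 5, 5, 6,
    5], [5, 5, 5, 5, 5, 6, 5, 5, 6, 5], [6, 5, 5, 5, 5, 6, 5, 5, 6, 5], [5, 6, 5, 5, 5, 6, 5, 5, 6, 5], [6, 6, 5, 5, 5, 6, 5, 5, 6, 5], [5, 6, 5, 5,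
    5, 5, 6, 5, 6, 5], [6, 6, 5, 5, 5, 5, 6, 5, 6, 5], [5, 6, 6, 5, 5, 5, 6, 5, 6, 5], [5, 5, 5, 6, 5, 5, 6, 5, 6, 5], [6, 5, 5, 6, 5, 5, 6, 5, 6,
    5], [5, 6, 5, 6, 5, 5, 6, 5, 6, 5], [6, 6, 5, 6, 5, 5, 6, 5, 6, 5], [6, 6, 5, 6, 6, 5, 6, 5, 6, 5], [5, 5, 5, 6, 5, 5, 5, 6, 6, 5], [6, 5, 5, 6,
    5, 5, 5, 6, 6, 5], [5, 6, 5, 6, 5, 5, 5, 6, 6, 5], [5, 5, 5, 5, 6, 5, 5, 6, 6, 5], [6, 5, 5, 5, 6, 5, 5, 6, 6, 5], [5, 5, 6, 5, 6, 5, 5, 6, 6,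
    5], [6, 6, 5, 6, 5, 6, 5, 6, 6, 5], [5, 5, 6, 6, 5, 6, 5, 6, 6, 5], [5, 5, 6, 5, 5, 6, 6, 5, 5, 5, 5], [6, 5, 6, 5, 5, 6, 6, 5, 5, 5, 5], [6, 5,
    5, 5, 5, 5, 5, 6, 5, 5, 5], [6, 6, 5, 5, 5, 5, 5, 6, 5, 5, 5], [5, 5, 6, 5, 5, 5, 5, 6, 5, 5, 5], [6, 5, 6, 5, 5, 5, 5, 6, 5, 5, 5], [5, 5, 5, 6,
    5, 5, 5, 6, 5, 5, 5], [5, 5, 6, 6, 5, 5, 5, 6, 5, 5, 5], [5, 5, 5, 5, 6, 5, 5, 6, 5, 5, 5], [5, 6, 5, 5, 6, 5, 5, 6, 5, 5, 5], [6, 6, 5, 5, 6, 5,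
    5, 6, 5, 5, 5], [5, 5, 6, 5, 6, 5, 5, 6, 5, 5, 5], [6, 5, 6, 5, 6, 5, 5, 6, 5, 5, 5], [5, 6, 6, 5, 6, 5, 5, 6, 5, 5, 5], [5, 5, 6, 5, 5, 5, 6, 6,
    5, 5, 5], [6, 5, 6, 5, 5, 5, 6, 6, 5, 5, 5], [5, 5, 5, 6, 5, 5, 6, 6, 5, 5, 5], [6, 5, 5, 6, 5, 5, 6, 6, 5, 5, 5], [5, 6, 5, 6, 5, 5, 5, 5, 6, 5,
    5], [6, 5, 5, 5, 6, 5, 5, 5, 6, 5, 5], [5, 5, 6, 5, 6, 5, 5, 5, 6, 5, 5], [5, 6, 5, 6, 6, 5, 5, 5, 6, 5, 5], [5, 6, 6, 5, 5, 6, 5, 5, 6, 5, 5],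
    [6, 5, 5, 6, 5, 6, 5, 5, 6, 5, 5], [5, 5, 6, 6, 5, 6, 5, 5, 6, 5, 5], [6, 5, 6, 6, 5, 6, 5, 5, 6, 5, 5], [6, 5, 5, 5, 6, 6, 5, 5, 6, 5, 5], [5,
    6, 5, 5, 6, 6, 5, 5, 6, 5, 5], [6, 5, 6, 5, 6, 6, 5, 5, 6, 5, 5], [5, 6, 6, 5, 6, 6, 5, 5, 6, 5, 5], [5, 5, 5, 5, 5, 5, 6, 5, 6, 5, 5], [6, 5, 5,
    6, 6, 5, 6, 5, 6, 5, 5], [5, 5, 6, 5, 5, 6, 6, 5, 6, 5, 5], [5, 5, 5, 6, 5, 6, 6, 5, 6, 5, 5], [6, 5, 5, 6, 5, 6, 6, 5, 6, 5, 5], [6, 5, 6, 5, 5,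
    5, 5, 6, 6, 5, 5], [6, 5, 5, 6, 5, 5, 5, 6, 6, 5, 5], [6, 5, 6, 5, 5, 6, 5, 5, 5, 6, 5], [6, 5, 5, 5, 5, 5, 6, 5, 5, 6, 5], [5, 5, 6, 6, 5, 5, 5,
    6, 5, 6, 5], [6, 5, 6, 6, 5, 5, 5, 6, 5, 6, 5], [5, 5, 6, 5, 6, 5, 5, 6, 5, 6, 5], [5, 6, 5, 5, 6, 5, 5, 5, 6, 6, 5], [6, 6, 5, 5, 6, 5, 5, 5, 6,
    6, 5], [6, 5, 5, 5, 5, 6, 5, 5, 6, 6, 5], [5, 6, 5, 5, 5, 6, 5, 5, 6, 6, 5], [6, 5, 6, 5, 5, 6, 5, 5, 6, 5, 5, 5], [5, 6, 6, 5, 5, 6, 5, 5, 6, 5,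
    5, 5], [6, 6, 5, 6, 5, 5, 5, 6, 6, 5, 5, 5], [6, 5, 5, 5, 6, 5, 5, 6, 6, 5, 5, 5], [6, 6, 5, 5, 5, 6, 5, 5, 5, 6, 5, 5], [6, 5, 5, 6, 5, 6, 5, 5,
    5, 6, 5, 5], [6, 5, 6, 6, 5, 5, 6, 5, 5, 6, 5, 5], [6, 5, 6, 5, 5, 6, 6, 5, 5, 6, 5, 5], [6, 6, 5, 6, 5, 5, 5, 5, 6, 6, 5, 5], [5, 6, 5, 5, 6, 5,
    5, 5, 6, 6, 5, 5], [6, 6, 5, 5, 5, 5, 5, 6, 5, 5, 6, 5]]

def e8_e5 : List Wd :=
    [[], [], [2, 1, 0, 2, 1], [], [], [2, 0, 1, 0, 2, 1], [], [], [], [], [], [], [], [], [], [], [], [], [2, 1, 0, 1, 0], [], [], [], [], [], [],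
    [], [], [0, 1, 0], [], [], [], [], [], [2], [], [], [], [], [], [], [], [], [], [], [], [], [], [], [], [], [], [2], [], [0], [], [], [], [], [],
    [], [], [], [1, 0, 1], [2, 1, 0, 2, 1], [], [], [], [], [], [], [], [], [], [], [], [], [], [], [1], [], [], [], [], [], [1, 0, 1, 0], [], [],
    [], [], [], [], [], [], [2, 0, 1, 0, 2], [2, 0, 1, 0], [], [], [], [], [], [1, 0, 1, 0], [], [1, 0, 2, 0, 1, 0], [], [1, 0, 2, 1, 0, 1, 0], [],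
    [2, 0, 2], [], [2, 0, 2, 1, 0, 1, 0], [], [1, 0, 1, 0], [], [2, 0, 1, 0, 2], [], [], [], [2, 0, 2, 1], [1], [2, 0, 1, 0, 2, 1], [2, 1, 0, 2], [],
    [], [], [], [], [2, 1, 0, 2, 0, 1, 0], [1, 0, 2, 1, 0, 1, 0], [], [], [], [], [], [], [], [], [], [], [], [2, 0, 2, 1], [], [1, 0, 2, 1], [], [],
    [], [], [], [2, 0, 2, 1, 0], [0, 1, 0, 2, 0], [], [], [], [], [], [0, 2, 0], [], [], [2, 1, 0, 2, 0], [], [], [1], [2], [], [], [2, 1, 0, 2, 0,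
    1, 0], [0, 1, 0, 2, 1, 0, 1, 0], [], [], [], [1, 0, 2, 1, 0, 1, 0], [], [], [1, 0, 2, 1], [0, 1, 0, 2, 1], [], [], [], [], [0, 2, 1], [2, 1, 0,
    2, 1], [1], [2, 0, 2, 0, 1, 0], [2, 0, 1, 0, 2], [], [], [2, 0, 1, 0, 2, 1], [], [2, 0, 1, 0, 2, 0, 1, 0], [], [1, 0, 1, 0], [2, 1, 0, 2, 1], [1,
    0, 2, 1, 0, 1, 0], [], [], [], [0, 1, 0], [], [], [2, 1, 0], [], [], [], [], [], [0, 1, 0], [1, 0, 2, 1, 0, 1, 0], [], [], [2], [0, 1, 0, 2, 1,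
    0], [], [1, 0, 2, 1], [0, 2, 0, 1], [], [2, 0, 2, 0, 1, 0], [], [], [1, 0], [], [2, 1, 0, 2, 0, 1, 0], [], [2, 0, 1, 0, 2, 0, 1], [], [], [2, 1,
    0, 2, 1], [0, 2, 0], [2, 0, 2, 0], [0, 2, 0, 1, 0, 2], [2, 1, 0, 2, 0], [], [], [2, 1, 0, 2, 1], [0, 1, 0, 2], [2], [0, 1, 0, 2, 1, 0], [2, 1, 0,
    1, 0], [1, 0, 2, 1, 0], [1, 0, 2, 0], [1, 0, 2, 1, 0, 1, 0], [2, 0, 1, 0, 2, 0], [2, 0, 2], [1, 0, 2, 0], [2, 1, 0, 2], [0, 1, 0, 2, 1], [0, 2,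
    0], [], [1, 0], [0, 2, 1, 0], [], [2, 0, 1, 0, 2, 1], [1], [1, 0, 2, 0, 1, 0], [], [2, 0, 1, 0], [2, 1, 0, 2, 1], [], [0, 1, 0, 2, 1], [1, 0, 2,
    0, 1, 0], [0, 1, 0, 2, 1, 0, 1], [0, 2, 1, 0, 2, 0], [2, 1, 0, 1], [0, 1, 0], [2, 0, 2, 0], [0, 2], [1, 0, 2, 1, 0, 1], [2, 0], [1, 0, 2, 0, 1],
    [2, 1, 0, 1], [1, 0, 2, 0], [], [0, 2, 1, 0, 2], [2, 1, 0, 1], [1, 0, 1, 0], [0, 1, 0, 2, 1, 0, 1, 0], [2, 1], [0, 1, 0, 2, 1, 0, 1, 0], [1, 0,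
    2, 1, 0, 1, 0], [0, 1, 0, 2, 1, 0, 1, 0], [1, 0, 2, 1, 0, 1, 0], [2, 1, 0, 1, 0], [2, 0, 2, 0, 1, 0], [2, 0, 2, 1, 0], [1, 0, 2, 0, 1], [1, 0],
    [2, 0], [2, 1, 0, 2, 0, 1, 0], [2, 1, 0, 2, 1], [2, 0, 1, 0, 2, 0, 1], [0, 1, 0, 2], [], [0, 2, 0, 1, 0, 2], [1, 0, 1], [0, 1, 0, 2, 1, 0, 1],
    [2, 1, 0, 2, 0, 1, 0], [2, 0, 2, 1], [], [0, 2, 1], [0, 1, 0, 2, 0, 1], [1], [0, 2, 0, 1], [0, 1, 0, 2, 0, 1], [1, 0, 2], [1, 0, 2], [2, 0, 1, 0,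
    2, 1], [2, 0, 2, 0, 1, 0], [1, 0, 2, 0], [1, 0, 1], [1, 0, 1, 0], [2, 0, 1], [1, 0, 2, 0, 1, 0], [0, 1, 0, 2], [2, 1, 0, 2, 0, 1], [2, 0, 1, 0,
    2, 0, 1, 0], [0, 1, 0, 2], [1, 0, 2, 1], [0, 1, 0, 2, 0, 1]]

def e8_e6 : List Wd :=
    [[], [], [], [], [], [], [], [], [], [], [], [], [], [], [], [], [], [2, 1, 0, 1, 0], [], [], [], [], [], [0, 1, 0], [], [0, 1, 0], [], [], [],
    [0, 1, 0, 2, 1], [0, 1, 0, 2, 1, 0, 1, 0], [], [], [], [], [], [], [], [], [], [], [], [], [], [], [], [0, 1, 0, 2, 1, 0, 1, 0], [], [1, 0, 1,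
    0], [], [1, 0, 1, 0], [], [], [], [], [], [], [], [], [], [], [], [], [], [], [], [], [], [], [], [], [], [], [], [], [], [], [], [], [], [], [],
    [], [], [], [], [], [], [], [], [], [], [], [], [2, 0, 2], [], [], [], [], [], [], [2, 0, 2], [], [], [], [2, 1, 0, 2, 0, 1, 0], [1, 0, 1, 0],
    [], [1, 0, 1, 0], [2, 1, 0, 2, 1], [], [], [], [], [], [2, 0, 2, 1], [], [], [2, 1, 0, 2], [], [], [], [], [], [2, 1, 0, 2, 1], [0, 1, 0, 2, 1],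
    [], [], [2, 1, 0, 2, 1], [], [0, 1, 0], [], [], [], [], [], [2, 0, 2, 0, 1, 0], [2, 0, 2, 1], [], [], [2, 0, 2], [], [], [2, 0, 1], [2, 1, 0, 2],
    [], [0, 1, 0, 2, 0], [], [0, 1, 0], [], [], [], [], [], [], [1], [], [1], [0, 2, 0, 1, 0, 2, 0], [], [], [2, 1, 0, 2, 1], [2, 1, 0, 2, 0, 1, 0],
    [], [], [2, 0, 2, 1], [2, 0, 2], [], [], [], [], [1, 0, 1, 0], [2, 0, 2], [], [], [], [], [1], [2, 1, 0, 1, 0], [], [], [], [], [2, 1, 0, 2], [1,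
    0, 1, 0], [], [1, 0, 1, 0], [0, 2, 1, 0, 2, 0], [], [2, 0, 2, 1], [], [0, 1, 0, 2, 1, 0, 1], [], [], [], [], [2, 1, 0], [0, 2, 1, 0], [0, 1, 0],
    [2, 1, 0, 1], [], [], [], [0, 1, 0], [], [], [], [0, 1, 0], [2, 1, 0, 1, 0], [1], [2, 0, 2], [], [1], [2, 1, 0], [0, 2, 1], [], [], [], [], [1,
    0, 2, 1], [], [], [2, 1, 0, 2, 1], [0, 2, 0, 1, 0], [], [2, 0, 2, 0], [], [1, 0, 2], [0, 2], [], [0, 1, 0], [], [], [1], [1], [0], [], [], [],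
    [2, 1, 0, 2], [2, 1, 0, 1, 0], [], [0, 2, 0], [], [], [0, 2, 1, 0], [0, 2, 1], [0, 1, 0], [], [], [2, 0, 2, 1, 0, 1, 0], [], [0, 1, 0], [], [0,
    2, 0, 1, 0, 2, 0], [1], [], [0, 1, 0, 2, 0], [2, 1, 0], [1, 0, 2], [2, 0, 2, 0], [], [1, 0, 2, 1, 0, 1], [2, 1, 0, 2, 1], [2], [0, 2, 1, 0, 2,
    0], [0], [], [], [2, 0, 1], [0, 2, 0, 1, 0], [2, 0, 2, 1], [2, 1], [], [], [1, 0, 1, 0], [2, 0, 2, 0, 1, 0], [], [], [2, 0, 1], [], [2, 0, 2],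
    [2, 0], [0, 1, 0], [0, 1, 0, 2, 1], [], [0, 2], [1, 0, 2, 1], [2, 0, 1, 0, 2, 1, 0], [2, 0, 1, 0, 2, 1, 0], [0, 2, 1], [2, 1, 0, 2, 0, 1, 0], [1,
    0, 2], [], [1], [2, 1, 0], [], [0, 2, 0, 1], [0, 2, 1], [2, 0, 2], [2, 1, 0, 2, 0], [], [0, 1, 0], [2, 1, 0, 2, 0], [2, 1, 0, 1], [1], [], [0, 2,
    1, 0, 2, 0], [], [2, 0, 2, 1, 0, 1, 0], [0, 1, 0, 2, 1], [2, 1], [], [2, 0, 2, 0, 1, 0], []]

def e8_fin : Cb :=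
    [(1, [], 0), (1, [5], 0), (1, [5, 5], 0), (1, [6, 6], 0), (1, [5, 5, 5], 0), (1, [6, 5, 5], 0), (1, [6, 6, 5], 0), (1, [5, 5, 5, 5], 0), (1, [6,
    5, 5, 5], 0), (1, [5, 6, 5, 5], 0), (1, [5, 5, 6, 5], 0), (1, [5, 6, 6, 5], 0), (1, [6, 5, 5, 5, 5], 0), (1, [5, 6, 5, 5, 5], 0), (1, [5, 5, 6,
    5, 5], 0), (1, [5, 5, 5, 6, 5], 0), (1, [6, 6, 5, 6, 5], 0), (1, [5, 5, 6, 6, 5], 0), (1, [6, 6, 5, 5, 5, 5], 0), (1, [6, 5, 6, 5, 5, 5], 0), (1,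
    [5, 5, 5, 6, 5, 5], 0), (1, [6, 5, 5, 6, 5, 5], 0), (1, [5, 6, 5, 6, 5, 5], 0), (1, [5, 5, 6, 5, 6, 5], 0), (1, [5, 6, 5, 6, 6, 5], 0), (1, [5,
    6, 6, 5, 5, 5, 5], 0), (1, [5, 5, 5, 6, 5, 5, 5], 0), (1, [6, 6, 5, 6, 5, 5, 5], 0), (1, [5, 5, 5, 5, 6, 5, 5], 0), (1, [6, 6, 5, 5, 6, 5, 5],
    0), (1, [6, 5, 6, 5, 6, 5, 5], 0), (1, [6, 5, 5, 6, 5, 6, 5], 0), (1, [5, 6, 5, 6, 5, 6, 5], 0), (1, [5, 5, 6, 5, 6, 6, 5], 0), (1, [5, 5, 5, 5,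
    6, 5, 5, 5], 0), (1, [5, 5, 5, 5, 5, 6, 5, 5], 0), (1, [6, 6, 5, 5, 5, 6, 5, 5], 0), (1, [6, 6, 5, 6, 5, 6, 5, 5], 0), (1, [6, 6, 5, 5, 6, 5, 6,
    5], 0), (1, [5, 5, 5, 6, 5, 6, 6, 5], 0), (1, [6, 5, 5, 6, 5, 6, 6, 5], 0), (1, [5, 6, 5, 6, 5, 6, 6, 5], 0), (1, [5, 5, 5, 5, 5, 6, 5, 5, 5],
    0), (1, [6, 5, 5, 5, 5, 5, 6, 5, 5], 0), (1, [6, 6, 5, 5, 5, 5, 6, 5, 5], 0), (1, [5, 5, 6, 5, 5, 5, 6, 5, 5], 0), (1, [6, 5, 6, 5, 5, 5, 6, 5,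
    5], 0), (1, [5, 5, 5, 6, 5, 5, 6, 5, 5], 0), (1, [6, 5, 5, 6, 5, 5, 6, 5, 5], 0), (1, [6, 5, 6, 6, 5, 5, 6, 5, 5], 0), (1, [5, 5, 5, 5, 5, 6, 5,
    6, 5], 0), (1, [5, 6, 6, 5, 5, 6, 5, 6, 5], 0), (1, [6, 5, 5, 5, 5, 5, 6, 5, 5, 5], 0), (1, [5, 6, 5, 5, 5, 5, 6, 5, 5, 5], 0), (1, [6, 5, 6, 5,
    5, 5, 5, 6, 5, 5], 0), (1, [5, 6, 5, 6, 5, 5, 5, 6, 5, 5], 0), (1, [5, 5, 6, 6, 5, 5, 5, 6, 5, 5], 0), (1, [6, 5, 6, 6, 5, 5, 5, 6, 5, 5], 0),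
    (1, [6, 6, 5, 5, 6, 5, 5, 6, 5, 5], 0), (1, [6, 5, 5, 6, 5, 5, 6, 5, 6, 5], 0), (1, [6, 6, 5, 6, 5, 6, 5, 6, 6, 5], 0), (1, [5], 1), (1, [6], 1),
    (1, [5, 5], 1), (1, [5, 6, 5], 1), (1, [5, 5, 5, 5], 1), (1, [5, 6, 5, 5], 1), (1, [6, 6, 5, 5], 1), (1, [6, 5, 6, 5], 1), (1, [5, 6, 5, 5, 5],
    1), (1, [6, 6, 5, 5, 5], 1), (1, [6, 5, 6, 5, 5], 1), (1, [5, 6, 6, 5, 5], 1), (1, [5, 6, 5, 6, 5], 1), (1, [6, 6, 5, 5, 5, 5], 1), (1, [5, 5, 6,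
    5, 5, 5], 1), (1, [6, 5, 5, 6, 5, 5], 1), (1, [5, 6, 5, 6, 5, 5], 1), (1, [5, 6, 6, 5, 5, 5, 5], 1), (1, [5, 5, 5, 6, 5, 5, 5], 1), (1, [6, 6, 5,
    5, 6, 5, 5], 1), (1, [6, 5, 6, 5, 6, 5, 5], 1), (1, [5, 5, 5, 6, 5, 6, 5], 1), (1, [6, 5, 5, 6, 5, 6, 5], 1), (1, [5, 5, 6, 6, 5, 5, 5, 5], 1),
    (1, [5, 5, 5, 5, 6, 5, 5, 5], 1), (1, [6, 5, 5, 5, 6, 5, 5, 5], 1), (1, [5, 6, 6, 5, 5, 6, 5, 5], 1), (1, [6, 6, 5, 6, 5, 6, 5, 5], 1), (1, [5,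
    5, 6, 6, 5, 6, 5, 5], 1), (1, [6, 5, 6, 5, 6, 5, 6, 5], 1), (1, [6, 5, 5, 5, 5, 5, 6, 5, 5], 1), (1, [5, 6, 5, 5, 5, 5, 6, 5, 5], 1), (1, [6, 6,
    5, 5, 5, 5, 6, 5, 5], 1), (1, [5, 5, 5, 6, 6, 5, 6, 5, 5], 1), (1, [6, 6, 5, 6, 5, 6, 5, 6, 5], 1), (1, [5, 5, 6, 5, 5, 5, 6, 5, 5, 5], 1), (1,
    [5, 6, 6, 5, 5, 5, 5, 6, 5, 5], 1), (1, [], 2), (1, [6], 2), (1, [6, 5], 2), (1, [5, 6, 5], 2), (1, [6, 5, 5, 5], 2), (1, [5, 6, 5, 5], 2), (1,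
    [6, 6, 5, 5], 2), (1, [5, 5, 6, 5], 2), (1, [5, 6, 6, 5], 2), (1, [5, 5, 5, 5, 5], 2), (1, [6, 5, 5, 5, 5], 2), (1, [5, 6, 5, 5, 5], 2), (1, [6,
    6, 5, 5, 5], 2), (1, [5, 5, 6, 5, 5], 2), (1, [6, 5, 6, 5, 5], 2), (1, [5, 6, 6, 5, 5], 2), (1, [6, 6, 5, 6, 5], 2), (1, [6, 5, 6, 5, 5, 5], 2),
    (1, [6, 5, 5, 6, 5, 5], 2), (1, [6, 6, 5, 6, 5, 5], 2), (1, [5, 5, 6, 5, 6, 5], 2), (1, [], 3), (1, [6], 3), (1, [5, 5], 3), (1, [5, 5, 5], 3),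
    (1, [6, 5, 5], 3), (1, [5, 6, 5], 3), (1, [5, 5, 5, 5], 3), (1, [5, 6, 5, 5], 3), (1, [6, 6, 5, 5], 3), (1, [6, 5, 5, 5, 5], 3), (1, [5, 6, 5, 5,
    5], 3), (1, [6, 5, 6, 5, 5], 3), (1, [5, 6, 6, 5, 5], 3), (1, [], 4), (1, [5], 4), (1, [6], 4), (1, [5, 5], 4), (1, [6, 5, 5], 4), (1, [5, 6, 5],
    4), (1, [6, 5, 5, 5], 4), (1, [5, 5, 6, 5], 4), (1, [5, 5, 5, 6], 4), (1, [6, 5, 5, 5, 5], 4), (1, [5, 5, 6, 5, 5], 4), (1, [5, 6, 6, 5, 5], 4),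
    (1, [6, 5, 5, 6, 5], 4), (1, [6, 6, 5, 6, 5], 4), (1, [5, 5, 6, 6, 5], 4), (1, [5, 5, 5, 5, 6], 4), (1, [6, 5, 5, 5, 6], 4), (1, [5, 6, 5, 5, 6],
    4), (1, [5, 5, 6, 5, 6], 4), (1, [5, 5, 5, 5, 5, 5], 4), (1, [6, 5, 5, 5, 5, 5], 4), (1, [5, 6, 5, 5, 5, 5], 4), (1, [5, 5, 6, 5, 5, 5], 4), (1,
    [5, 5, 6, 5, 6, 5], 4), (1, [6, 5, 6, 5, 6, 5], 4), (1, [5, 6, 5, 5, 5, 6], 4), (1, [5, 5, 5, 6, 5, 6], 4), (1, [6, 5, 5, 5, 5, 5, 5], 4), (1,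
    [5, 5, 5, 5, 6, 5, 5], 4), (1, [5, 6, 5, 6, 5, 6, 5], 4), (1, [], 6), (1, [6, 5, 5], 6), (1, [6, 5, 5, 5, 5], 6)]

def e8_cbs : List (List Cb) :=
    [[[], [], [], []], [[], [], [], []], [[], [], [], []], [[], [], [], []], [[], []], [[], []], [[(1, [5], 0), (1, [5, 5], 0), (1, [6, 5], 0), (1,
    [6, 6], 0), (1, [6, 5, 5, 5], 0), (1, [6, 6, 5, 5], 0), (1, [5, 5, 5, 5, 5], 0), (1, [6, 5, 5, 5, 5], 0), (1, [6, 5, 6, 6, 5], 0), (1, [6, 5, 5,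
    6, 5, 5], 0), (1, [5, 6, 5, 6, 5, 5], 0), (1, [6, 5, 5, 5, 6, 5], 0), (1, [6, 5, 6, 5, 6, 5], 0), (1, [6, 5, 5, 6, 6, 5], 0), (1, [5, 6, 5, 6, 6,
    5], 0), (1, [6, 6, 5, 6, 5, 5, 5], 0), (1, [5, 5, 5, 5, 6, 5, 5], 0), (1, [6, 5, 5, 5, 6, 5, 5], 0), (1, [5, 6, 5, 5, 6, 5, 5], 0), (1, [6, 6, 5,
    5, 6, 5, 5], 0), (1, [6, 5, 6, 5, 6, 5, 5], 0), (1, [6, 6, 5, 5, 5, 6, 5], 0), (1, [5, 6, 5, 6, 5, 6, 5], 0), (1, [5, 5, 5, 5, 6, 5, 5, 5], 0),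
    (1, [6, 5, 5, 5, 5, 6, 5, 5], 0), (1, [5, 6, 5, 5, 5, 6, 5, 5], 0), (1, [6, 6, 5, 5, 5, 6, 5, 5], 0), (1, [6, 5, 6, 5, 6, 5, 6, 5], 0), (1, [5,
    6, 6, 5, 6, 5, 6, 5], 0), (1, [5, 5, 5, 6, 5, 6, 6, 5], 0), (1, [6, 5, 5, 6, 5, 6, 6, 5], 0), (1, [5, 5, 5, 5, 5, 6, 5, 5, 5], 0), (1, [6, 5, 5,
    5, 5, 6, 5, 5, 5], 0), (1, [5, 6, 5, 5, 5, 5, 6, 5, 5], 0), (1, [5, 5, 6, 5, 5, 5, 6, 5, 5], 0), (1, [6, 5, 5, 6, 5, 5, 6, 5, 5], 0), (1, [5, 5,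
    6, 6, 5, 5, 6, 5, 5], 0), (1, [6, 6, 5, 6, 5, 6, 5, 6, 5], 0), (1, [5, 5, 5, 5, 6, 5, 6, 6, 5], 0), (1, [6, 5, 6, 5, 6, 5, 6, 6, 5], 0), (1, [5,
    6, 5, 5, 5, 5, 6, 5, 5, 5], 0), (1, [6, 5, 6, 5, 5, 5, 5, 6, 5, 5], 0), (1, [5, 6, 6, 5, 5, 5, 5, 6, 5, 5], 0), (1, [5, 6, 5, 6, 5, 5, 5, 6, 5,
    5], 0), (1, [6, 6, 5, 6, 5, 6, 5, 6, 6, 5], 0), (1, [], 1), (1, [6], 1), (1, [5, 5], 1), (1, [6, 5, 5], 1), (1, [5, 6, 5], 1), (1, [5, 5, 5, 5],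
    1), (1, [6, 5, 5, 5, 5], 1), (1, [6, 5, 6, 5, 5], 1), (1, [5, 6, 6, 5, 5], 1), (1, [6, 6, 5, 5, 5, 5], 1), (1, [5, 5, 5, 6, 5, 5], 1), (1, [6, 5,
    5, 6, 5, 5], 1), (1, [6, 5, 6, 5, 6, 5], 1), (1, [5, 6, 6, 5, 5, 5, 5], 1), (1, [5, 5, 5, 6, 5, 5, 5], 1), (1, [5, 6, 5, 5, 6, 5, 5], 1), (1, [6,
    5, 6, 5, 6, 5, 5], 1), (1, [5, 6, 6, 5, 6, 5, 5], 1), (1, [5, 5, 5, 6, 5, 6, 5], 1), (1, [5, 5, 6, 6, 5, 5, 5, 5], 1), (1, [6, 5, 5, 5, 6, 5, 5,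
    5], 1), (1, [5, 5, 5, 5, 5, 6, 5, 5], 1), (1, [6, 5, 5, 5, 5, 6, 5, 5], 1), (1, [5, 5, 6, 5, 5, 6, 5, 5], 1), (1, [5, 6, 6, 5, 5, 6, 5, 5], 1),
    (1, [6, 6, 5, 6, 5, 6, 5, 5], 1), (1, [5, 5, 5, 5, 6, 5, 6, 5], 1), (1, [6, 5, 5, 5, 5, 6, 5, 5, 5], 1), (1, [5, 6, 5, 5, 5, 6, 5, 5, 5], 1), (1,
    [5, 6, 5, 5, 5, 5, 6, 5, 5], 1), (1, [6, 6, 5, 5, 5, 5, 6, 5, 5], 1), (1, [5, 5, 5, 6, 5, 5, 6, 5, 5], 1), (1, [6, 6, 5, 6, 5, 6, 5, 6, 5], 1),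
    (1, [5, 5, 6, 5, 5, 5, 6, 5, 5, 5], 1), (1, [5, 6, 6, 5, 5, 5, 5, 6, 5, 5], 1), (1, [5, 5], 2), (1, [6, 5], 2), (1, [5, 6, 5], 2), (1, [6, 5, 5,
    5], 2), (1, [5, 6, 5, 5], 2), (1, [6, 6, 5, 5], 2), (1, [5, 6, 6, 5], 2), (1, [6, 5, 5, 5, 5], 2), (1, [5, 6, 5, 5, 5], 2), (1, [5, 5, 6, 5, 5],
    2), (1, [6, 5, 6, 5, 5], 2), (1, [5, 6, 6, 5, 5], 2), (1, [6, 5, 5, 6, 5], 2), (1, [5, 5, 6, 6, 5], 2), (1, [6, 5, 6, 6, 5], 2), (1, [5, 5, 6, 5,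
    5, 5], 2), (1, [5, 5, 5, 6, 5, 5], 2), (1, [6, 5, 5, 6, 5, 5], 2), (1, [6, 5, 5, 5, 6, 5], 2), (1, [6, 5, 5, 6, 6, 5], 2), (1, [], 3), (1, [5],
    3), (1, [5, 5], 3), (1, [6, 5], 3), (1, [6, 5, 5], 3), (1, [6, 5, 6, 5], 3), (1, [5, 5, 5, 5, 5], 3), (1, [6, 5, 5, 5, 5], 3), (1, [5, 6, 5, 5,
    5], 3), (1, [5, 6, 6, 5, 5], 3), (1, [], 4), (1, [6], 4), (1, [5, 5], 4), (1, [5, 6], 4), (1, [5, 6, 5], 4), (1, [5, 5, 6], 4), (1, [6, 5, 6],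
    4), (1, [5, 5, 5, 5], 4), (1, [5, 6, 5, 5], 4), (1, [6, 6, 5, 5], 4), (1, [5, 5, 5, 6], 4), (1, [6, 5, 5, 6], 4), (1, [6, 6, 5, 6], 4), (1, [5,
    5, 5, 6, 5], 4), (1, [6, 5, 5, 6, 5], 4), (1, [6, 5, 5, 5, 6], 4), (1, [5, 5, 6, 5, 6], 4), (1, [5, 5, 6, 6, 5, 5], 4), (1, [5, 6, 5, 5, 6, 5],
    4), (1, [6, 6, 5, 5, 6, 5], 4), (1, [6, 5, 6, 5, 6, 5], 4), (1, [5, 5, 5, 6, 6, 5], 4), (1, [5, 6, 5, 5, 5, 6], 4), (1, [5, 5, 5, 5, 5, 6, 5],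
    4), (1, [6, 5, 5, 6, 5, 6, 5], 4), (1, [5, 6, 5, 6, 5, 6, 5], 4)], [(1, [], 0), (1, [5], 0), (1, [6], 0), (1, [5, 5], 0), (1, [6, 5], 0), (1, [5,
    6, 5], 0), (1, [6, 6, 5], 0), (1, [5, 5, 5, 5], 0), (1, [6, 5, 5, 5], 0), (1, [6, 5, 6, 5], 0), (1, [5, 6, 6, 5], 0), (1, [5, 5, 5, 5, 5], 0),
    (1, [6, 5, 6, 5, 5], 0), (1, [5, 6, 6, 5, 5], 0), (1, [5, 5, 5, 6, 5], 0), (1, [6, 5, 5, 6, 5], 0), (1, [5, 6, 5, 6, 5], 0), (1, [6, 6, 5, 6, 5],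
    0), (1, [5, 5, 6, 6, 5], 0), (1, [6, 6, 5, 5, 5, 5], 0), (1, [5, 5, 5, 5, 6, 5, 5], 0), (1, [6, 5, 5, 5, 6, 5, 5], 0), (1, [5, 6, 5, 5, 6, 5, 5],
    0), (1, [6, 6, 5, 5, 5, 6, 5], 0), (1, [5, 5, 5, 6, 5, 6, 5], 0), (1, [5, 6, 5, 6, 5, 6, 5], 0), (1, [6, 6, 5, 6, 5, 6, 5], 0), (1, [5, 5, 6, 5,
    6, 6, 5], 0), (1, [6, 5, 6, 5, 6, 6, 5], 0), (1, [5, 5, 6, 6, 5, 5, 5, 5], 0), (1, [5, 5, 5, 5, 5, 6, 5, 5], 0), (1, [5, 6, 5, 5, 5, 6, 5, 5],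
    0), (1, [6, 6, 5, 5, 5, 6, 5, 5], 0), (1, [6, 6, 5, 6, 5, 6, 5, 5], 0), (1, [5, 5, 5, 5, 6, 5, 6, 5], 0), (1, [5, 6, 5, 5, 6, 5, 6, 5], 0), (1,
    [5, 6, 6, 5, 6, 5, 6, 5], 0), (1, [5, 5, 5, 6, 5, 6, 6, 5], 0), (1, [5, 5, 5, 5, 5, 6, 5, 5, 5], 0), (1, [6, 5, 5, 5, 5, 5, 6, 5, 5], 0), (1, [5,
    6, 5, 5, 5, 5, 6, 5, 5], 0), (1, [5, 5, 6, 5, 5, 5, 6, 5, 5], 0), (1, [5, 6, 6, 5, 5, 5, 6, 5, 5], 0), (1, [5, 5, 5, 6, 5, 5, 6, 5, 5], 0), (1,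
    [6, 5, 6, 6, 5, 5, 6, 5, 5], 0), (1, [5, 6, 6, 5, 5, 6, 5, 6, 5], 0), (1, [6, 6, 5, 6, 5, 6, 5, 6, 5], 0), (1, [6, 5, 6, 5, 6, 5, 6, 6, 5], 0),
    (1, [6, 5, 5, 5, 5, 5, 6, 5, 5, 5], 0), (1, [6, 5, 6, 5, 5, 5, 5, 6, 5, 5], 0), (1, [5, 6, 6, 5, 5, 5, 5, 6, 5, 5], 0), (1, [5, 6, 5, 6, 5, 5, 5,
    6, 5, 5], 0), (1, [5, 5, 6, 6, 5, 5, 5, 6, 5, 5], 0), (1, [6, 5, 6, 6, 5, 5, 5, 6, 5, 5], 0), (1, [6, 6, 5, 6, 5, 6, 5, 6, 6, 5], 0), (1, [5, 5,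
    5, 5], 1), (1, [6, 5, 5, 5], 1), (1, [6, 6, 5, 5], 1), (1, [6, 5, 6, 5], 1), (1, [5, 6, 5, 5, 5], 1), (1, [5, 5, 6, 5, 5], 1), (1, [5, 6, 6, 5,
    5], 1), (1, [5, 5, 5, 6, 5], 1), (1, [6, 5, 5, 6, 5], 1), (1, [6, 6, 5, 5, 5, 5], 1), (1, [6, 5, 5, 5, 6, 5], 1), (1, [6, 5, 6, 5, 6, 5], 1), (1,
    [5, 5, 5, 6, 5, 5, 5], 1), (1, [5, 6, 5, 5, 6, 5, 5], 1), (1, [6, 6, 5, 5, 6, 5, 5], 1), (1, [5, 5, 6, 5, 6, 5, 5], 1), (1, [6, 5, 6, 5, 6, 5,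
    5], 1), (1, [5, 5, 5, 5, 6, 5, 5, 5], 1), (1, [6, 5, 5, 5, 6, 5, 5, 5], 1), (1, [5, 5, 5, 5, 5, 6, 5, 5], 1), (1, [5, 6, 6, 5, 5, 6, 5, 5], 1),
    (1, [5, 5, 6, 6, 5, 6, 5, 5], 1), (1, [6, 5, 6, 5, 6, 5, 6, 5], 1), (1, [5, 5, 5, 5, 5, 6, 5, 5, 5], 1), (1, [6, 5, 5, 5, 5, 6, 5, 5, 5], 1), (1,
    [5, 6, 5, 5, 5, 6, 5, 5, 5], 1), (1, [6, 5, 5, 5, 5, 5, 6, 5, 5], 1), (1, [6, 6, 5, 5, 5, 5, 6, 5, 5], 1), (1, [5, 5, 5, 6, 5, 5, 6, 5, 5], 1),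
    (1, [5, 5, 5, 6, 6, 5, 6, 5, 5], 1), (1, [5, 6, 5, 5, 5, 5, 6, 5, 5, 5], 1), (1, [5, 5, 6, 5, 5, 5, 6, 5, 5, 5], 1), (1, [6, 5, 6, 5, 5, 5, 6, 5,
    5, 5], 1), (1, [5, 6, 6, 5, 5, 5, 5, 6, 5, 5], 1), (1, [5], 2), (1, [5, 5], 2), (1, [6, 5], 2), (1, [5, 5, 5], 2), (1, [5, 6, 5], 2), (1, [6, 6,
    5], 2), (1, [5, 5, 5, 5], 2), (1, [6, 5, 5, 5], 2), (1, [6, 5, 6, 5], 2), (1, [5, 5, 5, 6, 5], 2), (1, [5, 6, 5, 6, 5], 2), (1, [6, 6, 5, 6, 5],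
    2), (1, [6, 5, 6, 6, 5], 2), (1, [6, 6, 5, 5, 5, 5], 2), (1, [6, 5, 6, 5, 5, 5], 2), (1, [5, 5, 5, 6, 5, 5], 2), (1, [6, 6, 5, 6, 5, 5], 2), (1,
    [5, 6, 6, 5, 5, 5, 5], 2), (1, [6], 3), (1, [6, 5, 5], 3), (1, [5, 5, 5, 5], 3), (1, [6, 6, 5, 5], 3), (1, [6, 5, 6, 5], 3), (1, [5, 5, 5, 5, 5],
    3), (1, [5, 6, 5, 5, 5], 3), (1, [5, 5, 6, 5, 5], 3), (1, [6, 5, 6, 5, 5], 3), (1, [], 4), (1, [5], 4), (1, [6], 4), (1, [5, 5, 5], 4), (1, [6,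
    5, 5], 4), (1, [5, 6, 5], 4), (1, [6, 6, 5], 4), (1, [6, 5, 6], 4), (1, [6, 5, 5, 5], 4), (1, [5, 5, 6, 5], 4), (1, [6, 5, 6, 5], 4), (1, [5, 6,
    6, 5], 4), (1, [6, 5, 5, 6], 4), (1, [5, 6, 5, 6], 4), (1, [5, 5, 5, 5, 5], 4), (1, [6, 5, 5, 5, 5], 4), (1, [5, 6, 6, 5, 5], 4), (1, [5, 5, 5,
    6, 5], 4), (1, [5, 6, 5, 6, 5], 4), (1, [5, 5, 5, 5, 6], 4), (1, [6, 5, 5, 5, 6], 4), (1, [5, 6, 5, 5, 6], 4), (1, [5, 5, 5, 5, 5, 5], 4), (1,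
    [6, 5, 5, 5, 5, 5], 4), (1, [5, 6, 5, 5, 6, 5], 4), (1, [6, 6, 5, 5, 6, 5], 4), (1, [5, 5, 6, 5, 6, 5], 4), (1, [6, 5, 6, 5, 6, 5], 4), (1, [5,
    6, 6, 5, 6, 5], 4), (1, [6, 5, 5, 5, 5, 6], 4), (1, [6, 6, 5, 6, 5, 6], 4), (1, [5, 5, 5, 5, 6, 5, 5], 4), (1, [5, 6, 5, 6, 5, 6, 5], 4)]]]

def e8 : Ct where
  p := 2
  m := 315
  act := [5, 6]
  hl := [0, 1, 2]
  cl := []
  extra := []
  rules :=
    [[([5, 5, 6, 5, 6, 5, 5, 5, 5], 1), ([5, 5, 6, 5, 6, 5, 6, 5, 6, 5, 5], 1)], [([5, 5, 6, 5, 6, 5, 6, 5, 6, 5, 5], 1), ([5, 5, 5, 6, 5, 6, 6, 5,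
    6, 6, 5, 6, 5], 1)], [([6, 6, 5, 5, 6, 6, 5, 6, 5, 6, 5, 5, 6, 6, 5, 5], 1), ([5, 6, 6, 5, 6, 5, 5, 5, 5, 6, 5, 6, 6], 1), ([5, 5, 6, 6, 5, 5, 6,
    6], 1), ([5, 5, 6, 5, 6, 5, 5, 5, 6, 5, 6], 1)], [([6, 6, 5, 5, 6, 6, 5, 6, 5, 6, 5, 5, 6, 6, 5, 5], 1), ([5, 6, 6, 5, 6, 5, 5, 5, 5, 6, 5, 6,
    6], 1), ([5, 5, 6, 6, 5, 5, 6, 6], 1), ([6, 6, 5, 5, 6, 5, 6, 5, 5, 5, 6, 6, 5], 1)]]
  tabs :=
    [0, 0, 0, 0, 0,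
    214517663235583795469343475683183260023102713068455536621771761551275173474343809803622168937656739547795171007619723397054211794707802699704370249082920157825938275078390053729341760916039559576633472806857630849693807707922659324993853080806464699799116542689504436774376504829022023644313350003612292230045836693240965342330413118480336388303516761360338800505132097937993694736925922653383110527943549576173250619225524872231245024263916971692387813411036174336158638251140528317672696017306447431421984478601146777203618660936074211020737299961540549873908034962689151852142116445425926222472891691889784592163496728412221442911356309365338150184076822687720695964615429839675117350494139621148803126229268324180483347031692242115549761443648550282685008441277385323234278433518023294460676785466924353865387889775192239977622806050157241525010997683495524690025618679422642120478834351640027837849476419190370778529516225157333658196944882689,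
    408556135917252389843977305920914801647922013768102908499871236059709367601805454088285132160818174506912371323912137243654822787231359480877663763143046715225021502709833756859152665259012164642504754131607873849657361654345545859797132071246876128403153635307201515674499652538575557900389476246429138168201599805208162427453820069831290807719121837459885057715188575637816241421804042964619807692841274769465112629365961966327164618575254585544429792080733759036053778684611995104818292033569286353721704205395796060577825854381841030391885092657994172873803117036687537516597832516432715703538702407879776023930852221994682791356818551529641878081109737111879831419977084476693666455542283769335368173752593165974931521164460314648015005712268781130961587349849184873698720874232368135961166860211596437758036648014167758254745456574746498368926232522435513579825117383501846775192631204966581974601738874212921040789815483057520505093136322562]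
  rs := e8_rs
  eta := [[], [], [], [], [], e8_e5, e8_e6]
  bs :=
    [[(0, 1), (62, 1), (84, 1)], [(0, 1), (53, 1), (100, 1)], [(16, 1), (58, 1), (126, 1), (129, 1), (174, 1), (259, 1)], [(16, 1), (69, 1), (126,
    1), (154, 1), (261, 1), (269, 1)], [(0, 1), (4, 1), (34, 1), (39, 1), (50, 1), (83, 1), (99, 1), (108, 1), (152, 1), (157, 1), (172, 1), (186,
    1), (221, 1), (291, 1), (299, 1)], [(25, 1), (34, 1), (64, 1), (78, 1), (83, 1), (93, 1), (145, 1), (157, 1), (172, 1), (186, 1), (194, 1), (224,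
    1), (225, 1), (302, 1), (307, 1)], [(1, 1), (3, 1), (5, 1), (6, 1), (10, 1)]]
  ri := [2, 3, 2, 3, 0, 1, 0]
  cbs := e8_cbs
  fin := e8_fin

theorem e8_F : e8.chkF al2 = true := by decide +kernel
theorem e8_T : allL (e8.chkT al2) e8.act = true := by decide +kernel
theorem e8_S : allLt e8.chkS (len e8.bs) = true := by decide +kernel

theorem e8_v (h : Hs ρ) : Valid ρ al2g (fx e8.hl ++ (e8.extra ++ fx e8.cl)) := by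
  refine cert al2ok e8 rfl e8_F e8_T e8_S ?_
  simp only [e8, List.forall_mem_cons, List.not_mem_nil, false_imp_iff, implies_true, and_true]
  exact ⟨conj al2ok (n2a h) [] _ (by decide +kernel),
    conj al2ok (n2b h) [] _ (by decide +kernel),
    conj al2ok (e1_v h) [] _ (by decide +kernel),
    conj al2ok (e3_v h) [] _ (by decide +kernel)⟩

def e0_rs : List Wd :=
    [[], [0], [1], [2], [1, 0], [2, 0], [0, 1], [2, 1], [0, 2], [0, 1, 0], [2, 1, 0], [0, 2, 0], [1, 0, 1], [2, 0, 1], [0, 2, 1], [1, 0, 2], [2, 0,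
    2], [1, 0, 1, 0], [2, 0, 1, 0], [0, 2, 1, 0], [1, 0, 2, 0], [2, 0, 2, 0], [2, 1, 0, 1], [0, 2, 0, 1], [1, 0, 2, 1], [2, 0, 2, 1], [0, 1, 0, 2],
    [2, 1, 0, 2], [2, 1, 0, 1, 0], [0, 2, 0, 1, 0], [1, 0, 2, 1, 0], [2, 0, 2, 1, 0], [0, 1, 0, 2, 0], [2, 1, 0, 2, 0], [0, 2, 1, 0, 1], [1, 0, 2, 0,
    1], [2, 0, 2, 0, 1], [0, 1, 0, 2, 1], [2, 1, 0, 2, 1], [2, 0, 1, 0, 2], [0, 2, 1, 0, 2], [0, 2, 1, 0, 1, 0], [1, 0, 2, 0, 1, 0], [2, 0, 2, 0, 1,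
    0], [0, 1, 0, 2, 1, 0], [2, 1, 0, 2, 1, 0], [2, 0, 1, 0, 2, 0], [0, 2, 1, 0, 2, 0], [1, 0, 2, 1, 0, 1], [2, 0, 2, 1, 0, 1], [0, 1, 0, 2, 0, 1],
    [2, 1, 0, 2, 0, 1], [2, 0, 1, 0, 2, 1], [0, 2, 0, 1, 0, 2], [1, 0, 2, 1, 0, 1, 0], [2, 0, 2, 1, 0, 1, 0], [0, 1, 0, 2, 0, 1, 0], [2, 1, 0, 2, 0,
    1, 0], [2, 0, 1, 0, 2, 1, 0], [0, 2, 0, 1, 0, 2, 0], [0, 1, 0, 2, 1, 0, 1], [2, 0, 1, 0, 2, 0, 1], [0, 1, 0, 2, 1, 0, 1, 0], [2, 0, 1, 0, 2, 0,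
    1, 0]]

def e0_e0 : List Wd :=
    [[], [], [], [], [], [], [], [], [], [], [], [], [], [], [], [], [], [], [], [], [], [], [], [], [], [], [], [], [], [], [], [], [], [], [], [],
    [], [], [], [], [], [], [], [], [], [], [], [], [], [], [], [], [], [], [], [], [], [], [], [], [], [], [], []]

def e0_e1 : List Wd :=
    [[], [], [], [], [], [], [], [], [], [], [], [], [], [], [], [], [], [], [], [], [], [], [], [], [], [], [], [], [], [], [], [], [], [], [], [],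
    [], [], [], [], [], [], [], [], [], [], [], [], [], [], [], [], [], [], [], [], [], [], [], [], [], [], [], []]

def e0_e2 : List Wd :=
    [[], [], [], [], [], [], [], [], [], [], [], [], [], [], [], [], [], [], [], [], [], [], [], [], [], [], [], [], [], [], [], [], [], [], [], [],
    [], [], [], [], [], [], [], [], [], [], [], [], [], [], [], [], [], [], [], [], [], [], [], [], [], [], [], []]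

def e0_fin : Cb :=
    [(1, [], 63)]

def e0_cbs : List (List Cb) :=
    [[[], [], []], [[], [(1, [], 0)], [(1, [], 0)]], [[(1, [], 1)], [], []], [[(1, [], 1)], [(1, [], 2)], [(1, [], 2)]], [[], [], [(1, [], 2)]], [[],
    [(1, [], 4)], [(1, [], 2), (1, [], 3), (1, [], 4)]], [[(1, [], 5)], [], []], [[(1, [], 5)], [(1, [], 6)], [(1, [], 6)]], [[(1, [], 0), (1, [],
    1)], [], []], [[], [(1, [], 8)], [(1, [], 8)]], [[(1, [], 2), (1, [], 3), (1, [], 9)], [], []], [[(1, [], 9)], [(1, [], 10)], [(1, [], 10)]],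
    [[(1, [], 4), (1, [], 5)], [], [(1, [], 10)]], [[], [(1, [], 12)], [(1, [], 10), (1, [], 11), (1, [], 12)]], [[(1, [], 6), (1, [], 7), (1, [],
    13)], [], []], [[(1, [], 13)], [(1, [], 14)], [(1, [], 14)]], [[(1, [], 13)], [(1, [], 12), (1, [], 14)], [(1, [], 8), (1, [], 10), (1, [], 11),
    (1, [], 12), (1, [], 14)]], [[(1, [], 15), (1, [], 16)], [(1, [], 12), (1, [], 14)], [(1, [], 11), (1, [], 12), (1, [], 14)]], [[], [(1, [], 13),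
    (1, [], 15), (1, [], 17)], [(1, [], 11), (1, [], 13), (1, [], 15), (1, [], 17)]], [[(1, [], 18)], [], []], [[(1, [], 13)], [(1, [], 12), (1, [],
    14), (1, [], 16), (1, [], 17)], [(1, [], 8), (1, [], 9), (1, [], 10), (1, [], 12), (1, [], 14), (1, [], 16), (1, [], 17)]], [[(1, [], 15), (1,
    [], 20)], [(1, [], 12), (1, [], 14)], [(1, [], 11), (1, [], 12), (1, [], 14)]], [[], [(1, [], 13), (1, [], 15), (1, [], 19), (1, [], 21)], [(1,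
    [], 11), (1, [], 13), (1, [], 15), (1, [], 19), (1, [], 21)]], [[(1, [], 22)], [(1, [], 19)], [(1, [], 19)]], [[(1, [], 13), (1, [], 15), (1, [],
    20)], [], [(1, [], 12), (1, [], 13), (1, [], 15), (1, [], 19), (1, [], 21)]], [[(1, [], 22)], [(1, [], 24)], [(1, [], 15), (1, [], 19), (1, [],
    21), (1, [], 22), (1, [], 24)]], [[(1, [], 22), (1, [], 23), (1, [], 25)], [], [(1, [], 19)]], [[], [(1, [], 26)], [(1, [], 23), (1, [], 26)]],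
    [[(1, [], 13), (1, [], 15), (1, [], 21), (1, [], 22), (1, [], 23), (1, [], 24), (1, [], 25)], [], [(1, [], 14)]], [[], [(1, [], 28)], [(1, [],
    15), (1, [], 28)]], [[(1, [], 27), (1, [], 29)], [], []], [[(1, [], 27)], [(1, [], 30)], [(1, [], 30)]], [[(1, [], 5), (1, [], 13), (1, [], 16),
    (1, [], 18), (1, [], 20), (1, [], 22), (1, [], 23), (1, [], 25), (1, [], 27)], [(1, [], 4), (1, [], 6), (1, [], 12), (1, [], 14), (1, [], 26),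
    (1, [], 30)], [(1, [], 0), (1, [], 2), (1, [], 3), (1, [], 4), (1, [], 6), (1, [], 8), (1, [], 10), (1, [], 11), (1, [], 12), (1, [], 14), (1,
    [], 19), (1, [], 23), (1, [], 26), (1, [], 30)]], [[(1, [], 7), (1, [], 15), (1, [], 17), (1, [], 18), (1, [], 19), (1, [], 21), (1, [], 22), (1,
    [], 23), (1, [], 25), (1, [], 26), (1, [], 27), (1, [], 29), (1, [], 31), (1, [], 32)], [(1, [], 4), (1, [], 6), (1, [], 12), (1, [], 14), (1,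
    [], 26), (1, [], 30)], [(1, [], 3), (1, [], 4), (1, [], 6), (1, [], 11), (1, [], 12), (1, [], 14), (1, [], 19), (1, [], 23), (1, [], 26), (1, [],
    30)]], [[(1, [], 23), (1, [], 25), (1, [], 29)], [(1, [], 5), (1, [], 7), (1, [], 13), (1, [], 15), (1, [], 27), (1, [], 31), (1, [], 33)], [(1,
    [], 3), (1, [], 5), (1, [], 7), (1, [], 11), (1, [], 13), (1, [], 15), (1, [], 19), (1, [], 23), (1, [], 27), (1, [], 31), (1, [], 33)]], [[(1,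
    [], 23), (1, [], 26), (1, [], 27), (1, [], 30), (1, [], 31), (1, [], 34)], [], []], [[(1, [], 5), (1, [], 7), (1, [], 13), (1, [], 15), (1, [],
    16), (1, [], 17), (1, [], 19), (1, [], 20), (1, [], 21), (1, [], 23), (1, [], 27), (1, [], 29), (1, [], 30), (1, [], 32), (1, [], 34)], [], [(1,
    [], 4), (1, [], 5), (1, [], 7), (1, [], 12), (1, [], 13), (1, [], 15), (1, [], 17), (1, [], 21), (1, [], 26), (1, [], 27), (1, [], 30), (1, [],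
    31), (1, [], 33)]], [[(1, [], 5), (1, [], 7), (1, [], 13), (1, [], 15), (1, [], 16), (1, [], 17), (1, [], 19), (1, [], 20), (1, [], 21), (1, [],
    23), (1, [], 27), (1, [], 29), (1, [], 30), (1, [], 33), (1, [], 34), (1, [], 35), (1, [], 36)], [], [(1, [], 6), (1, [], 14), (1, [], 17), (1,
    [], 21)]], [[], [(1, [], 36), (1, [], 37)], [(1, [], 33), (1, [], 34), (1, [], 35), (1, [], 36), (1, [], 37)]], [[(1, [], 38)], [], []], [[(1,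
    [], 23), (1, [], 25), (1, [], 29)], [(1, [], 35), (1, [], 37)], [(1, [], 7), (1, [], 15), (1, [], 17), (1, [], 18), (1, [], 19), (1, [], 21), (1,
    [], 22), (1, [], 23), (1, [], 37)]], [[(1, [], 25), (1, [], 26), (1, [], 27), (1, [], 29), (1, [], 30), (1, [], 31), (1, [], 40)], [], []], [[],
    [], [(1, [], 30), (1, [], 39), (1, [], 41)]], [[(1, [], 42)], [], [(1, [], 41)]], [[(1, [], 23), (1, [], 25), (1, [], 29)], [(1, [], 35), (1, [],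
    39), (1, [], 41)], [(1, [], 30)]], [[(1, [], 25), (1, [], 26), (1, [], 27), (1, [], 29), (1, [], 30), (1, [], 31), (1, [], 44)], [(1, [], 41)],
    []], [[], [(1, [], 43)], [(1, [], 30), (1, [], 45)]], [[(1, [], 46)], [], [(1, [], 30)]], [[(1, [], 5), (1, [], 13), (1, [], 27)], [(1, [], 4),
    (1, [], 6), (1, [], 12), (1, [], 14), (1, [], 26), (1, [], 30), (1, [], 32), (1, [], 33), (1, [], 35), (1, [], 37)], [(1, [], 0), (1, [], 1), (1,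
    [], 2), (1, [], 4), (1, [], 6), (1, [], 7), (1, [], 8), (1, [], 9), (1, [], 10), (1, [], 12), (1, [], 14), (1, [], 15), (1, [], 17), (1, [], 18),
    (1, [], 21), (1, [], 22), (1, [], 26), (1, [], 30), (1, [], 32), (1, [], 33), (1, [], 37)]], [[(1, [], 7), (1, [], 15), (1, [], 31), (1, [],
    48)], [(1, [], 4), (1, [], 6), (1, [], 12), (1, [], 14), (1, [], 26), (1, [], 30)], [(1, [], 3), (1, [], 4), (1, [], 6), (1, [], 11), (1, [],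
    12), (1, [], 14), (1, [], 19), (1, [], 23), (1, [], 26), (1, [], 30)]], [[], [(1, [], 5), (1, [], 7), (1, [], 13), (1, [], 15), (1, [], 27), (1,
    [], 31), (1, [], 39), (1, [], 49)], [(1, [], 3), (1, [], 5), (1, [], 7), (1, [], 11), (1, [], 13), (1, [], 15), (1, [], 19), (1, [], 23), (1, [],
    27), (1, [], 31), (1, [], 35), (1, [], 39), (1, [], 49)]], [[(1, [], 50)], [(1, [], 39)], [(1, [], 35), (1, [], 39)]], [[(1, [], 5), (1, [], 7),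
    (1, [], 13), (1, [], 15), (1, [], 27), (1, [], 31), (1, [], 48), (1, [], 50)], [(1, [], 39)], [(1, [], 4), (1, [], 5), (1, [], 7), (1, [], 12),
    (1, [], 13), (1, [], 15), (1, [], 26), (1, [], 27), (1, [], 31), (1, [], 49)]], [[(1, [], 5), (1, [], 7), (1, [], 13), (1, [], 15), (1, [], 27),
    (1, [], 31), (1, [], 49), (1, [], 50), (1, [], 51), (1, [], 52)], [(1, [], 39)], [(1, [], 6), (1, [], 14), (1, [], 30)]], [[], [(1, [], 39), (1,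
    [], 52), (1, [], 53)], [(1, [], 49), (1, [], 50), (1, [], 51), (1, [], 52), (1, [], 53)]], [[(1, [], 54)], [(1, [], 39)], []], [[], [(1, [], 42),
    (1, [], 43), (1, [], 51), (1, [], 53)], [(1, [], 7), (1, [], 15), (1, [], 44), (1, [], 45), (1, [], 53)]], [[(1, [], 56)], [], []], [[], [(1, [],
    42), (1, [], 43)], [(1, [], 31), (1, [], 47), (1, [], 55), (1, [], 57)]], [[(1, [], 58)], [], [(1, [], 57)]], [[], [(1, [], 47), (1, [], 51), (1,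
    [], 55), (1, [], 57)], [(1, [], 31), (1, [], 44), (1, [], 45)]], [[(1, [], 60)], [(1, [], 57)], []], [[], [(1, [], 47), (1, [], 59)], [(1, [],
    31), (1, [], 47), (1, [], 61)]], [[(1, [], 62)], [(1, [], 47)], [(1, [], 31), (1, [], 47)]]]

def e0 : Ct where
  p := 2
  m := 64
  act := [0, 1, 2]
  hl := []
  cl := []
  extra := []
  rules :=
    [[([0], 1), ([1], 1), ([2], 1)]]
  tabs :=
    [272021239698965280691118887622036454893248972767142015593215346145193041636131780329716533487927203746232915255831967349224844943682971132785791587936108657266457506170194270800958783154552833,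
    263118882549874711030751501352258565549671830418594779598853308495505647821297900044759369011606203785209438131111434284952519078074178101211255036548932027706524390156764608138750092113874946,
    249765397815378809768857331422774600727397347876080616350347306693266379874218455146849171130208053920463919487365189346719145670457509641050571248397812715273849981356921973806075329008112643]
  rs := e0_rs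
  eta := [e0_e0, e0_e1, e0_e2]
  bs :=
    [[(0, 1), (1, 1), (2, 1), (3, 1), (4, 1), (5, 1), (6, 1), (7, 1), (8, 1), (9, 1), (10, 1), (11, 1), (12, 1), (13, 1), (14, 1), (15, 1), (16, 1),
    (17, 1), (18, 1), (19, 1), (20, 1), (21, 1), (22, 1), (23, 1), (24, 1), (25, 1), (26, 1), (27, 1), (28, 1), (29, 1), (30, 1), (31, 1), (32, 1),
    (33, 1), (34, 1), (35, 1), (36, 1), (37, 1), (38, 1), (39, 1), (40, 1), (41, 1), (42, 1), (43, 1), (44, 1), (45, 1), (46, 1), (47, 1), (48, 1),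
    (49, 1), (50, 1), (51, 1), (52, 1), (53, 1), (54, 1), (55, 1), (56, 1), (57, 1), (58, 1), (59, 1), (60, 1), (61, 1), (62, 1), (63, 1)], [(2, 1),
    (3, 1), (4, 1), (5, 1), (6, 1), (8, 1), (9, 1), (11, 1), (22, 1), (24, 1), (25, 1), (27, 1), (28, 1), (30, 1), (31, 1), (33, 1), (34, 1), (35,
    1), (36, 1), (37, 1), (39, 1), (40, 1), (41, 1), (42, 1), (43, 1), (44, 1), (46, 1), (47, 1), (50, 1), (53, 1), (56, 1), (59, 1)], [(6, 1), (8,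
    1), (9, 1), (11, 1), (12, 1), (13, 1), (15, 1), (16, 1), (17, 1), (18, 1), (20, 1), (21, 1), (22, 1), (23, 1), (26, 1), (27, 1), (28, 1), (29,
    1), (32, 1), (33, 1), (35, 1), (36, 1), (37, 1), (39, 1), (42, 1), (43, 1), (44, 1), (46, 1), (51, 1), (52, 1), (57, 1), (58, 1)], [(6, 1), (8,
    1), (9, 1), (11, 1), (22, 1), (27, 1), (28, 1), (33, 1), (35, 1), (36, 1), (37, 1), (39, 1), (42, 1), (43, 1), (44, 1), (46, 1)], [(0, 1), (1,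
    1), (2, 1), (3, 1), (4, 1), (5, 1), (6, 1), (7, 1), (8, 1), (9, 1), (10, 1), (11, 1), (12, 1), (14, 1), (15, 1), (17, 1), (19, 1), (20, 1), (24,
    1), (25, 1), (26, 1), (30, 1), (31, 1), (32, 1), (36, 1), (37, 1), (38, 1), (43, 1), (44, 1), (45, 1), (51, 1), (57, 1)], [(2, 1), (3, 1), (4,
    1), (5, 1), (6, 1), (8, 1), (9, 1), (11, 1), (24, 1), (25, 1), (30, 1), (31, 1), (36, 1), (37, 1), (43, 1), (44, 1)], [(0, 1), (1, 1), (2, 1),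
    (3, 1), (4, 1), (5, 1), (7, 1), (10, 1), (14, 1), (19, 1), (24, 1), (25, 1), (30, 1), (31, 1), (38, 1), (45, 1)], [(2, 1), (3, 1), (4, 1), (5,
    1), (24, 1), (25, 1), (30, 1), (31, 1)], [(1, 1), (4, 1), (5, 1), (9, 1), (10, 1), (11, 1), (14, 1), (17, 1), (18, 1), (20, 1), (21, 1), (23, 1),
    (24, 1), (25, 1), (26, 1), (28, 1), (33, 1), (35, 1), (36, 1), (37, 1), (38, 1), (39, 1), (41, 1), (47, 1), (50, 1), (51, 1), (52, 1), (53, 1),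
    (54, 1), (55, 1), (60, 1), (61, 1)], [(4, 1), (5, 1), (9, 1), (11, 1), (24, 1), (25, 1), (28, 1), (33, 1), (35, 1), (36, 1), (37, 1), (39, 1),
    (41, 1), (47, 1), (50, 1), (53, 1)], [(9, 1), (11, 1), (17, 1), (18, 1), (20, 1), (21, 1), (23, 1), (26, 1), (28, 1), (33, 1), (35, 1), (36, 1),
    (37, 1), (39, 1), (51, 1), (52, 1)], [(9, 1), (11, 1), (28, 1), (33, 1), (35, 1), (36, 1), (37, 1), (39, 1)], [(1, 1), (4, 1), (5, 1), (9, 1),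
    (10, 1), (11, 1), (14, 1), (17, 1), (20, 1), (24, 1), (25, 1), (26, 1), (36, 1), (37, 1), (38, 1), (51, 1)], [(4, 1), (5, 1), (9, 1), (11, 1),
    (24, 1), (25, 1), (36, 1), (37, 1)], [(1, 1), (4, 1), (5, 1), (10, 1), (14, 1), (24, 1), (25, 1), (38, 1)], [(4, 1), (5, 1), (24, 1), (25, 1)],
    [(0, 1), (1, 1), (2, 1), (3, 1), (4, 1), (6, 1), (7, 1), (8, 1), (11, 1), (12, 1), (13, 1), (14, 1), (15, 1), (16, 1), (17, 1), (21, 1), (22, 1),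
    (23, 1), (24, 1), (26, 1), (27, 1), (33, 1), (34, 1), (35, 1), (36, 1), (40, 1), (47, 1), (48, 1), (49, 1), (50, 1), (55, 1), (60, 1)], [(0, 1),
    (2, 1), (3, 1), (7, 1), (11, 1), (17, 1), (21, 1), (23, 1), (26, 1), (33, 1), (34, 1), (35, 1), (36, 1), (40, 1), (48, 1), (49, 1)], [(2, 1), (3,
    1), (6, 1), (8, 1), (12, 1), (13, 1), (15, 1), (16, 1), (17, 1), (21, 1), (22, 1), (23, 1), (26, 1), (27, 1), (34, 1), (40, 1)], [(6, 1), (8, 1),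
    (12, 1), (13, 1), (15, 1), (16, 1), (22, 1), (27, 1)], [(4, 1), (11, 1), (12, 1), (13, 1), (15, 1), (16, 1), (17, 1), (21, 1), (23, 1), (24, 1),
    (26, 1), (33, 1), (35, 1), (36, 1), (47, 1), (50, 1)], [(11, 1), (17, 1), (21, 1), (23, 1), (26, 1), (33, 1), (35, 1), (36, 1)], [(12, 1), (13,
    1), (15, 1), (16, 1), (17, 1), (21, 1), (23, 1), (26, 1)], [(12, 1), (13, 1), (15, 1), (16, 1)], [(0, 1), (1, 1), (2, 1), (3, 1), (4, 1), (6, 1),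
    (7, 1), (8, 1), (12, 1), (14, 1), (15, 1), (21, 1), (23, 1), (24, 1), (33, 1), (35, 1)], [(0, 1), (1, 1), (7, 1), (12, 1), (14, 1), (15, 1), (21,
    1), (23, 1)], [(0, 1), (2, 1), (3, 1), (6, 1), (7, 1), (8, 1), (12, 1), (15, 1)], [(2, 1), (3, 1), (6, 1), (8, 1)], [(0, 1), (1, 1), (2, 1), (3,
    1), (4, 1), (7, 1), (14, 1), (24, 1)], [(0, 1), (1, 1), (7, 1), (14, 1)], [(0, 1), (2, 1), (3, 1), (7, 1)], [(2, 1), (3, 1)], [(0, 1), (1, 1),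
    (2, 1), (4, 1), (5, 1), (6, 1), (9, 1), (10, 1), (11, 1), (12, 1), (13, 1), (17, 1), (18, 1), (19, 1), (20, 1), (21, 1), (22, 1), (28, 1), (29,
    1), (30, 1), (32, 1), (33, 1), (34, 1), (41, 1), (42, 1), (43, 1), (47, 1), (48, 1), (54, 1), (55, 1), (56, 1), (62, 1)], [(1, 1), (4, 1), (5,
    1), (6, 1), (10, 1), (12, 1), (13, 1), (22, 1), (29, 1), (32, 1), (41, 1), (42, 1), (43, 1), (47, 1), (54, 1), (55, 1)], [(4, 1), (5, 1), (9, 1),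
    (11, 1), (12, 1), (13, 1), (17, 1), (18, 1), (20, 1), (21, 1), (28, 1), (29, 1), (32, 1), (33, 1), (41, 1), (47, 1)], [(9, 1), (11, 1), (17, 1),
    (18, 1), (20, 1), (21, 1), (28, 1), (33, 1)], [(1, 1), (4, 1), (6, 1), (9, 1), (12, 1), (17, 1), (18, 1), (19, 1), (28, 1), (29, 1), (30, 1),
    (34, 1), (41, 1), (42, 1), (48, 1), (54, 1)], [(9, 1), (17, 1), (18, 1), (19, 1), (28, 1), (30, 1), (34, 1), (48, 1)], [(4, 1), (9, 1), (12, 1),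
    (17, 1), (18, 1), (28, 1), (29, 1), (41, 1)], [(9, 1), (17, 1), (18, 1), (28, 1)], [(0, 1), (1, 1), (2, 1), (4, 1), (5, 1), (6, 1), (9, 1), (10,
    1), (11, 1), (12, 1), (13, 1), (17, 1), (19, 1), (21, 1), (22, 1), (34, 1)], [(1, 1), (4, 1), (5, 1), (6, 1), (10, 1), (12, 1), (13, 1), (22,
    1)], [(0, 1), (1, 1), (2, 1), (4, 1), (6, 1), (9, 1), (12, 1), (17, 1)], [(1, 1), (4, 1), (6, 1), (12, 1)], [(0, 1), (1, 1), (2, 1), (5, 1), (6,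
    1), (11, 1), (13, 1), (21, 1)], [(1, 1), (5, 1), (6, 1), (13, 1)], [(0, 1), (1, 1), (2, 1), (6, 1)], [(0, 1), (2, 1)], [(0, 1), (1, 1), (4, 1),
    (5, 1), (9, 1), (10, 1), (11, 1), (18, 1), (19, 1), (20, 1), (29, 1), (30, 1), (32, 1), (42, 1), (43, 1), (56, 1)], [(1, 1), (4, 1), (5, 1), (10,
    1), (29, 1), (32, 1), (42, 1), (43, 1)], [(4, 1), (5, 1), (9, 1), (11, 1), (18, 1), (20, 1), (29, 1), (32, 1)], [(9, 1), (11, 1), (18, 1), (20,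
    1)], [(1, 1), (4, 1), (9, 1), (18, 1), (19, 1), (29, 1), (30, 1), (42, 1)], [(9, 1), (18, 1), (19, 1), (30, 1)], [(4, 1), (9, 1), (18, 1), (29,
    1)], [(9, 1), (18, 1)], [(0, 1), (1, 1), (4, 1), (5, 1), (9, 1), (10, 1), (11, 1), (19, 1)], [(1, 1), (4, 1), (5, 1), (10, 1)], [(0, 1), (1, 1),
    (4, 1), (9, 1)], [(1, 1), (4, 1)], [(0, 1), (1, 1), (5, 1), (11, 1)], [(1, 1), (5, 1)], [(0, 1), (1, 1)], [(0, 1)]]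
  ri := [0, 0, 0, 0, 0, 0, 0, 0, 0, 0, 0, 0, 0, 0, 0, 0, 0, 0, 0, 0, 0, 0, 0, 0, 0, 0, 0, 0, 0, 0, 0, 0, 0, 0, 0, 0, 0, 0, 0, 0, 0, 0, 0, 0, 0, 0, 0, 0, 0, 0, 0, 0, 0, 0, 0, 0, 0, 0, 0, 0, 0, 0, 0, 0]
  cbs := e0_cbs
  fin := e0_fin

theorem e0_F : e0.chkF al2 = true := by decide +kernel
theorem e0_T : allL (e0.chkT al2) e0.act = true := by decide +kernel
theorem e0_S : allLt e0.chkS (len e0.bs) = true := by decide +kernel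

theorem e0_v (h : Hs ρ) : Valid ρ al2g (fx e0.hl ++ (e0.extra ++ fx e0.cl)) := by
  refine cert al2ok e0 rfl e0_F e0_T e0_S ?_
  simp only [e0, List.forall_mem_cons, List.not_mem_nil, false_imp_iff, implies_true, and_true]
  exact conj al2ok (e8_v h) [] _ (by decide +kernel)

/-- Over the field with two elements every non-zero module of the alternating group of degree nine has a
non-zero vector fixed by a non-solvable subgroup. -/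
theorem m2 (h : Hs ρ) (v : V) : v = 0 := e0_v h v (fun q hq => absurd hq List.not_mem_nil)

theorem eqns_m2 : True := by
  have := @e8_rs.eq_1
  have := @e8_e5.eq_1
  have := @e8_e6.eq_1
  have := @e8_fin.eq_1
  have := @e8_cbs.eq_1
  have := @e8.eq_1
  have := @e0_rs.eq_1
  have := @e0_e0.eq_1
  have := @e0_e1.eq_1
  have := @e0_e2.eq_1
  have := @e0_fin.eq_1
  have := @e0_cbs.eq_1
  have := @e0.eq_1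
  trivial

end H87.Spc
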