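import Mathlib
import Cfsg.Agent.Lib.SPC.Snd

set_option autoImplicit false
set_option maxRecDepth 100000

namespace H87.Spc

open H54

abbrev al5 : Al := ⟨10, 11, 2883070727528762558636988074085963341304466134089569876604333651333436528690996063569815267060491863173099882115554936580131187580138444960120408112318917606112284244266883395680904180034827114374396912385⟩

def al5g : ℕ → alternatingGroup (Fin 10) := gn
    [[(0, 1, 2, 3)], [(0, 2, 1, 3)], [(0, 1, 1, 2)], [(0, 1, 1, 2), (2, 3, 3, 4)], [(5, 6, 7, 8)], [(5, 7, 6, 8)], [(5, 6, 6, 7)], [(5, 6, 6, 7), (7,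
    8, 8, 9)], [(6, 9, 7, 8)], [(4, 5, 5, 6)], [(0, 5, 1, 6), (2, 7, 3, 8)]]

theorem al5ok : al5.Ok al5g := ok_of al5 _ rfl (by decide +kernel)

variable {V : Type*} [AddCommGroup V] [Module (ZMod 5) V]
  {ρ : Representation (ZMod 5) (alternatingGroup (Fin 10)) V}

theorem n5a (h : Hs ρ) : Valid ρ al5g [([2], 1), ([3], 1)] :=
  ns al5ok h _ _ [false, false] [false, true, false, true] [true] [true, false, true, false]
    (by decide +kernel) (by decide +kernel) (by decide +kernel)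

theorem n5b (h : Hs ρ) : Valid ρ al5g [([6, 2], 1), ([7, 3], 1)] :=
  ns al5ok h _ _ [false, false] [false, true, false, true] [true] [true, false, true, false]
    (by decide +kernel) (by decide +kernel) (by decide +kernel)

def f1_rs : List Wd :=
    [[], [3], [6], [8], [2, 3], [6, 3], [8, 3], [6, 6], [7, 6], [8, 6], [2, 2, 3], [6, 2, 3], [8, 2, 3], [6, 6, 3], [7, 6, 3], [8, 6, 3], [7, 6, 6],
    [8, 6, 6], [6, 7, 6], [6, 8, 6], [7, 8, 6], [3, 2, 2, 3], [6, 2, 2, 3], [8, 2, 2, 3], [6, 6, 2, 3], [7, 6, 2, 3], [8, 6, 2, 3], [7, 6, 6, 3], [8,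
    6, 6, 3], [6, 7, 6, 3], [6, 8, 6, 3], [7, 8, 6, 3], [7, 7, 6, 6], [6, 3, 2, 2, 3], [8, 3, 2, 2, 3], [6, 6, 2, 2, 3], [7, 6, 2, 2, 3], [8, 6, 2,
    2, 3], [7, 6, 6, 2, 3], [8, 6, 6, 2, 3], [6, 7, 6, 2, 3], [6, 8, 6, 2, 3], [7, 8, 6, 2, 3], [7, 7, 6, 6, 3], [6, 6, 3, 2, 2, 3], [7, 6, 3, 2, 2,
    3], [8, 6, 3, 2, 2, 3], [7, 6, 6, 2, 2, 3], [8, 6, 6, 2, 2, 3], [6, 7, 6, 2, 2, 3], [6, 8, 6, 2, 2, 3], [7, 8, 6, 2, 2, 3], [7, 7, 6, 6, 2, 3],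
    [7, 6, 6, 3, 2, 2, 3], [8, 6, 6, 3, 2, 2, 3], [6, 7, 6, 3, 2, 2, 3], [6, 8, 6, 3, 2, 2, 3], [7, 8, 6, 3, 2, 2, 3], [7, 7, 6, 6, 2, 2, 3], [7, 7,
    6, 6, 3, 2, 2, 3]]

def f1_e2 : List Wd :=
    [[2], [], [2], [2], [], [], [], [2], [2], [2], [], [], [], [], [], [], [2], [2], [2], [2], [2], [2, 0, 2], [], [], [], [], [], [], [], [], [],
    [], [2], [2, 0, 2], [2, 0, 2], [], [], [], [], [], [], [], [], [], [2, 0, 2], [2, 0, 2], [2, 0, 2], [], [], [], [], [], [], [2, 0, 2], [2, 0, 2],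
    [2, 0, 2], [2, 0, 2], [2, 0, 2], [], [2, 0, 2]]

def f1_e3 : List Wd :=
    [[], [2, 2, 0], [], [], [2, 0], [2, 2, 0], [2, 2, 0], [], [], [], [], [2, 0], [2, 0], [2, 2, 0], [2, 2, 0], [2, 2, 0], [], [], [], [], [], [2, 2,
    0, 2], [], [], [2, 0], [2, 0], [2, 0], [2, 2, 0], [2, 2, 0], [2, 2, 0], [2, 2, 0], [2, 2, 0], [], [2, 2, 0, 2], [2, 2, 0, 2], [], [], [], [2, 0],
    [2, 0], [2, 0], [2, 0], [2, 0], [2, 2, 0], [2, 2, 0, 2], [2, 2, 0, 2], [2, 2, 0, 2], [], [], [], [], [], [2, 0], [2, 2, 0, 2], [2, 2, 0, 2], [2,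
    2, 0, 2], [2, 2, 0, 2], [2, 2, 0, 2], [], [2, 2, 0, 2]]

def f1_e6 : List Wd :=
    [[], [], [], [7, 7, 7, 7], [], [], [7, 7, 7, 7], [], [], [], [], [], [7, 7, 7, 7], [], [], [], [7, 7, 7], [7], [7, 7, 7, 7], [7], [7, 7, 7, 7],
    [], [], [7, 7, 7, 7], [], [], [], [7, 7, 7], [7], [7, 7, 7, 7], [7], [7, 7, 7, 7], [7, 7, 7], [], [7, 7, 7, 7], [], [], [], [7, 7, 7], [7], [7,
    7, 7, 7], [7], [7, 7, 7, 7], [7, 7, 7], [], [], [], [7, 7, 7], [7], [7, 7, 7, 7], [7], [7, 7, 7, 7], [7, 7, 7], [7, 7, 7], [7], [7, 7, 7, 7],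
    [7], [7, 7, 7, 7], [7, 7, 7], [7, 7, 7]]

def f1_e7 : List Wd :=
    [[7], [7], [], [7, 7, 7, 7], [7], [], [7, 7, 7, 7], [], [7, 7, 7], [], [7], [], [7, 7, 7, 7], [], [7, 7, 7], [], [], [7, 7, 7], [7, 7, 7, 7],
    [7], [7, 7], [7], [], [7, 7, 7, 7], [], [7, 7, 7], [], [], [7, 7, 7], [7, 7, 7, 7], [7], [7, 7], [7, 7], [], [7, 7, 7, 7], [], [7, 7, 7], [], [],
    [7, 7, 7], [7, 7, 7, 7], [7], [7, 7], [7, 7], [], [7, 7, 7], [], [], [7, 7, 7], [7, 7, 7, 7], [7], [7, 7], [7, 7], [], [7, 7, 7], [7, 7, 7, 7],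
    [7], [7, 7], [7, 7], [7, 7]]

def f1_e8 : List Wd :=
    [[], [], [], [], [], [], [], [], [7], [], [], [], [], [], [7], [], [7, 7, 7, 7], [], [7, 7, 7, 7], [7], [7, 7, 7], [], [], [], [], [7], [], [7,
    7, 7, 7], [], [7, 7, 7, 7], [7], [7, 7, 7], [7, 7], [], [], [], [7], [], [7, 7, 7, 7], [], [7, 7, 7, 7], [7], [7, 7, 7], [7, 7], [], [7], [], [7,
    7, 7, 7], [], [7, 7, 7, 7], [7], [7, 7, 7], [7, 7], [7, 7, 7, 7], [], [7, 7, 7, 7], [7], [7, 7, 7], [7, 7], [7, 7]]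

def f1_fin : Cb :=
    [(4, [], 5)]

def f1_cbs : List (List Cb) :=
    [[], [[], []], [[(2, [7, 6], 0), (3, [7, 6, 3], 0), (3, [7, 6, 6], 0), (1, [7, 6, 2, 3], 0), (4, [7, 6, 6, 3], 0), (4, [7, 6, 2, 2, 3], 0), (1,
    [7, 6, 6, 2, 3], 0), (2, [7, 6, 6, 2, 2, 3], 0)], [(3, [6, 3], 0), (1, [6, 2, 3], 0), (2, [6, 2, 2, 3], 0), (2, [6, 7, 6, 3], 0), (4, [6, 3, 2,
    2, 3], 0), (1, [6, 7, 6, 2, 3], 0), (4, [6, 7, 6, 2, 2, 3], 0), (3, [6, 7, 6, 3, 2, 2, 3], 0), (1, [], 1), (1, [6], 1), (1, [6, 6], 1), (2, [7,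
    6], 1), (3, [7, 6, 6], 1), (2, [6, 7, 6], 1)]], [[], [(1, [3], 0), (1, [6], 0), (2, [2, 3], 0), (2, [6, 3], 0), (2, [7, 6], 0), (2, [2, 2, 3],
    0), (4, [6, 2, 3], 0), (4, [6, 6, 3], 0), (1, [7, 6, 3], 0), (3, [7, 6, 6], 0), (4, [6, 7, 6], 0), (3, [6, 2, 2, 3], 0), (4, [6, 6, 2, 3], 0),
    (4, [7, 6, 2, 3], 0), (3, [7, 6, 6, 3], 0), (4, [6, 7, 6, 3], 0), (2, [6, 6, 2, 2, 3], 0), (3, [7, 6, 2, 2, 3], 0), (4, [7, 6, 6, 2, 3], 0), (2,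
    [6, 7, 6, 2, 2, 3], 0), (3, [], 1), (2, [6], 1), (4, [6, 6], 1), (1, [7, 6], 1), (1, [7, 6, 6], 1), (3, [6, 7, 6], 1), (4, [], 2), (4, [2], 2),
    (1, [6], 2), (1, [7], 2), (3, [8], 2), (4, [3, 2], 2), (1, [7, 2], 2), (2, [8, 2], 2)]], [[], [(2, [], 0), (3, [3], 0), (2, [6], 0), (4, [2, 3],
    0), (1, [6, 3], 0), (1, [6, 6], 0), (2, [7, 6], 0), (1, [2, 2, 3], 0), (3, [6, 2, 3], 0), (4, [6, 6, 3], 0), (1, [7, 6, 3], 0), (4, [6, 2, 2, 3],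
    0), (3, [6, 6, 2, 3], 0), (4, [7, 6, 2, 3], 0), (2, [6, 6, 2, 2, 3], 0), (3, [7, 6, 2, 2, 3], 0), (3, [7, 6, 6, 2, 3], 0), (2, [7, 6, 6, 2, 2,
    3], 0), (4, [], 1), (4, [6], 1), (4, [7, 6], 1), (3, [7, 6, 6], 1), (4, [6, 7, 6], 1), (3, [], 2), (1, [2], 2), (3, [3], 2), (1, [6], 2), (1, [3,
    2], 2), (3, [8, 2], 2)]], [[], [(4, [], 0), (2, [3], 0), (4, [6], 0), (3, [2, 3], 0), (1, [6, 6], 0), (3, [7, 6], 0), (1, [2, 2, 3], 0), (4, [6,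
    2, 3], 0), (4, [7, 6, 3], 0), (1, [7, 6, 6], 0), (2, [6, 2, 2, 3], 0), (4, [6, 6, 2, 3], 0), (1, [7, 6, 2, 3], 0), (2, [7, 6, 6, 3], 0), (1, [6,
    7, 6, 3], 0), (2, [7, 6, 2, 2, 3], 0), (4, [7, 6, 6, 2, 3], 0), (1, [6, 7, 6, 2, 3], 0), (3, [7, 6, 6, 2, 2, 3], 0), (3, [6, 7, 6, 2, 2, 3], 0),
    (3, [6, 6], 1), (2, [7, 6], 1), (1, [7, 6, 6], 1), (3, [6, 7, 6], 1), (2, [], 2), (2, [2], 2), (2, [3], 2), (4, [6], 2), (2, [7], 2), (2, [8],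
    2), (3, [7, 2], 2), (1, [8, 2], 2), (3, [], 4), (4, [2], 4), (3, [3], 4), (1, [6], 4), (4, [7], 4), (3, [8], 4), (3, [3, 2], 4), (2, [7, 2],
    4)]]]

def f1 : Ct where
  p := 5
  m := 60
  act := [2, 3, 6, 7, 8]
  hl := [0, 2, 7]
  cl := []
  extra := [([8], 4)]
  rules :=
    [[([2], 1), ([3], 1)], [([6, 2], 1), ([7, 3], 1)]]
  tabs :=
    [0, 0,
    239253800372782437769439909022376059230085128242590572744739983453235725562980532300024786384931101861481754377387572233596425292265964797403436022463596092510521865622104875995136,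
    129905918789043787475354154472554469700434770067434477100098024750692654696742051751364570962086924089123517019990704248982135619736155307068731444051267556210631352285230198165505,
    0, 0,
    214956069378108803143409658612501482977613521115413602068947257562925897183756722520179912597201063806842230264683969926465366407648968563018708328283536060534685573393461615268866,
    133811899744649898970299073830653490691437040014125644967957420976555120403723465895411812899122138552041790231697527054446451292007318898151822036660933076798625283053732778476544,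
    231180943786416573455131419242987984359769718934792377445065954582609983901845035277871855862809476160071954034332605688281618421311032968038861291558010218744446295604189501331459]
  rs := f1_rs
  eta := [[], [], f1_e2, f1_e3, [], [], f1_e6, f1_e7, f1_e8]
  bs :=
    [[(0, 1), (3, 1)], [(0, 1), (1, 1), (4, 1), (10, 1), (21, 1)], [(0, 1), (1, 2), (2, 1), (4, 3), (5, 4), (7, 1), (8, 2), (10, 4), (11, 2), (13,
    3), (14, 3), (16, 3), (18, 2), (22, 3), (24, 4), (25, 1), (27, 4), (29, 4), (35, 2), (36, 4), (38, 1), (40, 3), (47, 2), (49, 1)], [(0, 4), (2,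
    2), (7, 2), (8, 1)], [(0, 1), (2, 1), (4, 3), (5, 1), (7, 1), (10, 1), (13, 3), (22, 3), (24, 1)], [(0, 1)]]
  ri := [0, 0, 1, 0, 1, 0]
  cbs := f1_cbs
  fin := f1_fin

theorem f1_F : f1.chkF al5 = true := by decide +kernel
theorem f1_T : allL (f1.chkT al5) f1.act = true := by decide +kernel
theorem f1_S : allLt f1.chkS (len f1.bs) = true := by decide +kernel

theorem f1_v (h : Hs ρ) : Valid ρ al5g (fx f1.hl ++ (f1.extra ++ fx f1.cl)) := by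
  refine cert al5ok f1 rfl f1_F f1_T f1_S ?_
  simp only [f1, List.forall_mem_cons, List.not_mem_nil, false_imp_iff, implies_true, and_true]
  exact ⟨conj al5ok (n5a h) [] _ (by decide +kernel),
    conj al5ok (n5b h) [] _ (by decide +kernel)⟩

theorem n5c (h : Hs ρ) : Valid ρ al5g [([9, 7, 9, 8, 7, 8], 1), ([7], 1)] :=
  ns al5ok h _ _ [false, false] [false, true, false, true] [true] [true, false, true, false]
    (by decide +kernel) (by decide +kernel) (by decide +kernel)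

theorem n5d (h : Hs ρ) : Valid ρ al5g [([7], 1), ([9, 7, 7, 9, 7, 7], 1)] :=
  ns al5ok h _ _ [true, true, false, true] [false, true, false] [true, false, true, true] [true, false, true, true, false]
    (by decide +kernel) (by decide +kernel) (by decide +kernel)

def f2_rs : List Wd :=
    [[], [9], [8], [7, 9], [9, 9], [8, 9], [9, 8], [7, 7, 9], [9, 7, 9], [8, 7, 9], [7, 9, 9], [8, 9, 9], [7, 8, 9], [9, 8, 9], [7, 9, 8], [8, 9, 8],
    [7, 7, 7, 9], [9, 7, 7, 9], [8, 7, 7, 9], [7, 9, 7, 9], [9, 9, 7, 9], [8, 9, 7, 9], [9, 8, 7, 9], [7, 7, 9, 9], [9, 7, 9, 9], [8, 7, 9, 9], [9,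
    8, 9, 9], [7, 7, 8, 9], [8, 7, 8, 9], [7, 9, 8, 9], [9, 9, 8, 9], [8, 9, 8, 9], [7, 7, 9, 8], [8, 7, 9, 8], [9, 8, 9, 8], [7, 9, 7, 7, 9], [9, 9,
    7, 7, 9], [8, 9, 7, 7, 9], [9, 8, 7, 7, 9], [7, 7, 9, 7, 9], [8, 7, 9, 7, 9], [7, 9, 9, 7, 9], [8, 9, 9, 7, 9], [9, 8, 9, 7, 9], [7, 9, 8, 7, 9],
    [9, 9, 8, 7, 9], [8, 9, 8, 7, 9], [9, 7, 7, 9, 9], [7, 9, 7, 9, 9], [9, 9, 7, 9, 9], [8, 9, 7, 9, 9], [7, 9, 8, 9, 9], [9, 9, 8, 9, 9], [8, 9, 8,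
    9, 9], [9, 8, 7, 8, 9], [7, 7, 9, 8, 9], [9, 7, 9, 8, 9], [8, 7, 9, 8, 9], [7, 9, 9, 8, 9], [8, 9, 9, 8, 9], [9, 7, 7, 9, 8], [9, 8, 7, 9, 8],
    [7, 7, 9, 7, 7, 9], [8, 9, 8, 7, 7, 9], [7, 7, 7, 9, 7, 9], [8, 7, 7, 9, 7, 9], [9, 8, 7, 9, 7, 9], [9, 8, 9, 9, 7, 9], [7, 7, 9, 8, 7, 9], [8,
    7, 9, 8, 7, 9], [7, 9, 9, 8, 7, 9], [8, 9, 9, 8, 7, 9]]

def f2_e7 : List Wd :=
    [[7], [], [7, 7, 7, 7], [], [], [], [], [], [], [], [], [7, 7, 7, 7], [], [], [], [7], [], [], [], [], [], [], [], [7, 7, 7, 7], [], [], [], [],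
    [], [], [], [], [7], [], [], [], [7, 7, 7, 7], [], [], [], [], [7, 7], [], [7], [], [], [], [7, 7, 7, 7], [7, 7, 7], [7, 7], [], [7, 7], [7, 7],
    [], [7, 7], [7, 7, 7], [7, 7, 7], [], [], [], [7, 7, 7], [7], [7, 7, 7], [7, 7], [], [], [7, 7], [7, 7, 7], [7, 7, 7, 7], [], [7, 7, 7, 7], []]

def f2_e8 : List Wd :=
    [[], [], [], [], [], [], [], [], [], [], [], [], [], [], [], [], [], [], [], [], [], [], [], [7, 7, 7, 7], [], [], [], [], [], [], [], [], [7],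
    [], [], [7, 7], [7], [], [], [], [], [7, 7, 7], [], [7], [], [], [], [7, 7, 7, 7], [7, 7, 7], [7, 7], [], [7, 7, 7, 7], [], [], [7, 7], [7, 7],
    [7, 7, 7], [], [], [], [7, 7, 7], [7], [7, 7, 7, 7], [], [], [], [7, 7], [7], [7, 7, 7, 7], [], [7, 7, 7], []]

def f2_e9 : List Wd :=
    [[], [], [], [], [], [], [7], [], [], [], [], [], [7, 7, 7, 7], [], [7, 7], [], [7, 7], [], [], [7, 7, 7], [], [], [], [], [], [7, 7, 7], [], [7,
    7, 7, 7], [], [], [], [7], [], [], [7, 7], [7, 7, 7], [], [7, 7, 7, 7], [7, 7], [7], [], [7, 7, 7, 7], [], [7, 7, 7], [7, 7], [], [7, 7, 7, 7],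
    [7, 7, 7], [7, 7, 7, 7], [], [7], [7, 7, 7, 7], [], [], [7, 7, 7, 7], [7], [7], [7, 7], [], [7, 7, 7, 7], [], [7, 7, 7], [7, 7], [], [7], [7, 7,
    7], [7], [7, 7, 7, 7], [7, 7], [7, 7, 7], [7], [7]]

def f2_fin : Cb :=
    [(4, [], 0), (2, [9], 0), (1, [7, 9], 0), (4, [8, 9], 0), (1, [7, 7, 9], 0), (1, [9, 7, 9], 0), (4, [8, 7, 9], 0), (3, [7, 9, 9], 0), (2, [9, 8,
    9], 0), (3, [9, 7, 7, 9], 0), (3, [8, 7, 7, 9], 0), (4, [7, 9, 7, 9], 0), (2, [9, 9, 7, 9], 0), (1, [9, 7, 9, 9], 0), (4, [8, 9, 8, 9], 0), (4,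
    [7, 9, 7, 7, 9], 0), (1, [9, 9, 7, 7, 9], 0), (3, [9, 8, 7, 7, 9], 0), (4, [7, 7, 9, 7, 9], 0), (2, [7, 9, 9, 7, 9], 0), (4, [8, 9, 9, 7, 9], 0),
    (4, [7, 9, 8, 7, 9], 0), (2, [9, 9, 8, 7, 9], 0), (3, [8, 9, 8, 7, 9], 0), (2, [7, 9, 7, 9, 9], 0), (2, [8, 9, 7, 9, 9], 0), (4, [7, 7, 7, 9, 7,
    9], 0), (1, [9, 8, 7, 9, 7, 9], 0), (3, [], 1), (4, [9], 1), (1, [7, 9], 1), (4, [7, 7, 9], 1), (4, [9, 7, 9], 1), (4, [7, 9, 9], 1), (2, [8, 9,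
    9], 1), (3, [9, 8, 9], 1), (2, [7, 7, 7, 9], 1), (4, [9, 7, 7, 9], 1), (4, [8, 7, 7, 9], 1), (3, [7, 9, 7, 9], 1), (4, [8, 9, 8, 9], 1), (1, [],
    2), (4, [9], 2), (1, [7, 9], 2), (4, [7, 7, 9], 2), (1, [], 3), (2, [9], 3), (2, [7, 9], 3), (1, [9, 9], 3), (2, [9, 7, 9], 3), (2, [], 4), (2,
    [], 5), (4, [9], 5), (2, [9, 9], 5), (2, [8, 9], 5), (2, [7, 7, 9], 5), (3, [9, 7, 9], 5), (4, [8, 7, 9], 5)]

def f2_cbs : List (List Cb) :=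
    [[[], []], [[], []], [[], []], [[], []], [[(3, [], 0), (1, [9], 0), (2, [7, 9], 0), (2, [9, 9], 0), (2, [7, 7, 9], 0), (3, [9, 7, 9], 0), (2, [7,
    9, 9], 0), (1, [8, 9, 9], 0), (4, [9, 8, 9], 0), (2, [7, 7, 7, 9], 0), (3, [9, 7, 7, 9], 0), (1, [8, 7, 7, 9], 0), (4, [7, 9, 7, 9], 0), (1, [9,
    8, 7, 9], 0), (1, [9, 7, 9, 9], 0), (3, [8, 9, 8, 9], 0), (2, [9, 9, 7, 7, 9], 0), (1, [9, 8, 7, 7, 9], 0), (2, [7, 7, 9, 7, 9], 0), (1, [8, 7,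
    9, 7, 9], 0), (4, [7, 9, 9, 7, 9], 0), (1, [8, 9, 9, 7, 9], 0), (3, [7, 9, 8, 7, 9], 0), (3, [8, 9, 8, 7, 9], 0), (2, [7, 9, 7, 9, 9], 0), (2,
    [9, 9, 7, 9, 9], 0), (4, [8, 9, 7, 9, 9], 0), (2, [9, 8, 7, 9, 7, 9], 0), (4, [9, 8, 9, 9, 7, 9], 0), (1, [], 1), (3, [9], 1), (4, [9, 9], 1),
    (1, [8, 9], 1), (4, [7, 7, 9], 1), (1, [9, 7, 9], 1), (4, [8, 7, 9], 1), (2, [7, 9, 9], 1), (4, [8, 9, 9], 1), (3, [7, 7, 7, 9], 1), (3, [9, 7,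
    7, 9], 1), (4, [7, 9, 7, 9], 1), (1, [8, 9, 8, 9], 1), (4, [7, 9], 2), (1, [7, 7, 9], 2), (4, [], 3), (4, [9], 3), (2, [9, 7, 9], 3)], [(2, [],
    0), (3, [9], 0), (4, [7, 9], 0), (4, [9, 9], 0), (2, [8, 9], 0), (4, [7, 7, 9], 0), (4, [9, 7, 9], 0), (1, [8, 7, 9], 0), (1, [8, 9, 9], 0), (1,
    [9, 8, 9], 0), (3, [7, 7, 7, 9], 0), (4, [9, 7, 7, 9], 0), (3, [8, 7, 7, 9], 0), (4, [7, 9, 7, 9], 0), (4, [9, 9, 7, 9], 0), (2, [9, 8, 9, 9],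
    0), (4, [8, 9, 8, 9], 0), (4, [7, 9, 7, 7, 9], 0), (1, [9, 9, 7, 7, 9], 0), (4, [9, 8, 7, 7, 9], 0), (3, [7, 7, 9, 7, 9], 0), (3, [8, 7, 9, 7,
    9], 0), (2, [8, 9, 9, 7, 9], 0), (2, [7, 9, 8, 7, 9], 0), (2, [9, 9, 8, 7, 9], 0), (2, [8, 9, 8, 7, 9], 0), (3, [9, 9, 7, 9, 9], 0), (1, [8, 9,
    7, 9, 9], 0), (4, [9, 8, 7, 9, 7, 9], 0), (2, [9, 8, 9, 9, 7, 9], 0), (2, [], 1), (1, [9], 1), (1, [9, 9], 1), (3, [8, 9], 1), (3, [7, 7, 9], 1),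
    (3, [8, 7, 9], 1), (2, [7, 9, 9], 1), (2, [8, 9, 9], 1), (4, [9, 8, 9], 1), (1, [7, 7, 7, 9], 1), (1, [9, 7, 7, 9], 1), (4, [8, 7, 7, 9], 1), (1,
    [7, 9, 7, 9], 1), (1, [8, 9, 8, 9], 1), (4, [], 2), (3, [7, 9], 2), (3, [8, 7, 9], 2), (4, [7, 7, 7, 9], 2), (1, [], 3), (1, [9], 3), (1, [7, 9],
    3), (1, [9, 9], 3), (2, [9, 7, 9], 3)]], [[(4, [], 0), (3, [9], 0), (4, [7, 9], 0), (2, [9, 9], 0), (3, [8, 9], 0), (4, [7, 7, 9], 0), (4, [9, 7,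
    9], 0), (3, [8, 7, 9], 0), (2, [7, 9, 9], 0), (4, [8, 9, 9], 0), (2, [7, 7, 7, 9], 0), (1, [9, 7, 7, 9], 0), (1, [8, 7, 7, 9], 0), (3, [7, 9, 7,
    9], 0), (4, [9, 9, 7, 9], 0), (2, [9, 8, 7, 9], 0), (1, [9, 7, 9, 9], 0), (3, [9, 8, 9, 9], 0), (4, [8, 9, 8, 9], 0), (3, [7, 9, 7, 7, 9], 0),
    (2, [9, 9, 7, 7, 9], 0), (3, [7, 7, 9, 7, 9], 0), (3, [8, 7, 9, 7, 9], 0), (3, [7, 9, 9, 7, 9], 0), (3, [8, 9, 9, 7, 9], 0), (1, [9, 9, 8, 7, 9],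
    0), (2, [9, 9, 7, 9, 9], 0), (4, [8, 9, 7, 9, 9], 0), (3, [7, 7, 7, 9, 7, 9], 0), (1, [9, 8, 7, 9, 7, 9], 0), (1, [9, 8, 9, 9, 7, 9], 0), (3, [],
    1), (4, [9], 1), (1, [9, 9], 1), (4, [9, 7, 9], 1), (1, [8, 7, 9], 1), (4, [7, 9, 9], 1), (4, [8, 9, 9], 1), (4, [9, 8, 9], 1), (1, [7, 9, 7, 9],
    1), (4, [], 2), (2, [7, 7, 7, 9], 2), (3, [9], 3), (3, [7, 9], 3), (3, [9, 9], 3), (1, [], 4)], [(4, [], 0), (2, [9], 0), (2, [7, 9], 0), (2, [9,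
    9], 0), (4, [8, 9], 0), (2, [7, 7, 9], 0), (3, [9, 7, 9], 0), (3, [8, 7, 9], 0), (2, [8, 9, 9], 0), (1, [9, 8, 9], 0), (1, [7, 7, 7, 9], 0), (1,
    [9, 7, 7, 9], 0), (3, [8, 7, 7, 9], 0), (4, [7, 9, 7, 9], 0), (1, [9, 9, 7, 9], 0), (3, [9, 8, 7, 9], 0), (4, [9, 7, 9, 9], 0), (4, [7, 9, 7, 7,
    9], 0), (3, [9, 9, 7, 7, 9], 0), (2, [9, 8, 7, 7, 9], 0), (3, [7, 7, 9, 7, 9], 0), (1, [7, 9, 9, 7, 9], 0), (2, [8, 9, 9, 7, 9], 0), (2, [9, 9,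
    8, 7, 9], 0), (2, [8, 9, 8, 7, 9], 0), (3, [7, 9, 7, 9, 9], 0), (3, [9, 9, 7, 9, 9], 0), (4, [8, 9, 7, 9, 9], 0), (2, [7, 7, 7, 9, 7, 9], 0), (3,
    [9, 8, 7, 9, 7, 9], 0), (4, [9, 8, 9, 9, 7, 9], 0), (2, [], 1), (1, [9, 9], 1), (4, [8, 9], 1), (3, [7, 7, 9], 1), (2, [7, 9, 9], 1), (3, [7, 7,
    7, 9], 1), (2, [8, 7, 7, 9], 1), (1, [7, 9, 7, 9], 1), (1, [8, 9, 8, 9], 1), (1, [9], 2), (1, [7, 7, 9], 2), (1, [7, 7, 7, 9], 2), (4, [], 3),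
    (1, [9, 7, 9], 3), (3, [], 4)]]]

def f2 : Ct where
  p := 5
  m := 72
  act := [7, 9, 8]
  hl := [7]
  cl := [0, 2]
  extra := []
  rules :=
    [[([9, 7, 9, 8, 7, 8], 1), ([7], 1)], [([7], 1), ([9, 7, 7, 9, 7, 7], 1)], [([7], 1), ([8], 4)]]
  tabs :=
    [0, 0, 0, 0, 0, 0, 0,
    91921111491056312398957368554453507525606461828887660654399079931741464058161234127574249543225025002394209866351575474319190674217660848582299462651742519928293315397543031600786769811172432060080529164499213618176,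
    242734457640623676471049585738353370196340745129545256873648426087218797611655343054760273553744525711591664679631664372648407357139123815153198989820120925457098990968829453767001647517079190102544390960313807148034,
    312689015283954985071896769484264779684047003758399597075596394224754356303934147454241322867804525621999492209365493941318503391363587876546624382952608555514499471328978177953527084098369792218797404222089546698753]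
  rs := f2_rs
  eta := [[], [], [], [], [], [], [], f2_e7, f2_e8, f2_e9]
  bs :=
    [[(0, 1), (2, 4)], [(1, 1), (3, 1), (5, 4), (7, 1), (9, 4), (12, 4), (16, 1), (18, 4), (27, 4), (28, 1)], [(0, 1), (2, 1), (8, 1), (19, 1), (21,
    1), (30, 1), (39, 1), (40, 1), (58, 1), (59, 1), (64, 1), (65, 1)], [(0, 1), (2, 1), (17, 1), (35, 1), (37, 1), (45, 1), (60, 1), (62, 1), (66,
    1), (67, 1), (70, 1), (71, 1)], [(0, 3), (1, 2), (3, 2), (4, 1), (5, 3), (7, 4), (8, 1), (9, 3), (10, 1)], [(0, 1), (1, 2), (3, 4), (4, 1), (5,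
    2), (7, 3), (8, 3), (9, 1)]]
  ri := [2, 2, 0, 1, 0, 2]
  cbs := f2_cbs
  fin := f2_fin

theorem f2_F : f2.chkF al5 = true := by decide +kernel
theorem f2_T : allL (f2.chkT al5) f2.act = true := by decide +kernel
theorem f2_S : allLt f2.chkS (len f2.bs) = true := by decide +kernel

theorem f2_v (h : Hs ρ) : Valid ρ al5g (fx f2.hl ++ (f2.extra ++ fx f2.cl)) := by
  refine cert al5ok f2 rfl f2_F f2_T f2_S ?_
  simp only [f2, List.forall_mem_cons, List.not_mem_nil, false_imp_iff, implies_true, and_true]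
  exact ⟨conj al5ok (n5c h) [] _ (by decide +kernel),
    conj al5ok (n5d h) [] _ (by decide +kernel),
    conj al5ok (f1_v h) [] _ (by decide +kernel)⟩

def f3_rs : List Wd :=
    [[], [7], [7, 7], [7, 7, 7], [7, 7, 7, 7]]

def f3_e7 : List Wd :=
    [[], [], [], [], []]

def f3_fin : Cb :=
    [(4, [], 4)]

def f3_cbs : List (List Cb) :=
    [[[]], [[(4, [], 0)]], [[(4, [], 1)]], [[(4, [], 2)]], [[(4, [], 3)]]]

def f3 : Ct where
  p := 5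
  m := 5
  act := [7]
  hl := []
  cl := [0, 2]
  extra := []
  rules :=
    [[([7], 1)]]
  tabs :=
    [0, 0, 0, 0, 0, 0, 0, 4298115073]
  rs := f3_rs
  eta := [[], [], [], [], [], [], [], f3_e7]
  bs :=
    [[(0, 1), (1, 1), (2, 1), (3, 1), (4, 1)], [(0, 4), (1, 3), (2, 2), (3, 1)], [(0, 1), (1, 3), (2, 1)], [(0, 4), (1, 1)], [(0, 1)]]
  ri := [0, 0, 0, 0, 0]
  cbs := f3_cbs
  fin := f3_fin

theorem f3_F : f3.chkF al5 = true := by decide +kernel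
theorem f3_T : allL (f3.chkT al5) f3.act = true := by decide +kernel
theorem f3_S : allLt f3.chkS (len f3.bs) = true := by decide +kernel

theorem f3_v (h : Hs ρ) : Valid ρ al5g (fx f3.hl ++ (f3.extra ++ fx f3.cl)) := by
  refine cert al5ok f3 rfl f3_F f3_T f3_S ?_
  simp only [f3, List.forall_mem_cons, List.not_mem_nil, false_imp_iff, implies_true, and_true]
  exact conj al5ok (f2_v h) [] _ (by decide +kernel)

theorem n5e (h : Hs ρ) : Valid ρ al5g [([6, 6, 2], 1), ([6, 7, 3], 1)] :=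
  ns al5ok h _ _ [false, false] [false, true, false, true] [true] [true, false, true, false]
    (by decide +kernel) (by decide +kernel) (by decide +kernel)

def f4_rs : List Wd :=
    [[], [2], [3], [6], [7], [2, 2], [3, 2], [6, 2], [7, 2], [2, 3], [3, 3], [6, 3], [7, 3], [6, 6], [7, 6], [6, 7], [7, 7], [3, 2, 2], [6, 2, 2],
    [7, 2, 2], [2, 3, 2], [6, 3, 2], [7, 3, 2], [6, 6, 2], [7, 6, 2], [6, 7, 2], [7, 7, 2], [2, 2, 3], [3, 2, 3], [6, 2, 3], [7, 2, 3], [2, 3, 3],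
    [6, 3, 3], [7, 3, 3], [6, 6, 3], [7, 6, 3], [6, 7, 3], [7, 7, 3], [7, 6, 6], [6, 7, 6], [6, 6, 7], [7, 6, 7], [6, 7, 7], [6, 3, 2, 2], [7, 3, 2,
    2], [6, 6, 2, 2], [7, 6, 2, 2], [6, 7, 2, 2], [7, 7, 2, 2], [6, 2, 3, 2], [7, 2, 3, 2], [6, 6, 3, 2], [7, 6, 3, 2], [6, 7, 3, 2], [7, 7, 3, 2],
    [7, 6, 6, 2], [6, 7, 6, 2], [6, 6, 7, 2], [7, 6, 7, 2], [6, 7, 7, 2], [3, 2, 2, 3], [6, 2, 2, 3], [7, 2, 2, 3], [3, 3, 2, 3], [6, 3, 2, 3], [7,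
    3, 2, 3], [6, 6, 2, 3], [7, 6, 2, 3], [6, 7, 2, 3], [7, 7, 2, 3], [3, 2, 3, 3], [6, 2, 3, 3], [7, 2, 3, 3], [6, 6, 3, 3], [7, 6, 3, 3], [6, 7, 3,
    3], [7, 7, 3, 3], [7, 6, 6, 3], [6, 7, 6, 3], [6, 6, 7, 3], [7, 6, 7, 3], [6, 7, 7, 3], [7, 6, 6, 7], [7, 7, 6, 7], [7, 6, 7, 7], [6, 6, 3, 2,
    2], [7, 6, 3, 2, 2], [6, 7, 3, 2, 2], [7, 7, 3, 2, 2], [7, 6, 6, 2, 2], [6, 7, 6, 2, 2], [6, 6, 7, 2, 2], [7, 6, 7, 2, 2], [6, 7, 7, 2, 2], [6,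
    6, 2, 3, 2], [7, 6, 2, 3, 2], [6, 7, 2, 3, 2], [7, 7, 2, 3, 2], [7, 6, 6, 3, 2], [6, 7, 6, 3, 2], [6, 6, 7, 3, 2], [7, 6, 7, 3, 2], [6, 7, 7, 3,
    2], [7, 6, 6, 7, 2], [7, 7, 6, 7, 2], [7, 6, 7, 7, 2], [6, 3, 2, 2, 3], [7, 3, 2, 2, 3], [6, 6, 2, 2, 3], [7, 6, 2, 2, 3], [6, 7, 2, 2, 3], [7,
    7, 2, 2, 3], [6, 3, 3, 2, 3], [7, 3, 3, 2, 3], [6, 6, 3, 2, 3], [7, 6, 3, 2, 3], [6, 7, 3, 2, 3], [7, 7, 3, 2, 3], [7, 6, 6, 2, 3], [6, 7, 6, 2,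
    3], [6, 6, 7, 2, 3], [7, 6, 7, 2, 3], [6, 7, 7, 2, 3], [6, 3, 2, 3, 3], [7, 3, 2, 3, 3], [6, 6, 2, 3, 3], [7, 6, 2, 3, 3], [6, 7, 2, 3, 3], [7,
    7, 2, 3, 3], [7, 6, 6, 3, 3], [6, 7, 6, 3, 3], [6, 6, 7, 3, 3], [7, 6, 7, 3, 3], [6, 7, 7, 3, 3], [7, 6, 6, 7, 3], [7, 7, 6, 7, 3], [7, 6, 7, 7,
    3], [7, 6, 6, 3, 2, 2], [6, 7, 6, 3, 2, 2], [6, 6, 7, 3, 2, 2], [7, 6, 7, 3, 2, 2], [6, 7, 7, 3, 2, 2], [7, 6, 6, 7, 2, 2], [7, 7, 6, 7, 2, 2],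
    [7, 6, 7, 7, 2, 2], [7, 6, 6, 2, 3, 2], [6, 7, 6, 2, 3, 2], [6, 6, 7, 2, 3, 2], [7, 6, 7, 2, 3, 2], [6, 7, 7, 2, 3, 2], [7, 6, 6, 7, 3, 2], [7,
    7, 6, 7, 3, 2], [7, 6, 7, 7, 3, 2], [6, 6, 3, 2, 2, 3], [7, 6, 3, 2, 2, 3], [6, 7, 3, 2, 2, 3], [7, 7, 3, 2, 2, 3], [7, 6, 6, 2, 2, 3], [6, 7, 6,
    2, 2, 3], [6, 6, 7, 2, 2, 3], [7, 6, 7, 2, 2, 3], [6, 7, 7, 2, 2, 3], [6, 6, 3, 3, 2, 3], [7, 6, 3, 3, 2, 3], [6, 7, 3, 3, 2, 3], [7, 7, 3, 3, 2,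
    3], [7, 6, 6, 3, 2, 3], [6, 7, 6, 3, 2, 3], [6, 6, 7, 3, 2, 3], [7, 6, 7, 3, 2, 3], [6, 7, 7, 3, 2, 3], [7, 6, 6, 7, 2, 3], [7, 7, 6, 7, 2, 3],
    [7, 6, 7, 7, 2, 3], [6, 6, 3, 2, 3, 3], [7, 6, 3, 2, 3, 3], [6, 7, 3, 2, 3, 3], [7, 7, 3, 2, 3, 3], [7, 6, 6, 2, 3, 3], [6, 7, 6, 2, 3, 3], [6,
    6, 7, 2, 3, 3], [7, 6, 7, 2, 3, 3], [6, 7, 7, 2, 3, 3], [7, 6, 6, 7, 3, 3], [7, 7, 6, 7, 3, 3], [7, 6, 7, 7, 3, 3], [7, 6, 6, 7, 3, 2, 2], [7, 7,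
    6, 7, 3, 2, 2], [7, 6, 7, 7, 3, 2, 2], [7, 6, 6, 7, 2, 3, 2], [7, 7, 6, 7, 2, 3, 2], [7, 6, 7, 7, 2, 3, 2], [7, 6, 6, 3, 2, 2, 3], [6, 7, 6, 3,
    2, 2, 3], [6, 6, 7, 3, 2, 2, 3], [7, 6, 7, 3, 2, 2, 3], [6, 7, 7, 3, 2, 2, 3], [7, 6, 6, 7, 2, 2, 3], [7, 7, 6, 7, 2, 2, 3], [7, 6, 7, 7, 2, 2,
    3], [7, 6, 6, 3, 3, 2, 3], [6, 7, 6, 3, 3, 2, 3], [6, 6, 7, 3, 3, 2, 3], [7, 6, 7, 3, 3, 2, 3], [6, 7, 7, 3, 3, 2, 3], [7, 6, 6, 7, 3, 2, 3], [7,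
    7, 6, 7, 3, 2, 3], [7, 6, 7, 7, 3, 2, 3], [7, 6, 6, 3, 2, 3, 3], [6, 7, 6, 3, 2, 3, 3], [6, 6, 7, 3, 2, 3, 3], [7, 6, 7, 3, 2, 3, 3], [6, 7, 7,
    3, 2, 3, 3], [7, 6, 6, 7, 2, 3, 3], [7, 7, 6, 7, 2, 3, 3], [7, 6, 7, 7, 2, 3, 3], [7, 6, 6, 7, 3, 2, 2, 3], [7, 7, 6, 7, 3, 2, 2, 3], [7, 6, 7,
    7, 3, 2, 2, 3], [7, 6, 6, 7, 3, 3, 2, 3], [7, 7, 6, 7, 3, 3, 2, 3], [7, 6, 7, 7, 3, 3, 2, 3], [7, 6, 6, 7, 3, 2, 3, 3], [7, 7, 6, 7, 3, 2, 3, 3],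
    [7, 6, 7, 7, 3, 2, 3, 3]]

def f4_e2 : List Wd :=
    [[], [], [], [], [], [], [], [], [], [], [], [], [], [], [], [], [], [0], [], [], [0], [], [], [], [], [], [], [], [0], [], [], [0], [], [], [],
    [], [], [], [], [], [], [], [], [0], [0], [], [], [], [], [0], [0], [], [], [], [], [], [], [], [], [], [1, 0], [], [], [1], [0], [0], [], [],
    [], [], [0], [0], [0], [], [], [], [], [], [], [], [], [], [], [], [], [0], [0], [0], [0], [], [], [], [], [], [0], [0], [0], [0], [], [], [],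
    [], [], [], [], [], [1, 0], [1, 0], [], [], [], [], [1], [1], [0], [0], [0], [0], [], [], [], [], [], [0], [0], [0], [0], [0], [0], [], [], [],
    [], [], [], [], [], [0], [0], [0], [0], [0], [], [], [], [0], [0], [0], [0], [0], [], [], [], [1, 0], [1, 0], [1, 0], [1, 0], [], [], [], [], [],
    [1], [1], [1], [1], [0], [0], [0], [0], [0], [], [], [], [0], [0], [0], [0], [0], [0], [0], [0], [0], [], [], [], [0], [0], [0], [0], [0], [0],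
    [1, 0], [1, 0], [1, 0], [1, 0], [1, 0], [], [], [], [1], [1], [1], [1], [1], [0], [0], [0], [0], [0], [0], [0], [0], [0], [0], [0], [1, 0], [1,
    0], [1, 0], [1], [1], [1], [0], [0], [0]]

def f4_e3 : List Wd :=
    [[], [], [], [], [], [], [1], [], [], [], [1], [], [], [], [], [], [], [1, 0], [], [], [1, 0], [1], [1], [], [], [], [], [], [], [], [], [], [1],
    [1], [], [], [], [], [], [], [], [], [], [1, 0], [1, 0], [], [], [], [], [1, 0], [1, 0], [1], [1], [1], [1], [], [], [], [], [], [1], [], [],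
    [1], [], [], [], [], [], [], [], [], [], [1], [1], [1], [1], [], [], [], [], [], [], [], [], [1, 0], [1, 0], [1, 0], [1, 0], [], [], [], [], [],
    [1, 0], [1, 0], [1, 0], [1, 0], [1], [1], [1], [1], [1], [], [], [], [1], [1], [], [], [], [], [1], [1], [], [], [], [], [], [], [], [], [], [],
    [], [], [], [], [], [1], [1], [1], [1], [1], [], [], [], [1, 0], [1, 0], [1, 0], [1, 0], [1, 0], [], [], [], [1, 0], [1, 0], [1, 0], [1, 0], [1,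
    0], [1], [1], [1], [1], [1], [1], [1], [], [], [], [], [], [1], [1], [1], [1], [], [], [], [], [], [], [], [], [], [], [], [], [], [], [], [],
    [], [1], [1], [1], [1, 0], [1, 0], [1, 0], [1, 0], [1, 0], [1, 0], [1], [1], [1], [1], [1], [], [], [], [1], [1], [1], [1], [1], [], [], [], [],
    [], [], [], [], [], [], [], [1], [1], [1], [1], [1], [1], [], [], []]

def f4_e6 : List Wd :=
    [[], [], [], [], [], [], [], [], [], [], [], [], [], [], [], [], [], [], [], [], [], [], [], [], [], [], [], [], [], [], [], [], [], [], [], [],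
    [], [], [4], [4], [], [4], [4], [], [], [], [], [], [], [], [], [], [], [], [], [4], [4], [], [4], [4], [], [], [], [], [], [], [], [], [], [],
    [], [], [], [], [], [], [], [4], [4], [], [4], [4], [5, 4], [5], [4], [], [], [], [], [4], [4], [], [4], [4], [], [], [], [], [4], [4], [], [4],
    [4], [5, 4], [5], [4], [], [], [], [], [], [], [], [], [], [], [], [], [4], [4], [], [4], [4], [], [], [], [], [], [], [4], [4], [], [4], [4],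
    [5, 4], [5], [4], [4], [4], [], [4], [4], [5, 4], [5], [4], [4], [4], [], [4], [4], [5, 4], [5], [4], [], [], [], [], [4], [4], [], [4], [4], [],
    [], [], [], [4], [4], [], [4], [4], [5, 4], [5], [4], [], [], [], [], [4], [4], [], [4], [4], [5, 4], [5], [4], [5, 4], [5], [4], [5, 4], [5],
    [4], [4], [4], [], [4], [4], [5, 4], [5], [4], [4], [4], [], [4], [4], [5, 4], [5], [4], [4], [4], [], [4], [4], [5, 4], [5], [4], [5, 4], [5],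
    [4], [5, 4], [5], [4], [5, 4], [5], [4]]

def f4_e7 : List Wd :=
    [[], [], [], [], [], [], [], [], [], [], [], [], [], [], [5], [], [5], [], [], [], [], [], [], [], [5], [], [5], [], [], [], [], [], [], [], [],
    [5], [], [5], [5, 4], [5, 4], [], [], [], [], [], [], [5], [], [5], [], [], [], [5], [], [5], [5, 4], [5, 4], [], [], [], [], [], [], [], [], [],
    [], [5], [], [5], [], [], [], [], [5], [], [5], [5, 4], [5, 4], [], [], [], [5], [5], [], [], [5], [], [5], [5, 4], [5, 4], [], [], [], [], [5],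
    [], [5], [5, 4], [5, 4], [], [], [], [5], [5], [], [], [], [], [5], [], [5], [], [], [], [5], [], [5], [5, 4], [5, 4], [], [], [], [], [], [],
    [5], [], [5], [5, 4], [5, 4], [], [], [], [5], [5], [], [5, 4], [5, 4], [], [], [], [5], [5], [], [5, 4], [5, 4], [], [], [], [5], [5], [], [],
    [5], [], [5], [5, 4], [5, 4], [], [], [], [], [5], [], [5], [5, 4], [5, 4], [], [], [], [5], [5], [], [], [5], [], [5], [5, 4], [5, 4], [], [],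
    [], [5], [5], [], [5], [5], [], [5], [5], [], [5, 4], [5, 4], [], [], [], [5], [5], [], [5, 4], [5, 4], [], [], [], [5], [5], [], [5, 4], [5, 4],
    [], [], [], [5], [5], [], [5], [5], [], [5], [5], [], [5], [5], []]

def f4_fin : Cb :=
    [(4, [], 0), (4, [3], 0), (1, [6], 0), (3, [7], 0), (4, [6, 3], 0), (1, [7, 3], 0), (1, [6, 6], 0), (3, [7, 6], 0), (2, [6, 7], 0), (2, [7, 7],
    0), (4, [2, 2, 3], 0), (4, [7, 2, 3], 0), (4, [6, 6, 3], 0), (1, [7, 6, 3], 0), (3, [6, 7, 3], 0), (3, [7, 7, 3], 0), (3, [7, 6, 6], 0), (2, [6,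
    7, 6], 0), (3, [6, 6, 7], 0), (3, [7, 6, 7], 0), (3, [6, 7, 7], 0), (1, [3, 2, 2, 3], 0), (4, [6, 2, 2, 3], 0), (1, [7, 2, 2, 3], 0), (4, [7, 6,
    2, 3], 0), (1, [6, 7, 2, 3], 0), (1, [7, 7, 2, 3], 0), (1, [7, 6, 6, 3], 0), (3, [6, 7, 6, 3], 0), (3, [6, 6, 7, 3], 0), (3, [7, 6, 7, 3], 0),
    (3, [6, 7, 7, 3], 0), (1, [7, 6, 6, 7], 0), (1, [7, 7, 6, 7], 0), (1, [7, 6, 7, 7], 0), (1, [6, 3, 2, 2, 3], 0), (2, [7, 3, 2, 2, 3], 0), (4, [6,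
    6, 2, 2, 3], 0), (1, [7, 6, 2, 2, 3], 0), (4, [7, 6, 6, 2, 3], 0), (1, [6, 7, 6, 2, 3], 0), (4, [6, 6, 7, 2, 3], 0), (4, [7, 6, 7, 2, 3], 0), (4,
    [6, 7, 7, 2, 3], 0), (1, [6, 6, 3, 2, 2, 3], 0), (2, [7, 6, 3, 2, 2, 3], 0), (1, [7, 6, 6, 2, 2, 3], 0), (1, [6, 6, 7, 2, 2, 3], 0), (1, [7, 6,
    7, 2, 2, 3], 0), (1, [6, 7, 7, 2, 2, 3], 0), (2, [7, 6, 6, 7, 2, 3], 0), (2, [7, 7, 6, 7, 2, 3], 0), (2, [7, 6, 7, 7, 2, 3], 0), (2, [7, 6, 6, 3,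
    2, 2, 3], 0), (3, [7, 6, 6, 7, 3, 2, 2, 3], 0), (3, [7, 7, 6, 7, 3, 2, 2, 3], 0), (3, [7, 6, 7, 7, 3, 2, 2, 3], 0), (3, [], 1), (2, [2], 2), (1,
    [6], 2), (4, [3, 2], 2), (2, [2, 3], 2), (2, [3, 3], 2), (4, [6, 3], 2), (3, [7, 7], 2), (3, [3, 3, 2], 2), (3, [7, 3, 2], 2), (4, [7, 7, 2], 2),
    (3, [2, 2, 3], 2), (2, [3, 2, 3], 2), (3, [6, 2, 3], 2), (2, [2, 3, 3], 2), (1, [7, 6, 3], 2), (4, [2, 2, 3, 2], 2), (4, [3, 2, 3, 2], 2), (1,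
    [2], 3), (4, [3], 3), (4, [6], 3), (1, [7], 3), (1, [3, 2], 3), (1, [7, 2], 3), (1, [6, 3], 3), (1, [7, 6], 3), (2, [7, 7], 3), (2, [2, 3, 2],
    3), (2, [3, 3, 2], 3), (2, [7, 3, 2], 3), (2, [7, 7, 2], 3), (3, [2, 2, 3], 3), (2, [6, 2, 3], 3), (3, [7, 6, 3], 3), (2, [], 4), (4, [2], 4),
    (4, [3], 4), (4, [7], 4), (3, [2, 2], 4), (2, [3, 2], 4), (2, [7, 2], 4), (3, [2, 3], 4), (3, [3, 3], 4), (3, [6, 7], 4), (3, [7, 7], 4), (4, [3,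
    2, 2], 4), (4, [7, 2, 2], 4), (3, [2, 3, 2], 4), (3, [7, 3, 2], 4), (3, [6, 7, 2], 4), (2, [3, 3, 3], 4), (2, [7, 7, 7], 4), (2, [7, 3, 2, 2],
    4), (3, [], 5), (4, [2], 5), (1, [3], 5), (1, [7], 5), (2, [2, 2], 5), (4, [3, 2], 5), (4, [7, 2], 5), (4, [2, 3], 5), (4, [6, 7], 5), (2, [3, 2,
    2], 5), (2, [7, 2, 2], 5), (1, [3, 3, 2], 5), (1, [7, 3, 2], 5), (1, [7, 7, 2], 5), (2, [2, 2, 3], 5), (3, [3, 3, 3], 5), (2, [6, 6, 7], 5), (3,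
    [7, 7, 7], 5), (3, [7, 3, 2, 2], 5)]

def f4_cbs : List (List Cb) :=
    [[[], []], [[], []], [[], []], [[], []], [[], []], [[], []]]

def f4 : Ct where
  p := 5
  m := 225
  act := [2, 3, 6, 7]
  hl := [0, 1, 4, 5]
  cl := []
  extra := []
  rules :=
    [[([3, 3, 3, 2, 3, 2, 2], 1), ([2], 1)], [([7, 7, 7, 6, 7, 6, 6], 1), ([6], 1)], [([6, 2], 1), ([7, 3], 1)], [([6, 6, 2], 1), ([6, 7, 3], 1)]]
  tabs :=
    [0, 0,
    44875051807754404043963545811696207150482029614708646452077171387748710324685255533426080229010501159089718700049146630241151227454798647531200549977244490636323022207560229092978847763608845284421985544202632628141034205145889579704052544442390569836141556604045009271814320717283419616166781748302476725282586422967931893127149589634931169726230503427634699865518325925901311025381186464812827704732721206839797070561690814030511811439094875698945843564126004028745017736308899007050722540640585420960693915252211787588094807892207116673299710366071697594440656848358729667967652276048529346192733252130918430614033556061662129308930796586970381995768867378530762685328397313,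
    29239783597601538068904104279049906228237637027786048978127222249655340141254756323180110593398556786642471666497837038452759004401192410742405053473520277469042990397322973082376594948009600103964319710153966242126588774492062335670247029537850135470427500287733852596347292425511604145996455360453454180150756464440029945539148932993330829856258090556621812044233320764385761748574538523041725330370892659413060454571036613893231743641646535382619696999285405230009311379451429081898908378330817416931523041684381937130624536364302711580617720855916163982025992635917182899289539594310131959641212307643403952340991452252106381596227735211076991541982383354069013980914915330,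
    0, 0,
    45281163250557865835934110768030821575029602170469328942050487488777837157570568962940578860055422319030007538232519995502746044018918839916028085198799594377236588163715090072331874512909381963584714188488730518135678121440288294635763110816585651842036699886157509311606408175580352177517292656404072807920820979110742735923777186949035277451989044669986414104963873577303096825203476699513770229299269308570273485624579429671676549450364383652498707469343617105969975501940834141730564945673044330571001261245106138217454858686171766674624476527524771974556371877978014516564475718044847319494016517385781537995729848702245197088566509887905906683875453564443726672508754947,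
    35321521672643689204057994116603999408477224388787223989279499875056276720590644249969437337363720402397385079575431564159434908014552357827379087871100168983291625473061030709367803097544010732271488185724712980917470507129204983134466942522795042904618578510061121009128864465098205821757954512534242989361406423767457994846260428808177270024844691432482208749977700858788399834913550757672828343587910008493516453372723490718246772503737527458922681289437552920741934096916212548981218073205611182919869412827446584227427848986799804667203998498207053635222152443319139623635562314605799018815960938582209864115965296119024571200156757205320405485580246701822825860282982404]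
  rs := f4_rs
  eta := [[], [], f4_e2, f4_e3, [], [], f4_e6, f4_e7]
  bs :=
    [[(0, 1), (1, 1), (5, 1)], [(0, 1), (3, 1), (13, 1)], [(0, 1), (7, 1), (12, 1), (45, 1), (52, 1), (68, 1), (76, 1), (137, 1), (146, 1), (159, 1),
    (169, 1), (182, 1), (216, 1), (220, 1), (224, 1)], [(1, 1), (13, 1), (18, 1), (22, 1), (69, 1), (77, 1), (86, 1), (96, 1), (130, 1), (161, 1),
    (168, 1), (181, 1), (218, 1), (219, 1), (223, 1)], [(0, 1), (18, 1), (23, 1), (30, 1), (36, 1), (54, 1), (74, 1), (138, 1), (145, 1), (159, 1),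
    (170, 1), (181, 1), (218, 1), (220, 1), (222, 1)], [(1, 1), (3, 1), (45, 1), (50, 1), (53, 1), (67, 1), (78, 1), (88, 1), (129, 1), (160, 1),
    (168, 1), (182, 1), (216, 1), (221, 1), (223, 1)]]
  ri := [0, 1, 2, 2, 3, 3]
  cbs := f4_cbs
  fin := f4_fin

theorem f4_F : f4.chkF al5 = true := by decide +kernel
theorem f4_T : allL (f4.chkT al5) f4.act = true := by decide +kernel
theorem f4_S : allLt f4.chkS (len f4.bs) = true := by decide +kernel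

theorem f4_v (h : Hs ρ) : Valid ρ al5g (fx f4.hl ++ (f4.extra ++ fx f4.cl)) := by
  refine cert al5ok f4 rfl f4_F f4_T f4_S ?_
  simp only [f4, List.forall_mem_cons, List.not_mem_nil, false_imp_iff, implies_true, and_true]
  exact ⟨conj al5ok (f3_v h) [] _ (by decide +kernel),
    conj al5ok (f3_v h) [10] _ (by decide +kernel),
    conj al5ok (n5b h) [] _ (by decide +kernel),
    conj al5ok (n5e h) [] _ (by decide +kernel)⟩

def f5_rs : List Wd :=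
    [[], [9], [7, 9], [9, 9], [7, 7, 9], [9, 7, 9], [7, 9, 9], [7, 7, 7, 9], [9, 7, 7, 9], [7, 9, 7, 9], [9, 9, 7, 9], [7, 7, 9, 9], [9, 7, 9, 9],
    [7, 7, 7, 7, 9], [7, 9, 7, 7, 9], [9, 9, 7, 7, 9], [7, 7, 9, 7, 9], [9, 7, 9, 7, 9], [7, 9, 9, 7, 9], [7, 7, 7, 9, 9], [9, 7, 7, 9, 9], [7, 9, 7,
    9, 9], [9, 9, 7, 9, 9], [9, 7, 7, 7, 7, 9], [7, 7, 9, 7, 7, 9], [9, 7, 9, 7, 7, 9], [7, 9, 9, 7, 7, 9], [7, 7, 7, 9, 7, 9], [9, 7, 7, 9, 7, 9],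
    [9, 9, 7, 9, 7, 9], [7, 7, 9, 9, 7, 9], [9, 7, 9, 9, 7, 9], [9, 7, 7, 7, 9, 9], [7, 9, 7, 7, 9, 9], [7, 7, 9, 7, 9, 9], [9, 7, 9, 7, 9, 9], [7,
    9, 9, 7, 9, 9], [9, 9, 7, 7, 7, 7, 9], [7, 7, 7, 9, 7, 7, 9], [9, 7, 9, 9, 7, 7, 9], [7, 7, 7, 7, 9, 7, 9], [9, 7, 7, 7, 9, 7, 9], [7, 9, 7, 7,
    9, 7, 9], [9, 9, 7, 7, 9, 7, 9], [9, 7, 7, 9, 9, 7, 9], [7, 9, 7, 9, 9, 7, 9], [7, 9, 7, 7, 7, 9, 9], [9, 7, 9, 7, 7, 9, 9], [7, 7, 7, 9, 7, 9,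
    9], [9, 7, 7, 9, 7, 9, 9], [9, 9, 7, 9, 7, 9, 9], [7, 7, 7, 7, 9, 7, 7, 9], [7, 9, 7, 9, 9, 7, 7, 9], [9, 9, 7, 9, 9, 7, 7, 9], [9, 7, 7, 7, 7,
    9, 7, 9], [7, 9, 7, 7, 7, 9, 7, 9], [7, 7, 9, 7, 7, 9, 7, 9], [9, 7, 9, 7, 7, 9, 7, 9], [7, 9, 9, 7, 7, 9, 7, 9], [9, 7, 9, 7, 9, 9, 7, 9], [7,
    7, 9, 7, 7, 7, 9, 9], [9, 9, 7, 9, 7, 7, 9, 9], [9, 7, 7, 7, 7, 9, 7, 7, 9], [7, 7, 9, 7, 9, 9, 7, 7, 9], [9, 9, 7, 7, 7, 7, 9, 7, 9], [7, 7, 9,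
    7, 7, 7, 9, 7, 9], [9, 9, 7, 9, 7, 7, 9, 7, 9], [9, 9, 7, 9, 7, 9, 9, 7, 9], [9, 7, 7, 9, 7, 7, 7, 9, 9], [9, 7, 7, 9, 7, 9, 9, 7, 7, 9], [9, 7,
    7, 9, 7, 7, 7, 9, 7, 9], [9, 9, 7, 7, 9, 7, 9, 9, 7, 7, 9]]

def f5_e7 : List Wd :=
    [[7], [], [], [], [], [], [], [], [], [], [], [], [], [], [], [], [], [7, 7, 7, 7], [], [7], [], [], [], [7], [], [7], [], [], [], [7, 7, 7],
    [7], [], [], [7, 7, 7], [], [], [7, 7, 7, 7], [7, 7, 7, 7], [], [], [], [], [], [], [7, 7, 7, 7], [7, 7, 7], [], [], [7, 7], [7], [7, 7], [], [],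
    [], [7, 7], [], [7, 7, 7], [], [7], [], [], [7, 7, 7], [7, 7], [7, 7, 7], [], [7, 7], [], [7, 7], [], [7, 7, 7], [], [7, 7, 7, 7]]

def f5_e9 : List Wd :=
    [[], [], [], [], [], [], [], [7, 7], [], [], [], [], [], [], [], [], [], [], [], [], [7, 7, 7], [], [], [], [7, 7, 7], [7, 7], [], [], [], [],
    [], [7], [7, 7], [], [], [], [7, 7, 7], [], [7, 7, 7, 7], [], [], [7, 7], [], [], [7], [], [7, 7, 7], [], [7, 7], [7, 7], [], [], [7, 7, 7], [],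
    [], [7, 7, 7], [7, 7, 7, 7], [], [7, 7, 7, 7], [], [], [], [7, 7, 7], [], [], [], [], [], [7, 7], [], [7], []]

def f5_fin : Cb :=
    [(4, [7, 7], 0), (2, [7, 9], 0), (3, [9, 9], 0), (1, [7, 7, 7], 0), (4, [9, 7, 7], 0), (4, [7, 9, 7], 0), (4, [9, 9, 7], 0), (3, [7, 7, 9], 0),
    (4, [7, 9, 9], 0), (4, [9, 7, 7, 7], 0), (1, [9, 9, 7, 7], 0), (1, [7, 7, 9, 7], 0), (2, [7, 9, 9, 7], 0), (1, [7, 7, 7, 9], 0), (4, [9, 7, 7,
    9], 0), (1, [9, 9, 7, 9], 0), (1, [7, 7, 9, 9], 0), (4, [9, 7, 9, 9], 0), (1, [7, 7, 7, 9, 7], 0), (3, [7, 7, 9, 9, 7], 0), (1, [7, 7, 7, 7, 9],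
    0), (1, [9, 7, 7, 7, 9], 0), (4, [7, 9, 7, 7, 9], 0), (1, [7, 7, 7, 9, 9], 0), (3, [7, 7, 7, 7, 9, 7], 0), (2, [7, 7, 7, 9, 9, 7], 0), (1, [9, 7,
    7, 7, 7, 9], 0), (4, [7, 7, 9, 7, 7, 9], 0), (4, [7], 1), (2, [9], 1), (4, [7, 7], 1), (1, [9, 7], 1), (1, [9, 9], 1), (1, [9, 7, 7], 1), (1, [7,
    9, 7], 1), (1, [9, 9, 7], 1), (3, [7, 9, 9], 1), (3, [7, 7, 7, 7], 1), (1, [9, 9, 7, 7], 1), (4, [7, 7, 9, 7], 1), (1, [9, 7, 9, 7], 1), (2, [7,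
    7, 9, 9], 1), (3, [9, 7, 9, 9], 1), (1, [7, 7, 7, 9, 7], 1), (1, [7, 9, 7, 9, 7], 1), (4, [9, 9, 7, 9, 7], 1), (2, [9, 7, 9, 9, 7], 1), (4, [9,
    9, 7, 7, 7, 7], 1), (4, [9, 9, 7, 7, 9, 7], 1), (4, [], 2), (3, [9], 2), (1, [9, 7], 2), (4, [9, 9], 2), (4, [7, 7, 7], 2), (1, [7, 9, 9], 2),
    (2, [7, 7, 9, 7], 2)]

def f5_cbs : List (List Cb) :=
    [[[], []], [[], []], [[], []]]

def f5 : Ct where
  p := 5
  m := 72
  act := [7, 9]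
  hl := [7]
  cl := [0, 1]
  extra := []
  rules :=
    [[([9, 7, 9, 9, 7, 9, 7, 7, 7], 1), ([7, 7, 7, 7, 9, 7, 9, 7, 7], 1)]]
  tabs :=
    [0, 0, 0, 0, 0, 0, 0,
    382638292063651257533233196361357523132752750406504124846287992177665956060117858660145104521467788647999550411404723530823059029365214516825699841388155269907586028084470541282782410295352690598209519760110652491776,
    0,
    339647340110410239098891817429293935012249384621690700149763389925898673630800038250852964990611316302395741242859383084762906695684283796174253147907770353654281953427604481046753081674009688775682631203940553722881]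
  rs := f5_rs
  eta := [[], [], [], [], [], [], [], f5_e7, [], f5_e9]
  bs :=
    [[(0, 1), (31, 1), (40, 1), (71, 1)], [(1, 1), (18, 1), (53, 1), (56, 1)], [(3, 1), (38, 1), (50, 1), (70, 1)]]
  ri := [0, 0, 0]
  cbs := f5_cbs
  fin := f5_fin

theorem f5_F : f5.chkF al5 = true := by decide +kernel
theorem f5_T : allL (f5.chkT al5) f5.act = true := by decide +kernel
theorem f5_S : allLt f5.chkS (len f5.bs) = true := by decide +kernel

theorem f5_v (h : Hs ρ) : Valid ρ al5g (fx f5.hl ++ (f5.extra ++ fx f5.cl)) := by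
  refine cert al5ok f5 rfl f5_F f5_T f5_S ?_
  simp only [f5, List.forall_mem_cons, List.not_mem_nil, false_imp_iff, implies_true, and_true]
  exact conj al5ok (f4_v h) [] _ (by decide +kernel)

def f6_rs : List Wd :=
    [[], [7], [7, 7], [7, 7, 7], [7, 7, 7, 7]]

def f6_e7 : List Wd :=
    [[], [], [], [], []]

def f6_fin : Cb :=
    [(4, [], 4)]

def f6_cbs : List (List Cb) :=
    [[[]], [[(4, [], 0)]], [[(4, [], 1)]], [[(4, [], 2)]], [[(4, [], 3)]]]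

def f6 : Ct where
  p := 5
  m := 5
  act := [7]
  hl := []
  cl := [0, 1]
  extra := []
  rules :=
    [[([7], 1)]]
  tabs :=
    [0, 0, 0, 0, 0, 0, 0, 4298115073]
  rs := f6_rs
  eta := [[], [], [], [], [], [], [], f6_e7]
  bs :=
    [[(0, 1), (1, 1), (2, 1), (3, 1), (4, 1)], [(0, 4), (1, 3), (2, 2), (3, 1)], [(0, 1), (1, 3), (2, 1)], [(0, 4), (1, 1)], [(0, 1)]]
  ri := [0, 0, 0, 0, 0]
  cbs := f6_cbs
  fin := f6_fin

theorem f6_F : f6.chkF al5 = true := by decide +kernel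
theorem f6_T : allL (f6.chkT al5) f6.act = true := by decide +kernel
theorem f6_S : allLt f6.chkS (len f6.bs) = true := by decide +kernel

theorem f6_v (h : Hs ρ) : Valid ρ al5g (fx f6.hl ++ (f6.extra ++ fx f6.cl)) := by
  refine cert al5ok f6 rfl f6_F f6_T f6_S ?_
  simp only [f6, List.forall_mem_cons, List.not_mem_nil, false_imp_iff, implies_true, and_true]
  exact conj al5ok (f5_v h) [] _ (by decide +kernel)

def f7_rs : List Wd :=
    [[], [9], [7, 9], [9, 9], [7, 7, 9], [9, 7, 9], [7, 9, 9], [7, 7, 7, 9], [9, 7, 7, 9], [7, 9, 7, 9], [9, 9, 7, 9], [7, 7, 9, 9], [9, 7, 9, 9],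
    [7, 7, 7, 7, 9], [7, 9, 7, 7, 9], [9, 9, 7, 7, 9], [7, 7, 9, 7, 9], [9, 7, 9, 7, 9], [7, 9, 9, 7, 9], [7, 7, 7, 9, 9], [9, 7, 7, 9, 9], [7, 9, 7,
    9, 9], [9, 9, 7, 9, 9], [9, 7, 7, 7, 7, 9], [7, 7, 9, 7, 7, 9], [9, 7, 9, 7, 7, 9], [7, 9, 9, 7, 7, 9], [7, 7, 7, 9, 7, 9], [9, 7, 7, 9, 7, 9],
    [9, 9, 7, 9, 7, 9], [7, 7, 9, 9, 7, 9], [9, 7, 9, 9, 7, 9], [9, 7, 7, 7, 9, 9], [7, 9, 7, 7, 9, 9], [7, 7, 9, 7, 9, 9], [9, 7, 9, 7, 9, 9], [7,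
    9, 9, 7, 9, 9], [9, 9, 7, 7, 7, 7, 9], [7, 7, 7, 9, 7, 7, 9], [9, 7, 9, 9, 7, 7, 9], [7, 7, 7, 7, 9, 7, 9], [9, 7, 7, 7, 9, 7, 9], [7, 9, 7, 7,
    9, 7, 9], [9, 9, 7, 7, 9, 7, 9], [9, 7, 7, 9, 9, 7, 9], [7, 9, 7, 9, 9, 7, 9], [7, 9, 7, 7, 7, 9, 9], [9, 7, 9, 7, 7, 9, 9], [7, 7, 7, 9, 7, 9,
    9], [9, 7, 7, 9, 7, 9, 9], [9, 9, 7, 9, 7, 9, 9], [7, 7, 7, 7, 9, 7, 7, 9], [7, 9, 7, 9, 9, 7, 7, 9], [9, 9, 7, 9, 9, 7, 7, 9], [9, 7, 7, 7, 7,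
    9, 7, 9], [7, 9, 7, 7, 7, 9, 7, 9], [7, 7, 9, 7, 7, 9, 7, 9], [9, 7, 9, 7, 7, 9, 7, 9], [7, 9, 9, 7, 7, 9, 7, 9], [9, 7, 9, 7, 9, 9, 7, 9], [7,
    7, 9, 7, 7, 7, 9, 9], [9, 9, 7, 9, 7, 7, 9, 9], [9, 7, 7, 7, 7, 9, 7, 7, 9], [7, 7, 9, 7, 9, 9, 7, 7, 9], [9, 9, 7, 7, 7, 7, 9, 7, 9], [7, 7, 9,
    7, 7, 7, 9, 7, 9], [9, 9, 7, 9, 7, 7, 9, 7, 9], [9, 9, 7, 9, 7, 9, 9, 7, 9], [9, 7, 7, 9, 7, 7, 7, 9, 9], [9, 7, 7, 9, 7, 9, 9, 7, 7, 9], [9, 7,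
    7, 9, 7, 7, 7, 9, 7, 9], [9, 9, 7, 7, 9, 7, 9, 9, 7, 7, 9]]

def f7_e7 : List Wd :=
    [[7], [], [], [], [], [], [], [], [], [], [], [], [], [], [], [], [], [7, 7, 7, 7], [], [7], [], [], [], [7], [], [7], [], [], [], [7, 7, 7],
    [7], [], [], [7, 7, 7], [], [], [7, 7, 7, 7], [7, 7, 7, 7], [], [], [], [], [], [], [7, 7, 7, 7], [7, 7, 7], [], [], [7, 7], [7], [7, 7], [], [],
    [], [7, 7], [], [7, 7, 7], [], [7], [], [], [7, 7, 7], [7, 7], [7, 7, 7], [], [7, 7], [], [7, 7], [], [7, 7, 7], [], [7, 7, 7, 7]]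

def f7_e9 : List Wd :=
    [[], [], [], [], [], [], [], [7, 7], [], [], [], [], [], [], [], [], [], [], [], [], [7, 7, 7], [], [], [], [7, 7, 7], [7, 7], [], [], [], [],
    [], [7], [7, 7], [], [], [], [7, 7, 7], [], [7, 7, 7, 7], [], [], [7, 7], [], [], [7], [], [7, 7, 7], [], [7, 7], [7, 7], [], [], [7, 7, 7], [],
    [], [7, 7, 7], [7, 7, 7, 7], [], [7, 7, 7, 7], [], [], [], [7, 7, 7], [], [], [], [], [], [7, 7], [], [7], []]

def f7_fin : Cb :=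
    [(4, [7, 7], 0), (2, [7, 9], 0), (3, [9, 9], 0), (1, [7, 7, 7], 0), (4, [9, 7, 7], 0), (4, [7, 9, 7], 0), (4, [9, 9, 7], 0), (3, [7, 7, 9], 0),
    (4, [7, 9, 9], 0), (4, [9, 7, 7, 7], 0), (1, [9, 9, 7, 7], 0), (1, [7, 7, 9, 7], 0), (2, [7, 9, 9, 7], 0), (1, [7, 7, 7, 9], 0), (4, [9, 7, 7,
    9], 0), (1, [9, 9, 7, 9], 0), (1, [7, 7, 9, 9], 0), (4, [9, 7, 9, 9], 0), (1, [7, 7, 7, 9, 7], 0), (3, [7, 7, 9, 9, 7], 0), (1, [7, 7, 7, 7, 9],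
    0), (1, [9, 7, 7, 7, 9], 0), (4, [7, 9, 7, 7, 9], 0), (1, [7, 7, 7, 9, 9], 0), (3, [7, 7, 7, 7, 9, 7], 0), (2, [7, 7, 7, 9, 9, 7], 0), (1, [9, 7,
    7, 7, 7, 9], 0), (4, [7, 7, 9, 7, 7, 9], 0), (4, [7], 1), (2, [9], 1), (4, [7, 7], 1), (1, [9, 7], 1), (1, [9, 9], 1), (1, [9, 7, 7], 1), (1, [7,
    9, 7], 1), (1, [9, 9, 7], 1), (3, [7, 9, 9], 1), (3, [7, 7, 7, 7], 1), (1, [9, 9, 7, 7], 1), (4, [7, 7, 9, 7], 1), (1, [9, 7, 9, 7], 1), (2, [7,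
    7, 9, 9], 1), (3, [9, 7, 9, 9], 1), (1, [7, 7, 7, 9, 7], 1), (1, [7, 9, 7, 9, 7], 1), (4, [9, 9, 7, 9, 7], 1), (2, [9, 7, 9, 9, 7], 1), (4, [9,
    9, 7, 7, 7, 7], 1), (4, [9, 9, 7, 7, 9, 7], 1), (4, [], 2), (3, [9], 2), (1, [9, 7], 2), (4, [9, 9], 2), (4, [7, 7, 7], 2), (1, [7, 9, 9], 2),
    (2, [7, 7, 9, 7], 2)]

def f7_cbs : List (List Cb) :=
    [[[], []], [[], []], [[], []]]

def f7 : Ct where
  p := 5
  m := 72
  act := [7, 9]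
  hl := [7]
  cl := []
  extra := []
  rules :=
    [[([9, 7, 9, 9, 7, 9, 7, 7, 7], 1), ([7, 7, 7, 7, 9, 7, 9, 7, 7], 1)]]
  tabs :=
    [0, 0, 0, 0, 0, 0, 0,
    382638292063651257533233196361357523132752750406504124846287992177665956060117858660145104521467788647999550411404723530823059029365214516825699841388155269907586028084470541282782410295352690598209519760110652491776,
    0,
    339647340110410239098891817429293935012249384621690700149763389925898673630800038250852964990611316302395741242859383084762906695684283796174253147907770353654281953427604481046753081674009688775682631203940553722881]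
  rs := f7_rs
  eta := [[], [], [], [], [], [], [], f7_e7, [], f7_e9]
  bs :=
    [[(0, 1), (31, 1), (40, 1), (71, 1)], [(1, 1), (18, 1), (53, 1), (56, 1)], [(3, 1), (38, 1), (50, 1), (70, 1)]]
  ri := [0, 0, 0]
  cbs := f7_cbs
  fin := f7_fin

theorem f7_F : f7.chkF al5 = true := by decide +kernel
theorem f7_T : allL (f7.chkT al5) f7.act = true := by decide +kernel
theorem f7_S : allLt f7.chkS (len f7.bs) = true := by decide +kernel

theorem f7_v (h : Hs ρ) : Valid ρ al5g (fx f7.hl ++ (f7.extra ++ fx f7.cl)) := by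
  refine cert al5ok f7 rfl f7_F f7_T f7_S ?_
  simp only [f7, List.forall_mem_cons, List.not_mem_nil, false_imp_iff, implies_true, and_true]
  exact conj al5ok (f6_v h) [10] _ (by decide +kernel)

def f8_rs : List Wd :=
    [[], [7], [7, 7], [7, 7, 7], [7, 7, 7, 7]]

def f8_e7 : List Wd :=
    [[], [], [], [], []]

def f8_fin : Cb :=
    [(4, [], 4)]

def f8_cbs : List (List Cb) :=
    [[[]], [[(4, [], 0)]], [[(4, [], 1)]], [[(4, [], 2)]], [[(4, [], 3)]]]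

def f8 : Ct where
  p := 5
  m := 5
  act := [7]
  hl := []
  cl := []
  extra := []
  rules :=
    [[([7], 1)]]
  tabs :=
    [0, 0, 0, 0, 0, 0, 0, 4298115073]
  rs := f8_rs
  eta := [[], [], [], [], [], [], [], f8_e7]
  bs :=
    [[(0, 1), (1, 1), (2, 1), (3, 1), (4, 1)], [(0, 4), (1, 3), (2, 2), (3, 1)], [(0, 1), (1, 3), (2, 1)], [(0, 4), (1, 1)], [(0, 1)]]
  ri := [0, 0, 0, 0, 0]
  cbs := f8_cbs
  fin := f8_fin

theorem f8_F : f8.chkF al5 = true := by decide +kernel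
theorem f8_T : allL (f8.chkT al5) f8.act = true := by decide +kernel
theorem f8_S : allLt f8.chkS (len f8.bs) = true := by decide +kernel

theorem f8_v (h : Hs ρ) : Valid ρ al5g (fx f8.hl ++ (f8.extra ++ fx f8.cl)) := by
  refine cert al5ok f8 rfl f8_F f8_T f8_S ?_
  simp only [f8, List.forall_mem_cons, List.not_mem_nil, false_imp_iff, implies_true, and_true]
  exact conj al5ok (f7_v h) [] _ (by decide +kernel)

/-- Over the field with five elements every non-zero module of the alternating group of degree ten has a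
non-zero vector fixed by a non-solvable subgroup. -/
theorem m5 (h : Hs ρ) (v : V) : v = 0 := f8_v h v (fun q hq => absurd hq List.not_mem_nil)

theorem eqns_m5 : True := by
  have := @al5g.eq_1
  have := @f1_rs.eq_1
  have := @f1_e2.eq_1
  have := @f1_e3.eq_1
  have := @f1_e6.eq_1
  have := @f1_e7.eq_1
  have := @f1_e8.eq_1
  have := @f1_fin.eq_1
  have := @f1_cbs.eq_1
  have := @f1.eq_1
  have := @f2_rs.eq_1
  have := @f2_e7.eq_1
  have := @f2_e8.eq_1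
  have := @f2_e9.eq_1
  have := @f2_fin.eq_1
  have := @f2_cbs.eq_1
  have := @f2.eq_1
  have := @f3_rs.eq_1
  have := @f3_e7.eq_1
  have := @f3_fin.eq_1
  have := @f3_cbs.eq_1
  have := @f3.eq_1
  have := @f4_rs.eq_1
  have := @f4_e2.eq_1
  have := @f4_e3.eq_1
  have := @f4_e6.eq_1
  have := @f4_e7.eq_1
  have := @f4_fin.eq_1
  have := @f4_cbs.eq_1
  have := @f4.eq_1
  have := @f5_rs.eq_1
  have := @f5_e7.eq_1
  have := @f5_e9.eq_1
  have := @f5_fin.eq_1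
  have := @f5_cbs.eq_1
  have := @f5.eq_1
  have := @f6_rs.eq_1
  have := @f6_e7.eq_1
  have := @f6_fin.eq_1
  have := @f6_cbs.eq_1
  have := @f6.eq_1
  have := @f7_rs.eq_1
  have := @f7_e7.eq_1
  have := @f7_e9.eq_1
  have := @f7_fin.eq_1
  have := @f7_cbs.eq_1
  have := @f7.eq_1
  have := @f8_rs.eq_1
  have := @f8_e7.eq_1
  have := @f8_fin.eq_1
  have := @f8_cbs.eq_1
  have := @f8.eq_1
  trivial

end H87.Spc
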